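import Cfsg.Agent.BlockBasic.Orth
import Cfsg.Agent.CharBasic.Complete

/-!
# The projection of a class function on a block
-/

set_option autoImplicit false
set_option linter.unusedSectionVars false

open scoped ComplexConjugate

namespace Cfsg.Agent.H33.NineTwoQ

open CharBasic BlockBasic

universe u

variable {G : Type u} [Group G] [Fintype G]

open scoped Classical in
theorem sum_block_inner (θ : G → ℂ) (B : Set (IrrCharacter G)) (h : G) :
    (∑ ψ : IrrCharacter G, if ψ ∈ B then classInner θ (ψ : G → ℂ) * (ψ : G → ℂ) h else 0) =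
      (Nat.card G : ℂ)⁻¹ * ∑ g : G, θ g * blockKernel B h g := by
  simp only [blockKernel, finsum_mem_eq_sum_ite, Finset.mul_sum]
  rw [Finset.sum_comm]
  refine Finset.sum_congr rfl fun ψ _ => ?_
  split_ifs with hψ
  · rw [classInner_def, Finset.mul_sum, Finset.sum_mul]
    exact Finset.sum_congr rfl fun g _ => by ring
  · simp

open scoped Classical in
/-- A function vanishing on regular elements has block projections of degree zero. -/
theorem sum_block_degree_eq_zero {p : ℕ} [Fact p.Prime] {M : Ideal AlgInt} (hM : IsPModular p M)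
    {B : Set (IrrCharacter G)} (hB : IsPBlock M B) {θ : G → ℂ}
    (hθ : ∀ g, ¬ p ∣ orderOf g → θ g = 0) :
    (∑ ψ : IrrCharacter G, if ψ ∈ B then classInner θ (ψ : G → ℂ) * (ψ : G → ℂ) 1 else 0) = 0 := by
  rw [sum_block_inner, Finset.sum_eq_zero, mul_zero]
  intro g _
  by_cases hg : p ∣ orderOf g
  · rw [blockKernel_eq_zero_of_regular_of_singular hM hB
      (by rw [orderOf_one]; exact (Fact.out : p.Prime).not_dvd_one) hg, mul_zero]
  · rw [hθ g hg, zero_mul]

open scoped Classical in
/-- A function supported on regular elements has block projections vanishing on singular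
elements. -/
theorem sum_block_singular_eq_zero {p : ℕ} [Fact p.Prime] {M : Ideal AlgInt} (hM : IsPModular p M)
    {B : Set (IrrCharacter G)} (hB : IsPBlock M B) {θ : G → ℂ}
    (hθ : ∀ g, p ∣ orderOf g → θ g = 0) {h : G} (hh : p ∣ orderOf h) :
    (∑ ψ : IrrCharacter G, if ψ ∈ B then classInner θ (ψ : G → ℂ) * (ψ : G → ℂ) h else 0) = 0 := by
  rw [sum_block_inner, Finset.sum_eq_zero, mul_zero]
  intro g _
  by_cases hg : p ∣ orderOf g
  · rw [hθ g hg, zero_mul]
  · rw [← conj_blockKernel, blockKernel_eq_zero_of_regular_of_singular hM hB hg hh, map_zero,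
      mul_zero]

end Cfsg.Agent.H33.NineTwoQ
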