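import Mathlib.Data.Int.ModEq
import Mathlib.Algebra.GCDMonoid.Nat
import Mathlib.RingTheory.Int.Basic
import Mathlib.Tactic.LinearCombination
import Mathlib.Data.Nat.Prime.Basic
import Mathlib.Tactic.Linarith
import Mathlib.Tactic.NormNum.Prime
import Mathlib.Tactic.Ring
import Mathlib.Tactic.Positivity
import Mathlib.Tactic.IntervalCases

/-!
# The arithmetic of the divisors of `9 · 2 ^ a · q` modulo a Mersenne or Fermat prime `q`
-/

set_option autoImplicit false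

namespace Cfsg.Agent.H33.NineTwoQ

theorem shape {q a y : ℕ} (hq : q.Prime) (hy : y ∣ 9 * 2 ^ a * q) (hqy : ¬ q ∣ y) :
    ∃ h m : ℕ, h ≤ 2 ∧ m ≤ a ∧ y = 3 ^ h * 2 ^ m := by
  have h' : y ∣ 3 ^ 2 * 2 ^ a := ((hq.coprime_iff_not_dvd).2 hqy).symm.dvd_of_dvd_mul_right hy
  obtain ⟨x, z, hx, hz, rfl⟩ := exists_dvd_and_dvd_of_dvd_mul h'
  obtain ⟨h, hh, rfl⟩ := (Nat.dvd_prime_pow Nat.prime_three).1 hx
  obtain ⟨m, hm, rfl⟩ := (Nat.dvd_prime_pow Nat.prime_two).1 hz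
  exact ⟨h, m, hh, hm, rfl⟩

theorem shape_odd {q a y : ℕ} (hq : q.Prime) (hy : y ∣ 9 * 2 ^ a * q) (hqy : ¬ q ∣ y)
    (hodd : ¬ 2 ∣ y) : y = 1 ∨ y = 3 ∨ y = 9 := by
  obtain ⟨h, m, hh, -, rfl⟩ := shape hq hy hqy
  rcases m with _ | m
  · interval_cases h <;> norm_num
  · exact absurd ((dvd_pow_self 2 (Nat.succ_ne_zero m)).mul_left _) hodd

/-- Reduction of an exponent of two modulo a Mersenne number. -/
theorem mersenne_pow {q : ℤ} {i : ℕ} (hq : q = 2 ^ i - 1) (n : ℕ) :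
    (2 : ℤ) ^ n ≡ 2 ^ (n % i) [ZMOD q] := by
  have h1 : (2 : ℤ) ^ i ≡ 1 [ZMOD q] := by
    rw [Int.modEq_iff_dvd]
    exact ⟨-1, by rw [hq]; ring⟩
  conv_lhs => rw [← Nat.div_add_mod n i, pow_add, pow_mul]
  simpa using ((h1.pow (n / i)).mul_right (2 ^ (n % i)))

/-- Small multiples: `q ∣ 3 ^ h · 2 ^ r - c` forces equality for a large Mersenne prime. -/
theorem mersenne_small {q : ℤ} {i h r : ℕ} {c : ℤ} (hq : q = 2 ^ i - 1) (hi : 7 ≤ i) (hh : h ≤ 2)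
    (hr : r < i) (hc : c.natAbs ≤ 4) (hdvd : q ∣ 3 ^ h * 2 ^ r - c) : c = 3 ^ h * 2 ^ r := by
  obtain ⟨k, hk⟩ := hdvd
  obtain ⟨d, rfl⟩ : ∃ d, i = r + 1 + d := ⟨i - r - 1, by omega⟩
  have h128 : (128 : ℤ) ≤ 2 ^ (r + 1 + d) := le_trans (by norm_num) (pow_le_pow_right₀ (by norm_num) hi)
  have hX : (2 : ℤ) ^ (r + 1 + d) = 2 * 2 ^ d * 2 ^ r := by rw [pow_add, pow_add]; ring
  have h3 : (3 : ℤ) ^ h = 1 ∨ (3 : ℤ) ^ h = 3 ∨ (3 : ℤ) ^ h = 9 := by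
    interval_cases h <;> norm_num
  have hd1 : (1 : ℤ) ≤ 2 ^ d := one_le_pow₀ (by norm_num)
  have hr1 : (1 : ℤ) ≤ 2 ^ r := one_le_pow₀ (by norm_num)
  rw [hq] at hk
  have hk0 : 0 ≤ k := by
    by_contra hlt
    have h1 : k ≤ -1 := by omega
    have : (2 ^ (r + 1 + d) - 1 : ℤ) * k ≤ -127 := by nlinarith
    rcases h3 with h' | h' | h' <;> rw [h'] at hk <;> omega
  have hk4 : k ≤ 4 := by
    by_contra hlt
    have h1 : 5 ≤ k := by omega
    have h2 : (2 ^ (r + 1 + d) - 1 : ℤ) * 5 ≤ (2 ^ (r + 1 + d) - 1) * k :=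
      mul_le_mul_of_nonneg_left h1 (by omega)
    have h4 : 2 * 2 ^ r ≤ (2 : ℤ) ^ (r + 1 + d) := by rw [hX]; nlinarith
    rcases h3 with h' | h' | h' <;> rw [h'] at hk <;> omega
  rcases Nat.lt_or_ge r 4 with hr4 | hr4
  · have h8 : (2 : ℤ) ^ r ≤ 8 := le_trans (pow_le_pow_right₀ (by norm_num) (show r ≤ 3 by omega)) (by norm_num)
    have : k = 0 := by
      by_contra hne
      have h1 : 1 ≤ k := by omega
      have h2 : (2 ^ (r + 1 + d) - 1 : ℤ) * 1 ≤ (2 ^ (r + 1 + d) - 1) * k :=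
        mul_le_mul_of_nonneg_left h1 (by omega)
      rcases h3 with h' | h' | h' <;> rw [h'] at hk <;> omega
    rw [this, mul_zero] at hk
    linarith
  · -- multiples of sixteen
    obtain ⟨r', rfl⟩ : ∃ r', r = r' + 4 := ⟨r - 4, by omega⟩
    have h16 : (2 : ℤ) ^ (r' + 4) = 16 * 2 ^ r' := by rw [pow_add]; ring
    have hkey : (2 : ℤ) ^ (r' + 4) * (3 ^ h - 2 * 2 ^ d * k) = c - k := by
      rw [hX] at hk; linear_combination hk
    have hck : c - k = 0 := by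
      rw [h16, mul_assoc] at hkey
      omega
    rw [hck] at hkey
    have h0 : (3 : ℤ) ^ h = 2 * (2 ^ d * k) := by
      have := (mul_eq_zero.1 hkey).resolve_left (by positivity)
      linarith
    rcases h3 with h' | h' | h' <;> rw [h'] at h0 <;> omega

/-- `9` is not a power of two modulo a large Fermat prime. -/
theorem fermat_nine {q : ℤ} {i : ℕ} (hq : q = 2 ^ i + 1) (hi : 5 ≤ i) (n : ℕ) :
    ¬ (9 : ℤ) ≡ 2 ^ n [ZMOD q] := by
  intro hn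
  have h1 : (2 : ℤ) ^ i ≡ -1 [ZMOD q] := by
    rw [Int.modEq_iff_dvd]
    exact ⟨-1, by rw [hq]; ring⟩
  have h2 : (2 : ℤ) ^ n ≡ (-1) ^ (n / i) * 2 ^ (n % i) [ZMOD q] := by
    conv_lhs => rw [← Nat.div_add_mod n i, pow_add, pow_mul]
    exact (h1.pow _).mul_right _
  obtain ⟨k, hk⟩ := Int.modEq_iff_dvd.1 (hn.trans h2)
  obtain ⟨r, hr⟩ : ∃ r, n % i = r := ⟨_, rfl⟩
  have hri : r < i := hr ▸ Nat.mod_lt _ (by omega)
  rw [hr] at hk
  have h32 : (32 : ℤ) ≤ 2 ^ i := le_trans (by norm_num) (pow_le_pow_right₀ (by norm_num) hi)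
  have hle : 2 * (2 : ℤ) ^ r ≤ 2 ^ i := by
    rw [← pow_succ']
    exact pow_le_pow_right₀ (by norm_num) hri
  have hpos : (1 : ℤ) ≤ 2 ^ r := one_le_pow₀ (by norm_num)
  rw [hq] at hk
  have hk0 : k = 0 := by
    rcases lt_trichotomy k 0 with h | h | h
    · have : (2 ^ i + 1 : ℤ) * k ≤ (2 ^ i + 1) * (-1) :=
        mul_le_mul_of_nonneg_left (by omega) (by omega)
      rcases neg_one_pow_eq_or ℤ (n / i) with he | he <;> rw [he] at hk <;> omega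
    · exact h
    · have : (2 ^ i + 1 : ℤ) * 1 ≤ (2 ^ i + 1) * k :=
        mul_le_mul_of_nonneg_left (by omega) (by omega)
      rcases neg_one_pow_eq_or ℤ (n / i) with he | he <;> rw [he] at hk <;> omega
  rw [hk0, mul_zero] at hk
  rcases neg_one_pow_eq_or ℤ (n / i) with he | he <;> rw [he] at hk
  · rcases r with _ | r
    · norm_num at hk
    · rw [pow_succ] at hk; omega
  · omega

/-- The index of `C(P)` in `N(P)` for a large Fermat prime. -/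
theorem fermat_index {q a i s : ℕ} (hq : q = 2 ^ i + 1) (hi : 5 ≤ i) (hs : s ∣ q - 1)
    (hmod : 9 * 2 ^ a ≡ s [MOD q]) : False := by
  rw [hq, Nat.add_sub_cancel] at hs
  obtain ⟨h, -, rfl⟩ := (Nat.dvd_prime_pow Nat.prime_two).1 hs
  have hm : (9 : ℤ) * 2 ^ a ≡ 2 ^ h [ZMOD (q : ℤ)] := by
    have := Int.natCast_modEq_iff.2 hmod
    exact_mod_cast this
  have hq' : (q : ℤ) = 2 ^ i + 1 := by rw [hq]; push_cast; rfl
  have h1 : ((2 : ℤ) ^ i) ^ (2 * a) ≡ 1 [ZMOD (q : ℤ)] := by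
    have h0 : (2 : ℤ) ^ i ≡ -1 [ZMOD (q : ℤ)] := by
      rw [Int.modEq_iff_dvd]
      exact ⟨-1, by rw [hq']; ring⟩
    simpa [pow_mul] using h0.pow (2 * a)
  obtain ⟨i', rfl⟩ : ∃ i', i = i' + 1 := ⟨i - 1, by omega⟩
  refine fermat_nine hq' hi (h + (2 * i' + 1) * a) ?_
  calc (9 : ℤ) = 9 * 1 := by ring
    _ ≡ 9 * (2 ^ (i' + 1)) ^ (2 * a) [ZMOD (q : ℤ)] := (h1.symm).mul_left _
    _ = 9 * 2 ^ a * 2 ^ ((2 * i' + 1) * a) := by
        rw [← pow_mul, mul_assoc, ← pow_add]; congr 2; ring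
    _ ≡ 2 ^ h * 2 ^ ((2 * i' + 1) * a) [ZMOD (q : ℤ)] := hm.mul_right _
    _ = _ := by rw [← pow_add]

/-- The index of `C(P)` in `N(P)` for a large Mersenne prime. -/
theorem mersenne_index {q a i s : ℕ} (hp : q.Prime) (hq : q + 1 = 2 ^ i) (hi : 5 ≤ i)
    (hs : s ∣ q - 1) (hs9 : s ∣ 9 * 2 ^ a) (hmod : 9 * 2 ^ a ≡ s [MOD q]) :
    7 ≤ i ∧ (s = 9 ∨ s = 18) := by
  obtain ⟨x, z, hx, hz, rfl⟩ := exists_dvd_and_dvd_of_dvd_mul (show s ∣ 3 ^ 2 * 2 ^ a from hs9)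
  obtain ⟨h, hh, rfl⟩ := (Nat.dvd_prime_pow Nat.prime_three).1 hx
  obtain ⟨k, -, rfl⟩ := (Nat.dvd_prime_pow Nat.prime_two).1 hz
  have h4 : 4 ∣ 2 ^ i := pow_dvd_pow 2 (show 2 ≤ i by omega)
  have hk : k ≤ 1 := by
    by_contra hk
    have h1 : 2 ^ 2 ∣ q - 1 := ((pow_dvd_pow 2 (show 2 ≤ k by omega)).mul_left _).trans hs
    norm_num at h1
    omega
  have hi6 : i ≠ 6 := by
    rintro rfl
    have : q = 63 := by norm_num at hq; omega
    subst this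
    norm_num at hp
  have hq' : (q : ℤ) = 2 ^ i - 1 := by
    have : ((q : ℤ) + 1) = 2 ^ i := by exact_mod_cast hq
    linarith
  have hm : (9 : ℤ) * 2 ^ a ≡ 3 ^ h * 2 ^ k [ZMOD (q : ℤ)] := by
    have := Int.natCast_modEq_iff.2 hmod
    exact_mod_cast this
  obtain ⟨d, hd⟩ : ∃ d, h + d = 2 := ⟨2 - h, by omega⟩
  have h2i : (2 : ℤ) ^ i ≡ 1 [ZMOD (q : ℤ)] := by
    rw [Int.modEq_iff_dvd]
    exact ⟨-1, by rw [hq']; ring⟩
  obtain ⟨e, he⟩ : ∃ e, k + e = i := ⟨i - k, by omega⟩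
  set r := (a + e) % i with hr
  have hri : r < i := Nat.mod_lt _ (by omega)
  have hc : (3 : ℤ) ^ h * (3 ^ d * 2 ^ r) ≡ 3 ^ h * 1 [ZMOD (q : ℤ)] := by
    calc (3 : ℤ) ^ h * (3 ^ d * 2 ^ r) = 9 * 2 ^ r := by
          rw [← mul_assoc, ← pow_add, hd]; norm_num
      _ ≡ 9 * 2 ^ (a + e) [ZMOD (q : ℤ)] := ((mersenne_pow hq' (a + e)).symm).mul_left _
      _ = 9 * 2 ^ a * 2 ^ e := by rw [pow_add]; ring
      _ ≡ 3 ^ h * 2 ^ k * 2 ^ e [ZMOD (q : ℤ)] := hm.mul_right _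
      _ = 3 ^ h * 2 ^ i := by rw [mul_assoc, ← pow_add, he]
      _ ≡ 3 ^ h * 1 [ZMOD (q : ℤ)] := h2i.mul_left _
  have hdvd : (q : ℤ) ∣ 3 ^ d * 2 ^ r - 1 := by
    have h1 := Int.modEq_iff_dvd.1 hc.symm
    rw [← mul_sub] at h1
    refine ((Nat.prime_iff_prime_int.1 hp).dvd_or_dvd h1).resolve_left fun h3 => ?_
    have h3' : q ∣ 3 ^ h := by exact_mod_cast h3
    have := Nat.le_of_dvd (by norm_num) (hp.dvd_of_dvd_pow h3')
    have : 32 ≤ 2 ^ i := le_trans (by norm_num) (Nat.pow_le_pow_right (by norm_num) hi)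
    omega
  have hone : (3 : ℤ) ^ d * 2 ^ r = 1 := by
    rcases Nat.lt_or_ge i 7 with h7 | h7
    · obtain rfl : i = 5 := by omega
      have hd2 : d ≤ 2 := by omega
      have : (q : ℤ) = 31 := by rw [hq']; norm_num
      rw [this] at hdvd
      interval_cases d <;> interval_cases r <;> omega
    · exact (mersenne_small hq' h7 (by omega) hri (by decide) hdvd).symm
  have hd0 : d = 0 := by
    by_contra hne
    have h1 : (3 : ℤ) ∣ 3 ^ d * 2 ^ r := (dvd_pow_self 3 hne).mul_right _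
    rw [hone] at h1
    norm_num at h1
  obtain rfl : h = 2 := by omega
  refine ⟨?_, ?_⟩
  · by_contra hlt
    obtain rfl : i = 5 := by omega
    have : q = 31 := by norm_num at hq; omega
    subst this
    interval_cases k <;> norm_num at hs
  · interval_cases k <;> norm_num

end Cfsg.Agent.H33.NineTwoQ
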