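import Cfsg.Agent.H33.NineTwoQ.QData
import Cfsg.Agent.H33.NineTwoQ.Numeric

/-!
# The orders `504` and `2448`
-/

set_option autoImplicit false
set_option linter.style.haveILetI false
set_option linter.unusedSectionVars false

open Subgroup

namespace Cfsg.Agent.H33.NineTwoQ

open Cfsg.Agent.H36.SelfCentral (triv)

universe u

variable {G : Type u} [Group G] [Fintype G] [IsSimpleGroup G] {q a b : ℕ}
variable (K : Ctx G q a b)
include K

theorem Ctx.yd_Y : yd K.Y = 2 ^ K.i := by exact_mod_cast (yd_eq K.Y).symm.trans K.Y_one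

theorem Ctx.two_pow_dvd : 2 ^ K.i ∣ 9 * 2 ^ a * q := by
  have hd := yd_dvd K.Y
  haveI : Fact q.Prime := ⟨K.prime⟩
  rwa [K.yd_Y, K.card_G] at hd

variable [Fact q.Prime] {P : Sylow q G} (D : QData K P)

theorem QData.N_pos : 1 ≤ (D.A - D.ε) ^ 2 + ((D.t : ℤ) - 1) * D.A ^ 2 := by
  have ht := D.two_le_t
  rcases eq_or_ne D.A 0 with h | h
  · rcases D.hε with he | he <;> simp [h, he]
  · have h1 : (1 : ℤ) ≤ D.A ^ 2 := by
      have := mul_self_pos.2 h; rw [pow_two]; omega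
    have h2 : (1 : ℤ) ≤ (D.t : ℤ) - 1 := by omega
    nlinarith [sq_nonneg (D.A - D.ε), mul_le_mul h2 h1 (by norm_num) (by omega)]

theorem QData.sq_coef_Y : D.coef K.Y ^ 2 = 1 := by
  rw [D.Y_coef]; rcases K.sign with h | h <;> simp [h]

/-- Bound for the squares of the coefficients of the characters other than `Y`. -/
theorem QData.sq_le {ψ : IrrCharacter G} (hψ : ψ ∈ D.O) (hne : ψ ≠ K.Y) :
    D.coef ψ ^ 2 + 1 + ((D.A - D.ε) ^ 2 + ((D.t : ℤ) - 1) * D.A ^ 2) ≤ nidx P := by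
  classical
  have h := D.norm
  rw [← Finset.add_sum_erase _ _ D.Y_mem, D.sq_coef_Y] at h
  have := Finset.single_le_sum (f := fun ψ => D.coef ψ ^ 2) (fun x _ => sq_nonneg _)
    (Finset.mem_erase.2 ⟨hne, hψ⟩)
  linarith

theorem QData.one_le_sum : 1 + ((D.A - D.ε) ^ 2 + ((D.t : ℤ) - 1) * D.A ^ 2) ≤ nidx P := by
  have h := D.norm
  have h1 := Finset.single_le_sum (f := fun ψ => D.coef ψ ^ 2) (fun x _ => sq_nonneg _) D.Y_mem
  rw [D.sq_coef_Y] at h1
  linarith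

theorem QData.O_eq_singleton
    (h : (nidx P : ℤ) ≤ 1 + ((D.A - D.ε) ^ 2 + ((D.t : ℤ) - 1) * D.A ^ 2)) : D.O = {K.Y} := by
  refine Finset.eq_singleton_iff_unique_mem.2 ⟨D.Y_mem, fun ψ hψ => ?_⟩
  by_contra hne
  have := D.sq_le K hψ hne
  have := mul_self_pos.2 (D.coef_ne ψ hψ)
  nlinarith

theorem QData.two_le_yd {ψ : IrrCharacter G} (hψ : ψ ∈ D.O) : 2 ≤ yd ψ :=
  NineTwoQ.two_le_yd K.noncomm fun h => D.triv_not_mem (h ▸ hψ)

theorem QData.shape {ψ : IrrCharacter G} (hψ : ψ ∈ D.O) (ha : (D.coef ψ).natAbs < q) :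
    ∃ h m : ℕ, h ≤ 2 ∧ yd ψ = 3 ^ h * 2 ^ m := by
  obtain ⟨h, m, hh, -, he⟩ := NineTwoQ.shape K.prime (K.card_G ▸ yd_dvd ψ) (fun hd => by
    have h1 : (q : ℤ) ∣ D.coef ψ := by
      have := dvd_sub (Int.natCast_dvd_natCast.2 hd) (D.congr ψ hψ)
      rwa [sub_sub_cancel] at this
    have h2 := Nat.le_of_dvd (Int.natAbs_pos.2 (D.coef_ne ψ hψ)) (Int.natCast_dvd.1 h1)
    omega)
  exact ⟨h, m, hh, he⟩

theorem QData.ye_odd_cases (hr : (D.A + D.ε * nidx P).natAbs < q) (h0 : D.A + D.ε * nidx P ≠ 0)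
    (hodd : ¬ 2 ∣ D.ye) : D.ye = 1 ∨ D.ye = 3 ∨ D.ye = 9 := by
  refine shape_odd K.prime (K.card_G ▸ D.ye_dvd) (fun hd => ?_) hodd
  have h1 : (q : ℤ) ∣ D.A + D.ε * nidx P := by
    have := dvd_sub (Int.natCast_dvd_natCast.2 hd) D.ye_congr
    rwa [sub_sub_cancel] at this
  have h2 := Nat.le_of_dvd (Int.natAbs_pos.2 h0) (Int.natCast_dvd.1 h1)
  omega

theorem QData.ye_odd (heven : ∀ ψ ∈ D.O, 2 ∣ yd ψ) : ¬ 2 ∣ D.ye := by
  intro h
  have h1 : (2 : ℤ) ∣ ∑ ψ ∈ D.O, D.coef ψ * (yd ψ : ℤ) :=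
    Finset.dvd_sum fun ψ hψ => (Int.natCast_dvd_natCast.2 (heven ψ hψ)).mul_left _
  have h2 : (2 : ℤ) ∣ ((D.t : ℤ) * D.A - D.ε) * D.ye := (Int.natCast_dvd_natCast.2 h).mul_left _
  have h3 : (2 : ℤ) ∣ 1 := by
    have := (dvd_neg.2 (dvd_add h1 h2))
    rwa [show -(∑ ψ ∈ D.O, D.coef ψ * (yd ψ : ℤ) + ((D.t : ℤ) * D.A - D.ε) * D.ye) = 1 by
      linear_combination -D.rel] at this
  norm_num at h3

omit [Fact q.Prime]

/-- No Mersenne prime above seven. -/
theorem Ctx.mersenne_false (hδ : K.δ = -1) (hi : 5 ≤ K.i) : False := by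
  haveI : Fact q.Prime := ⟨K.prime⟩
  obtain ⟨P⟩ := Sylow.nonempty (p := q) (G := G)
  have hqi : q + 1 = 2 ^ K.i := by
    have := K.q_eq
    rw [hδ] at this
    have : ((q : ℤ) + 1) = 2 ^ K.i := by linarith
    exact_mod_cast this
  obtain ⟨hi7, hs⟩ := mersenne_index K.prime hqi hi (K.s_dvd_pred P) (K.s_dvd P) (K.s_modEq P)
  have h128 : 128 ≤ 2 ^ K.i := le_trans (by norm_num) (Nat.pow_le_pow_right (by norm_num) hi7)
  obtain ⟨D⟩ := K.exists_qData P (by omega)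
  have hq' : (q : ℤ) = 2 ^ K.i - 1 := by rw [K.q_eq, hδ]; ring
  have hst := D.st
  have ht7 : 7 ≤ D.t := by rcases hs with h | h <;> rw [h] at hst <;> omega
  have hsum := D.one_le_sum K
  have hA : D.A = 0 ∨ D.A = 1 ∨ D.A = -1 := by
    have h6 : (6 : ℤ) * D.A ^ 2 ≤ ((D.t : ℤ) - 1) * D.A ^ 2 :=
      mul_le_mul_of_nonneg_right (by omega) (sq_nonneg _)
    have : D.A ^ 2 < 2 ^ 2 := by
      rcases hs with h | h <;> rw [h] at hsum <;> push_cast at hsum <;>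
        nlinarith [sq_nonneg (D.A - D.ε)]
    obtain ⟨h1, h2⟩ := abs_lt.1 (abs_lt_of_sq_lt_sq this (by norm_num))
    omega
  have hsmall : ∀ ψ ∈ D.O, (D.coef ψ).natAbs ≤ 4 := by
    intro ψ hψ
    rcases eq_or_ne ψ K.Y with rfl | hne
    · rw [D.Y_coef, hδ]; norm_num
    have h1 := D.sq_le K hψ hne
    have h2 := D.N_pos K
    have : D.coef ψ ^ 2 < 5 ^ 2 := by rcases hs with h | h <;> rw [h] at h1 <;> push_cast at h1 <;> linarith
    obtain ⟨h3, h4⟩ := abs_lt.1 (abs_lt_of_sq_lt_sq this (by norm_num))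
    omega
  have hO : ∀ ψ ∈ D.O, 2 ∣ yd ψ ∧ 0 ≤ D.coef ψ * (yd ψ : ℤ) := by
    intro ψ hψ
    obtain ⟨h, m, hh, he⟩ := D.shape K hψ (by have := hsmall ψ hψ; omega)
    have hmod : (3 : ℤ) ^ h * 2 ^ (m % K.i) ≡ D.coef ψ [ZMOD (q : ℤ)] := by
      refine (((mersenne_pow hq' m).symm).mul_left _).trans ?_
      refine (Int.modEq_iff_dvd.2 ?_)
      have := D.congr ψ hψ
      rw [he] at this
      push_cast at this
      exact dvd_sub_comm.1 this
    have hc := mersenne_small hq' hi7 hh (Nat.mod_lt m (by omega)) (hsmall ψ hψ)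
      (dvd_sub_comm.1 (Int.modEq_iff_dvd.1 hmod))
    refine ⟨?_, mul_nonneg (by rw [hc]; positivity) (Int.natCast_nonneg _)⟩
    rw [he]
    rcases m with _ | m
    · exfalso
      refine D.deg_ne ψ hψ ?_
      rw [he, hc]
      simp
    · exact (dvd_pow_self 2 (Nat.succ_ne_zero m)).mul_left _
  have hodd := D.ye_odd K fun ψ hψ => (hO ψ hψ).1
  have hεs : (D.A + D.ε * nidx P).natAbs ≤ 19 ∧ D.A + D.ε * nidx P ≠ 0 := by
    rcases hs with h | h <;> rw [h] <;> rcases hA with h' | h' | h' <;>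
      rcases D.hε with h'' | h'' <;> rw [h', h''] <;> decide
  have hye := D.ye_odd_cases K (by omega) hεs.2 hodd
  have heq : (D.ye : ℤ) = D.A + D.ε * nidx P := by
    have h0 := Int.eq_zero_of_dvd_of_natAbs_lt_natAbs D.ye_congr (by omega)
    linarith
  have hC : D.A = 0 ∧ D.ε = 1 ∧ D.ye = 9 := by
    rcases hs with h | h <;> rw [h] at heq <;> rcases D.hε with h'' | h'' <;> rw [h''] at heq <;>
      omega
  have hY : (2 : ℤ) ^ K.i ≤ ∑ ψ ∈ D.O, D.coef ψ * (yd ψ : ℤ) := by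
    refine le_trans ?_ (Finset.single_le_sum (fun ψ hψ => (hO ψ hψ).2) D.Y_mem)
    rw [D.Y_coef, hδ, K.yd_Y]
    push_cast
    linarith
  have hrel := D.rel
  rw [hC.1, hC.2.1, hC.2.2] at hrel
  have h128' : (128 : ℤ) ≤ 2 ^ K.i := by exact_mod_cast h128
  push_cast at hrel
  linarith

omit [IsSimpleGroup G] K in
theorem two_pow_mod_seven : ∀ n : ℕ, 2 ^ (n + 3) % 7 = 2 ^ n % 7 := fun n => by
  rw [pow_add]; omega

theorem Ctx.q_seven (hq : q = 7) (hδ : K.δ = -1) (hi : K.i = 3) : Nat.card G = 504 := by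
  subst hq
  haveI : Fact (Nat.Prime 7) := ⟨K.prime⟩
  obtain ⟨P⟩ := Sylow.nonempty (p := 7) (G := G)
  have h2 := K.two_le_s P
  have hd := K.s_dvd_pred P
  have hmod := K.s_modEq P
  set s := nidx P with hs
  have hs6 : s ≤ 6 := Nat.le_of_dvd (by norm_num) hd
  obtain ⟨k, r, hr, rfl⟩ : ∃ k r, r < 3 ∧ a = 3 * k + r :=
    ⟨a / 3, a % 3, Nat.mod_lt _ (by norm_num), (Nat.div_add_mod _ _).symm⟩
  have hp : 2 ^ (3 * k + r) % 7 = 2 ^ r % 7 := by
    rw [pow_add, pow_mul, Nat.mul_mod, Nat.pow_mod]; norm_num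
  have hs2 : s = 2 ∧ r = 0 := by
    unfold Nat.ModEq at hmod
    rw [Nat.mul_mod, hp] at hmod
    interval_cases r <;> interval_cases s <;> first | omega | (norm_num at hmod) | (norm_num at hd)
  obtain ⟨rfl, -⟩ : r = 0 ∧ True := ⟨hs2.2, trivial⟩
  obtain ⟨D⟩ := K.exists_qData P (by rw [← hs, hs2.1]; norm_num)
  have hsum := D.one_le_sum K
  rw [← hs, hs2.1] at hsum
  have hst := D.st
  rw [← hs, hs2.1] at hst
  have ht : D.t = 3 := by omega
  have hA : D.A = 0 := by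
    by_contra h
    have := mul_self_pos.2 h
    rw [ht] at hsum
    push_cast at hsum
    nlinarith [sq_nonneg (D.A - D.ε)]
  have hN : (D.A - D.ε) ^ 2 + ((D.t : ℤ) - 1) * D.A ^ 2 = 1 := by
    rw [hA]; rcases D.hε with h | h <;> rw [h] <;> ring
  have hO := D.O_eq_singleton K (by rw [hN, ← hs, hs2.1]; norm_num)
  have hrel := D.rel
  rw [hO, Finset.sum_singleton, D.Y_coef, K.yd_Y, hδ, hi, hA] at hrel
  have hye : ((D.t : ℤ) * 0 - D.ε) * D.ye = -9 := by push_cast at hrel; linarith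
  obtain ⟨B, hBO, hBpure, c, hc, hdvd⟩ := D.block hN
  have hB : B = ∅ := Finset.eq_empty_of_forall_notMem fun ψ hψ => by
    have := hBO hψ
    rw [hO, Finset.mem_singleton] at this
    exact hBpure ψ hψ K.i (this ▸ K.yd_Y)
  rw [hB, Finset.sum_empty, hA, hye, add_zero] at hdvd
  have ha := K.a_pos
  have h8 : (2 : ℕ) ^ (3 * k + 0) ≤ 8 := by
    have h1 : ((1 : ℤ) + c * -9).natAbs ≤ 8 ∧ (1 : ℤ) + c * -9 ≠ 0 := by
      rcases hc with h | h <;> rw [h] <;> decide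
    have h3 := Int.natAbs_dvd_natAbs.2 hdvd
    rw [Int.natAbs_pow] at h3
    exact (Nat.le_of_dvd (Int.natAbs_pos.2 h1.2) h3).trans h1.1
  have hk : k = 1 := by
    rcases Nat.lt_or_ge k 2 with h | h
    · omega
    · exfalso
      have := (Nat.pow_le_pow_right (show 0 < 2 by norm_num) (show 6 ≤ 3 * k + 0 by omega)).trans h8
      norm_num at this
  subst hk
  rw [K.card_G]
  norm_num

theorem Ctx.q_five (hq : q = 5) (hδ : K.δ = 1) (hi : K.i = 2) : False := by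
  subst hq
  haveI : Fact (Nat.Prime 5) := ⟨K.prime⟩
  obtain ⟨P⟩ := Sylow.nonempty (p := 5) (G := G)
  have h2 := K.two_le_s P
  have hd := K.s_dvd_pred P
  have hmod := K.s_modEq P
  have hne := K.s_ne_pred P hδ
  set s := nidx P with hs
  have hs4 : s ≤ 4 := Nat.le_of_dvd (by norm_num) hd
  have hs2 : s = 2 := by interval_cases s <;> first | omega | (norm_num at hd) | (norm_num at hne)
  obtain ⟨k, r, hr, rfl⟩ : ∃ k r, r < 4 ∧ a = 4 * k + r :=
    ⟨a / 4, a % 4, Nat.mod_lt _ (by norm_num), (Nat.div_add_mod _ _).symm⟩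
  have hp : 2 ^ (4 * k + r) % 5 = 2 ^ r % 5 := by
    rw [pow_add, pow_mul, Nat.mul_mod, Nat.pow_mod]; norm_num
  have hr3 : r = 3 := by
    unfold Nat.ModEq at hmod
    rw [Nat.mul_mod, hp, hs2] at hmod
    interval_cases r <;> first | omega | (norm_num at hmod)
  subst hr3
  obtain ⟨D⟩ := K.exists_qData P (by rw [← hs, hs2]; norm_num)
  have hst := D.st
  rw [← hs, hs2] at hst
  have ht : D.t = 2 := by omega
  have hsum := D.one_le_sum K
  rw [← hs, hs2, ht] at hsum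
  push_cast at hsum
  have hN : (D.A - D.ε) ^ 2 + ((D.t : ℤ) - 1) * D.A ^ 2 = 1 := by
    have := D.N_pos K
    rw [ht] at this ⊢
    push_cast at this ⊢
    linarith
  have hO := D.O_eq_singleton K (by rw [hN, ← hs, hs2]; norm_num)
  have hrel := D.rel
  rw [hO, Finset.sum_singleton, D.Y_coef, K.yd_Y, hδ, hi] at hrel
  obtain ⟨B, hBO, hBpure, c, hc, hdvd⟩ := D.block hN
  have hB : B = ∅ := Finset.eq_empty_of_forall_notMem fun ψ hψ => by
    have := hBO hψ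
    rw [hO, Finset.mem_singleton] at this
    exact hBpure ψ hψ K.i (this ▸ K.yd_Y)
  rw [hB, Finset.sum_empty, add_zero,
    show ((D.t : ℤ) * D.A - D.ε) * D.ye = 3 by push_cast at hrel; linarith] at hdvd
  have h8 : (8 : ℤ) ∣ 1 + c * 3 :=
    (show (8 : ℤ) ∣ 2 ^ (4 * k + 3) from ⟨2 ^ (4 * k), by ring⟩).trans hdvd
  rcases hc with h | h <;> rw [h] at h8 <;> norm_num at h8

omit [IsSimpleGroup G] K in
theorem small_degrees : ∀ h : Fin 3, ∀ m : Fin 8, ∀ c ∈ ({1, -1, 2, -2} : Finset ℤ),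
    (17 : ℤ) ∣ ((3 ^ (h : ℕ) * 2 ^ (m : ℕ) : ℕ) : ℤ) - c →
      ((3 ^ (h : ℕ) * 2 ^ (m : ℕ) : ℕ) : ℤ) ≠ c → 2 ≤ 3 ^ (h : ℕ) * 2 ^ (m : ℕ) →
      2 ∣ 3 ^ (h : ℕ) * 2 ^ (m : ℕ) ∧
      ((c = 1 ∧ 3 ^ (h : ℕ) * 2 ^ (m : ℕ) = 18) ∨ (c = -1 ∧ 3 ^ (h : ℕ) * 2 ^ (m : ℕ) = 16) ∨
        (c = -1 ∧ 3 ^ (h : ℕ) * 2 ^ (m : ℕ) = 288) ∨
        ((c = 2 ∨ c = -2) ∧ (3 ^ (h : ℕ) * 2 ^ (m : ℕ)) % 4 = 0 ∧
          3 ^ (h : ℕ) * 2 ^ (m : ℕ) ≠ 18)) := by
  decide

omit [IsSimpleGroup G] K in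
theorem count_false {n m l n' l' : ℕ} {c : ℤ} (h1 : n + m + l ≤ 6) (h2 : n' ≤ n) (h3 : l' ≤ l)
    (hall : (256 : ℤ) ∣ 6 - (18 * (n : ℤ) - 16 * (m : ℤ) - 288 * (l : ℤ)))
    (hkey : (256 : ℤ) ∣ 1 + c * 9 + (18 * (n' : ℤ) - 16 * ((0 : ℕ) : ℤ) - 288 * (l' : ℤ)))
    (hc : c = 0 ∨ c = 1) : False := by
  have h : n = 3 ∧ l ≤ 1 := by
    have hn : n ≤ 6 := by omega
    have hl : l ≤ 6 := by omega
    interval_cases n <;> interval_cases l <;> omega
  obtain ⟨rfl, hl⟩ := h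
  have hl' : l' ≤ 1 := h3.trans hl
  rcases hc with rfl | rfl <;> interval_cases n' <;> interval_cases l' <;> omega

/-- The degrees of the nonexceptional characters for `q = 17`. -/
theorem QData.degree_cases (hq : q = 17) [Fact q.Prime] {P : Sylow q G} (D : QData K P)
    {ψ : IrrCharacter G} (hψ : ψ ∈ D.O) (hc : D.coef ψ ^ 2 ≤ 4) :
    2 ∣ yd ψ ∧ ((256 ∣ yd ψ) ∨ (D.coef ψ = 1 ∧ yd ψ = 18) ∨ (D.coef ψ = -1 ∧ yd ψ = 16) ∨
      (D.coef ψ = -1 ∧ yd ψ = 288) ∨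
      ((D.coef ψ = 2 ∨ D.coef ψ = -2) ∧ yd ψ % 4 = 0 ∧ yd ψ ≠ 18)) := by
  have habs : D.coef ψ ∈ ({1, -1, 2, -2} : Finset ℤ) := by
    have h3 : D.coef ψ ^ 2 < 3 ^ 2 := by linarith
    obtain ⟨h1, h2⟩ := abs_lt.1 (abs_lt_of_sq_lt_sq h3 (by norm_num))
    have := D.coef_ne ψ hψ
    simp only [Finset.mem_insert, Finset.mem_singleton]
    omega
  obtain ⟨h, m, hh, he⟩ := D.shape K hψ (by
    have h3 : D.coef ψ ^ 2 < 3 ^ 2 := by linarith
    obtain ⟨h1, h2⟩ := abs_lt.1 (abs_lt_of_sq_lt_sq h3 (by norm_num))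
    omega)
  rcases Nat.lt_or_ge m 8 with hm | hm
  · have h17 := D.congr ψ hψ
    have hne := D.deg_ne ψ hψ
    have h2y := D.two_le_yd K hψ
    rw [he] at h17 hne h2y ⊢
    subst hq
    obtain ⟨he2, hcases⟩ := small_degrees ⟨h, by omega⟩ ⟨m, hm⟩ _ habs h17 hne h2y
    exact ⟨he2, Or.inr hcases⟩
  · rw [he]
    refine ⟨((dvd_pow_self 2 (by omega)).mul_left _), Or.inl ?_⟩
    exact ((show 256 ∣ 2 ^ m from (show 256 = 2 ^ 8 by norm_num) ▸ pow_dvd_pow 2 hm)).mul_left _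

/-- The subcase of eight conjugate exceptional classes. -/
theorem Ctx.seventeen_eight (hq : q = 17) (hδ : K.δ = 1) (hi : K.i = 4) [Fact q.Prime]
    (P : Sylow q G) (hs : nidx P = 8) {k : ℕ} (hk : a = 8 * k + 4) : k = 0 := by
  subst hq
  classical
  obtain ⟨D⟩ := K.exists_qData P (by rw [hs]; norm_num)
  have hst := D.st
  rw [hs] at hst
  have ht : D.t = 2 := by omega
  have hsum := D.one_le_sum K
  rw [hs, ht] at hsum
  push_cast at hsum
  have hY0 : D.coef K.Y = -1 := by rw [D.Y_coef, hδ]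
  have hA : -2 ≤ D.A ∧ D.A ≤ 2 := by
    have : D.A ^ 2 < 3 ^ 2 := by nlinarith [sq_nonneg (D.A - D.ε)]
    obtain ⟨h1, h2⟩ := abs_lt.1 (abs_lt_of_sq_lt_sq this (by norm_num))
    omega
  obtain ⟨N, hN⟩ : ∃ N, (D.A - D.ε) ^ 2 + ((D.t : ℤ) - 1) * D.A ^ 2 = N := ⟨_, rfl⟩
  have hNcases : (N = 1 ∧ ((D.A = 0) ∨ D.A = D.ε)) ∨
      (N = 5 ∧ (D.A = 2 * D.ε ∨ D.A = -D.ε)) := by
    rw [ht] at hN
    push_cast at hN
    obtain ⟨hA1, hA2⟩ := hA
    obtain ⟨A, hA'⟩ : ∃ A, D.A = A := ⟨_, rfl⟩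
    rw [hA'] at hA1 hA2 hN hsum ⊢
    rcases D.hε with h | h <;> rw [h] at hN hsum ⊢ <;> interval_cases A <;> omega
  have hle : ∀ ψ ∈ D.O, ψ ≠ K.Y → D.coef ψ ^ 2 + 1 + N ≤ 8 := fun ψ hψ hne => by
    have := D.sq_le K hψ hne
    rw [hs, hN] at this
    exact_mod_cast this
  -- the coefficients are small
  have hsmall : ∀ ψ ∈ D.O, D.coef ψ ^ 2 ≤ 4 := by
    intro ψ hψ
    rcases eq_or_ne ψ K.Y with rfl | hne
    · rw [hY0]; norm_num
    have h1 := hle ψ hψ hne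
    have h6 : D.coef ψ ^ 2 ≤ 6 := by rcases hNcases with ⟨h, -⟩ | ⟨h, -⟩ <;> linarith
    have h3 : D.coef ψ ^ 2 < 3 ^ 2 := by linarith
    obtain ⟨h2, h2'⟩ := abs_lt.1 (abs_lt_of_sq_lt_sq h3 (by norm_num))
    obtain ⟨x, hx⟩ : ∃ x, D.coef ψ = x := ⟨_, rfl⟩
    rw [hx] at h2 h2' ⊢
    interval_cases x <;> norm_num
  have hdeg := fun ψ hψ => D.degree_cases K rfl hψ (hsmall ψ hψ)
  have hodd := D.ye_odd K fun ψ hψ => (hdeg ψ hψ).1
  have hcg := D.ye_congr
  rw [hs] at hcg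
  have hye := D.ye_odd_cases K (by rw [hs]; rcases D.hε with h | h <;> rw [h] <;> omega)
    (by rw [hs]; rcases D.hε with h | h <;> rw [h] <;> omega) hodd
  obtain ⟨hN1, hAc⟩ : N = 1 ∧ (D.A = 0 ∨ D.A = D.ε) := by
    rcases hNcases with h | ⟨-, h⟩
    · exact h
    · exfalso
      rcases D.hε with he | he <;> rw [he] at hcg h <;> rcases h with h | h <;> rw [h] at hcg <;>
        rcases hye with hy | hy | hy <;> rw [hy] at hcg <;> norm_num at hcg
  have hCye : ((D.t : ℤ) * D.A - D.ε) * D.ye = 9 := by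
    rw [ht]
    push_cast at hcg ⊢
    rcases D.hε with he | he <;> rw [he] at hcg hAc ⊢ <;> rcases hAc with h | h <;> rw [h] at hcg ⊢ <;>
      rcases hye with hy | hy | hy <;> rw [hy] at hcg ⊢ <;>
        first | omega | (norm_num at hcg) | norm_num
  set O' := D.O.erase K.Y with hO'
  have hrel := D.rel
  rw [hCye, ← Finset.add_sum_erase _ _ D.Y_mem, hY0, K.yd_Y, hi] at hrel
  have hsum6 : ∑ ψ ∈ O', D.coef ψ * (yd ψ : ℤ) = 6 := by push_cast at hrel; linarith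
  have hsq6 : ∑ ψ ∈ O', D.coef ψ ^ 2 = 6 := by
    have h := D.norm
    rw [← Finset.add_sum_erase _ _ D.Y_mem, D.sq_coef_Y, hN, hN1, hs] at h
    push_cast at h
    linarith
  -- modulo eight
  have hmod8 : ∀ ψ ∈ O', (8 : ℤ) ∣ D.coef ψ * (yd ψ : ℤ) - (if yd ψ = 18 then 18 else 0) := by
    intro ψ hψ
    obtain ⟨-, h | ⟨hc, hy⟩ | ⟨hc, hy⟩ | ⟨hc, hy⟩ | ⟨hc, hy, hy'⟩⟩ := hdeg ψ (Finset.mem_of_mem_erase hψ)
    · have h' : yd ψ ≠ 18 := by omega
      rw [if_neg h', sub_zero]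
      exact (Int.natCast_dvd_natCast.2 ((show 8 ∣ 256 by norm_num).trans h)).mul_left _
    · rw [if_pos hy, hc, hy]; norm_num
    · rw [if_neg (by omega), hc, hy]; norm_num
    · rw [if_neg (by omega), hc, hy]; norm_num
    · rw [if_neg hy']
      rcases hc with hc | hc <;> rw [hc] <;> omega
  set n := (O'.filter fun ψ => yd ψ = 18).card with hn
  have hn8 : (8 : ℤ) ∣ 6 - 18 * n := by
    have h := Finset.dvd_sum hmod8
    rw [Finset.sum_sub_distrib, hsum6, ← Finset.sum_filter, Finset.sum_const, nsmul_eq_mul] at h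
    rwa [mul_comm]
  have hone : ∀ ψ ∈ O', D.coef ψ ^ 2 = 1 := by
    intro ψ hψ
    have hc0 := mul_self_pos.2 (D.coef_ne ψ (Finset.mem_of_mem_erase hψ))
    by_contra hne
    have hψ18 : yd ψ ≠ 18 := by
      intro h
      obtain ⟨-, h' | ⟨hc, hy⟩ | ⟨hc, hy⟩ | ⟨hc, hy⟩ | ⟨hc, hy, hy'⟩⟩ :=
        hdeg ψ (Finset.mem_of_mem_erase hψ)
      · omega
      all_goals first | omega | (rw [hc] at hne; norm_num at hne)
    have h4 : 4 ≤ D.coef ψ ^ 2 := by
      obtain ⟨x, hx⟩ : ∃ x, D.coef ψ = x := ⟨_, rfl⟩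
      rw [hx] at hc0 hne ⊢
      have : x ≠ 1 ∧ x ≠ -1 := ⟨by rintro rfl; norm_num at hne, by rintro rfl; norm_num at hne⟩
      have : 2 ≤ x ∨ x ≤ -2 := by
        have : x ≠ 0 := by rintro rfl; norm_num at hc0
        omega
      rcases this with h | h <;> nlinarith
    have hsub : insert ψ (O'.filter fun φ => yd φ = 18) ⊆ O' :=
      Finset.insert_subset hψ (Finset.filter_subset _ _)
    have hle' := Finset.sum_le_sum_of_subset_of_nonneg hsub
      (f := fun φ => D.coef φ ^ 2) (fun φ _ _ => sq_nonneg _)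
    rw [hsq6, Finset.sum_insert (by simp [hψ18])] at hle'
    have h18 : ∑ φ ∈ O'.filter (fun φ => yd φ = 18), (1 : ℤ) ≤
        ∑ φ ∈ O'.filter (fun φ => yd φ = 18), D.coef φ ^ 2 :=
      Finset.sum_le_sum fun φ hφ => by
        have := mul_self_pos.2 (D.coef_ne φ (Finset.mem_of_mem_erase (Finset.mem_filter.1 hφ).1))
        rw [pow_two]; omega
    rw [Finset.sum_const, nsmul_eq_mul, mul_one, ← hn] at h18
    omega
  -- modulo two hundred and fifty-six
  set f : IrrCharacter G → ℤ := fun ψ => 18 * (if yd ψ = 18 then 1 else 0) -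
    16 * (if yd ψ = 16 then 1 else 0) - 288 * (if yd ψ = 288 then 1 else 0) with hf
  have hmod256 : ∀ ψ ∈ O', (256 : ℤ) ∣ D.coef ψ * (yd ψ : ℤ) - f ψ := by
    intro ψ hψ
    have h1 := hone ψ hψ
    obtain ⟨-, h | ⟨hc, hy⟩ | ⟨hc, hy⟩ | ⟨hc, hy⟩ | ⟨hc, hy, hy'⟩⟩ := hdeg ψ (Finset.mem_of_mem_erase hψ)
    · have h18 : yd ψ ≠ 18 := by omega
      have h16 : yd ψ ≠ 16 := by omega
      have h288 : yd ψ ≠ 288 := by omega
      simp only [hf, h18, h16, h288, if_false, mul_zero, sub_zero]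
      exact (Int.natCast_dvd_natCast.2 h).mul_left _
    · simp [hf, hc, hy]
    · simp [hf, hc, hy]
    · simp [hf, hc, hy]
    · rcases hc with hc | hc <;> rw [hc] at h1 <;> norm_num at h1
  have hfsum : ∀ S : Finset (IrrCharacter G), ∑ ψ ∈ S, f ψ =
      18 * ((S.filter fun ψ => yd ψ = 18).card : ℤ) - 16 * (S.filter fun ψ => yd ψ = 16).card -
        288 * (S.filter fun ψ => yd ψ = 288).card := by
    intro S
    simp only [hf, Finset.sum_sub_distrib, ← Finset.mul_sum, Finset.sum_boole]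
  have hcard : O'.card = 6 := by
    rw [Finset.sum_congr rfl hone, Finset.sum_const, nsmul_eq_mul, mul_one] at hsq6
    exact_mod_cast hsq6
  have hpart : (O'.filter fun ψ => yd ψ = 18).card + (O'.filter fun ψ => yd ψ = 16).card +
      (O'.filter fun ψ => yd ψ = 288).card ≤ 6 := by
    rw [← Finset.card_union_of_disjoint, ← Finset.card_union_of_disjoint, ← hcard]
    · exact Finset.card_le_card (by intro x hx; simp at hx; tauto)
    · rw [Finset.disjoint_left]; intro x hx hx'; simp at hx hx'; omega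
    · rw [Finset.disjoint_left]; intro x hx hx'; simp at hx hx'; omega
  have hall := Finset.dvd_sum hmod256
  rw [Finset.sum_sub_distrib, hsum6, hfsum] at hall
  obtain ⟨B, hBO, hBpure, c, hc, hdvd⟩ := D.block (hN.trans hN1)
  have hBO' : B ⊆ O' := fun ψ hψ => Finset.mem_erase.2
    ⟨fun h => hBpure ψ hψ K.i (h ▸ K.yd_Y), hBO hψ⟩
  have hB16 : (B.filter fun ψ => yd ψ = 16).card = 0 := Finset.card_eq_zero.2
    (Finset.filter_eq_empty_iff.2 fun ψ hψ h => hBpure ψ hψ 4 (by rw [h]; norm_num))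
  have hB18 := Finset.card_le_card (Finset.filter_subset_filter (fun ψ => yd ψ = 18) hBO')
  have hB288 := Finset.card_le_card (Finset.filter_subset_filter (fun ψ => yd ψ = 288) hBO')
  have hBall := Finset.dvd_sum fun ψ hψ => hmod256 ψ (hBO' hψ)
  rw [Finset.sum_sub_distrib, hfsum, hB16] at hBall
  rw [hCye] at hdvd
  by_contra hk0
  have h256 : (256 : ℤ) ∣ 1 + ∑ ψ ∈ B, D.coef ψ * (yd ψ : ℤ) + c * 9 :=
    (show (256 : ℤ) ∣ 2 ^ a from ⟨2 ^ (a - 8), by
      rw [show (256 : ℤ) = 2 ^ 8 by norm_num, ← pow_add]; congr 1; omega⟩).trans hdvd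
  have hkey := dvd_sub h256 hBall
  have hck : (256 : ℤ) ∣ 1 + c * 9 + (18 * ((B.filter fun ψ => yd ψ = 18).card : ℤ) -
      16 * ((0 : ℕ) : ℤ) - 288 * ((B.filter fun ψ => yd ψ = 288).card : ℤ)) := by
    refine (dvd_of_eq rfl).trans ?_
    convert hkey using 1
    ring
  exact count_false hpart hB18 hB288 hall hck hc

theorem Ctx.q_seventeen (hq : q = 17) (hδ : K.δ = 1) (hi : K.i = 4) : Nat.card G = 2448 := by
  subst hq
  haveI : Fact (Nat.Prime 17) := ⟨K.prime⟩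
  obtain ⟨P⟩ := Sylow.nonempty (p := 17) (G := G)
  have h2 := K.two_le_s P
  have hd := K.s_dvd_pred P
  have hmod := K.s_modEq P
  have hne := K.s_ne_pred P hδ
  obtain ⟨s, hs⟩ : ∃ s, nidx P = s := ⟨_, rfl⟩
  rw [hs] at h2 hd hmod hne
  norm_num at hd hne
  have hs3 : s = 2 ∨ s = 4 ∨ s = 8 := by
    obtain ⟨j, hj, rfl⟩ := (Nat.dvd_prime_pow Nat.prime_two (m := 4)).1 (by norm_num; exact hd)
    interval_cases j <;> first | omega | (norm_num at h2 hne ⊢)
  obtain ⟨k, r, hr, hk⟩ : ∃ k r, r < 8 ∧ a = 8 * k + r :=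
    ⟨a / 8, a % 8, Nat.mod_lt _ (by norm_num), (Nat.div_add_mod _ _).symm⟩
  have hrs : (s = 8 → r = 4) ∧ 2 ^ 4 ∣ 2 ^ K.i := by
    refine ⟨fun h8 => ?_, by rw [hi]⟩
    have hp : 2 ^ a % 17 = 2 ^ r % 17 := by
      rw [hk, pow_add, pow_mul, Nat.mul_mod, Nat.pow_mod]; norm_num
    unfold Nat.ModEq at hmod
    rw [Nat.mul_mod, hp, h8] at hmod
    interval_cases r <;> first | omega | (norm_num at hmod)
  rcases hs3 with h | h | h
  · exfalso
    subst h
    obtain ⟨D⟩ := K.exists_qData P (by rw [hs]; norm_num)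
    have hst := D.st
    rw [hs] at hst
    have ht : D.t = 8 := by omega
    have hsum := D.one_le_sum K
    rw [hs, ht] at hsum
    push_cast at hsum
    have hA : D.A = 0 := by
      by_contra h
      have := mul_self_pos.2 h
      nlinarith [sq_nonneg (D.A - D.ε)]
    have hN : (D.A - D.ε) ^ 2 + ((D.t : ℤ) - 1) * D.A ^ 2 = 1 := by
      rw [hA]; rcases D.hε with h | h <;> rw [h] <;> ring
    have hO := D.O_eq_singleton K (by rw [hN, hs]; norm_num)
    have hrel := D.rel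
    rw [hO, Finset.sum_singleton, D.Y_coef, K.yd_Y, hδ, hi, hA] at hrel
    have hye : D.ye = 15 := by
      push_cast at hrel
      rcases D.hε with h | h <;> rw [h] at hrel <;> omega
    have h5 : 5 ∣ 9 * 2 ^ a * 17 := (show 5 ∣ 15 by norm_num).trans (hye ▸ K.card_G ▸ D.ye_dvd)
    have h5p : Nat.Prime 5 := by norm_num
    rcases h5p.dvd_mul.1 h5 with h | h
    · rcases h5p.dvd_mul.1 h with h | h
      · norm_num at h
      · exact absurd (h5p.dvd_of_dvd_pow h) (by norm_num)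
    · norm_num at h
  · exfalso
    subst h
    obtain ⟨D⟩ := K.exists_qData P (by rw [hs]; norm_num)
    have hst := D.st
    rw [hs] at hst
    have ht : D.t = 4 := by omega
    have hsum := D.one_le_sum K
    rw [hs, ht] at hsum
    push_cast at hsum
    have hY0 : D.coef K.Y = -1 := by rw [D.Y_coef, hδ]
    have hA : D.A = 0 ∨ D.A = D.ε := by
      have hb : D.A ^ 2 < 2 ^ 2 := by nlinarith [sq_nonneg (D.A - D.ε)]
      obtain ⟨h1, h2⟩ := abs_lt.1 (abs_lt_of_sq_lt_sq hb (by norm_num))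
      obtain ⟨A, hA'⟩ : ∃ A, D.A = A := ⟨_, rfl⟩
      rw [hA'] at h1 h2 hsum ⊢
      rcases D.hε with h | h <;> rw [h] at hsum ⊢ <;> interval_cases A <;> omega
    rcases hA with hA | hA
    · have hsmall : ∀ ψ ∈ D.O, D.coef ψ ^ 2 ≤ 4 := by
        intro ψ hψ
        rcases eq_or_ne ψ K.Y with rfl | hne'
        · rw [hY0]; norm_num
        have h := D.sq_le K hψ hne'
        rw [hs] at h
        push_cast at h
        nlinarith [D.N_pos K]
      have hodd := D.ye_odd K fun ψ hψ => (D.degree_cases K rfl hψ (hsmall ψ hψ)).1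
      have hye := D.ye_odd_cases K (by rw [hs, hA]; rcases D.hε with h | h <;> rw [h] <;> norm_num)
        (by rw [hs, hA]; rcases D.hε with h | h <;> rw [h] <;> norm_num) hodd
      have hcg := D.ye_congr
      rw [hs, hA] at hcg
      rcases D.hε with h | h <;> rw [h] at hcg <;> rcases hye with hy | hy | hy <;> rw [hy] at hcg <;>
        norm_num at hcg
    · have hO := D.O_eq_singleton K (by
        rw [hs, ht, hA]; rcases D.hε with h | h <;> rw [h] <;> norm_num)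
      have hrel := D.rel
      rw [hO, Finset.sum_singleton, hY0, K.yd_Y, hi, hA, ht] at hrel
      have hye : D.ye = 5 := by
        push_cast at hrel
        rcases D.hε with h | h <;> rw [h] at hrel <;> omega
      have h5 : 5 ∣ 9 * 2 ^ a * 17 := hye ▸ K.card_G ▸ D.ye_dvd
      have h5p : Nat.Prime 5 := by norm_num
      rcases h5p.dvd_mul.1 h5 with h | h
      · rcases h5p.dvd_mul.1 h with h | h
        · norm_num at h
        · exact absurd (h5p.dvd_of_dvd_pow h) (by norm_num)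
      · norm_num at h
  · subst h
    have hk4 : a = 8 * k + 4 := by rw [hk, hrs.1 rfl]
    have hk0 := K.seventeen_eight rfl hδ hi P hs hk4
    rw [K.card_G, hk4, hk0]
    norm_num

/-- Only two orders are possible. -/
theorem Ctx.card_cases : Nat.card G = 504 ∨ Nat.card G = 2448 := by
  haveI : Fact q.Prime := ⟨K.prime⟩
  have hi2 := K.two_le
  have hqe := K.q_eq
  rcases K.sign with hδ | hδ
  · rw [hδ] at hqe
    have hq : q = 2 ^ K.i + 1 := by exact_mod_cast hqe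
    rcases Nat.lt_or_ge K.i 5 with h | h
    · obtain ⟨i, hi⟩ : ∃ i, K.i = i := ⟨_, rfl⟩
      rw [hi] at hq h hi2
      interval_cases i
      · exact absurd (K.q_five (by rw [hq]; norm_num) hδ hi) id
      · exfalso
        have hp := K.prime
        rw [hq] at hp
        norm_num at hp
      · exact Or.inr (K.q_seventeen (by rw [hq]; norm_num) hδ hi)
    · exfalso
      obtain ⟨P⟩ := Sylow.nonempty (p := q) (G := G)
      exact fermat_index hq h (K.s_dvd_pred P) (K.s_modEq P)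
  · rw [hδ] at hqe
    have hq : q + 1 = 2 ^ K.i := by
      have : ((q : ℤ) + 1) = 2 ^ K.i := by linarith
      exact_mod_cast this
    rcases Nat.lt_or_ge K.i 5 with h | h
    · obtain ⟨i, hi⟩ : ∃ i, K.i = i := ⟨_, rfl⟩
      rw [hi] at hq h hi2
      interval_cases i
      · exact absurd (by omega : q = 3) K.ne_three
      · exact Or.inl (K.q_seven (by omega) hδ hi)
      · exfalso
        have hp := K.prime
        have hq15 : q = 15 := by omega
        rw [hq15] at hp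
        norm_num at hp
    · exact absurd (K.mersenne_false hδ h) id

end Cfsg.Agent.H33.NineTwoQ
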