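import Mathlib.GroupTheory.Sylow
import Mathlib.GroupTheory.Transfer
import Mathlib.GroupTheory.SpecificGroups.Cyclic
import Mathlib.Data.ZMod.Basic
import Cfsg.Agent.H36.Basic

/-!
# Fusion in a Sylow 3-subgroup of order nine of a simple group with at least three classes of
nonidentity 3-elements
-/

set_option autoImplicit false
set_option linter.style.haveILetI false
set_option linter.unusedSectionVars false

namespace Cfsg.Agent.H33.NineTwoQ

open Subgroup

universe u

variable {G : Type u} [Group G] [Finite G]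

/-- The automorphisms induced by the normalizer. -/
noncomputable def autos (R : Subgroup G) : Subgroup (MulAut R) := R.normalizerMonoidHom.range

/-- The stabilizer of `r` in the normalizer centralizes `R`. -/
def Free (R : Subgroup G) (r : R) : Prop :=
  ∀ n ∈ normalizer (R : Set G), n * (r : G) * n⁻¹ = r → n ∈ centralizer (R : Set G)

theorem mem_autos_iff {R : Subgroup G} {σ : MulAut R} :
    σ ∈ autos R ↔ ∃ n ∈ normalizer (R : Set G), ∀ v : R, (σ v : G) = n * v * n⁻¹ := by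
  constructor
  · rintro ⟨⟨n, hn⟩, rfl⟩
    exact ⟨n, hn, fun v => rfl⟩
  · rintro ⟨n, hn, h⟩
    exact ⟨⟨n, hn⟩, MulEquiv.ext fun v => Subtype.ext (h v).symm⟩

variable {R : Sylow 3 G}

theorem comm (hR : Nat.card (R : Subgroup G) = 3 ^ 2) (r s : (R : Subgroup G)) : r * s = s * r :=
  haveI : Fact (Nat.Prime 3) := ⟨Nat.prime_three⟩
  IsPGroup.commutative_of_card_eq_prime_sq hR r s

theorem three_not_dvd_autos (hR : Nat.card (R : Subgroup G) = 3 ^ 2) :
    ¬ 3 ∣ Nat.card (autos (R : Subgroup G)) := by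
  haveI : Fact (Nat.Prime 3) := ⟨Nat.prime_three⟩
  intro h
  set φ := (R : Subgroup G).normalizerMonoidHom
  have hle : (R : Subgroup G).subgroupOf (normalizer ((R : Subgroup G) : Set G)) ≤ φ.ker := by
    intro n hn
    rw [MonoidHom.mem_ker]
    refine MulEquiv.ext fun v => Subtype.ext ?_
    show (n : G) * v * (n : G)⁻¹ = v
    have h1 := congrArg Subtype.val (comm hR ⟨_, mem_subgroupOf.1 hn⟩ v)
    simp only [Subgroup.coe_mul] at h1
    rw [h1, mul_inv_cancel_right]
  have h9 : 3 ^ 2 ∣ Nat.card φ.ker := by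
    have := Subgroup.card_dvd_of_le hle
    rwa [Nat.card_congr (subgroupOfEquivOfLe le_normalizer).toEquiv, hR] at this
  have h27 : 3 ^ 2 * 3 ∣ Nat.card G := by
    refine (Nat.mul_dvd_mul h9 h).trans ?_
    rw [autos, ← Subgroup.index_ker, Subgroup.card_mul_index]
    exact Subgroup.card_subgroup_dvd_card _
  rw [← Subgroup.card_mul_index (R : Subgroup G), hR] at h27
  exact R.not_dvd_index (Nat.dvd_of_mul_dvd_mul_left (by norm_num) h27)

theorem exists_mem_of_pow_three {g : G} {k : ℕ} (h : orderOf g ∣ 3 ^ k) (R : Sylow 3 G) :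
    ∃ r : (R : Subgroup G), IsConj g r := by
  haveI : Fact (Nat.Prime 3) := ⟨Nat.prime_three⟩
  obtain ⟨j, -, hj⟩ := (Nat.dvd_prime_pow Nat.prime_three).1 h
  obtain ⟨S, hS⟩ := (IsPGroup.of_card (G := zpowers g) (n := j)
    (by rw [Nat.card_zpowers, hj])).exists_le_sylow
  obtain ⟨c, hc⟩ := MulAction.exists_smul_eq G S R
  refine ⟨⟨c * g * c⁻¹, ?_⟩, isConj_iff.2 ⟨c, rfl⟩⟩
  rw [← hc]
  exact Subgroup.smul_mem_pointwise_smul _ (MulAut.conj c) _ (hS (mem_zpowers g))

theorem isConj_iff_autos (hR : Nat.card (R : Subgroup G) = 3 ^ 2) {r s : (R : Subgroup G)} :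
    IsConj (r : G) s ↔ ∃ σ ∈ autos (R : Subgroup G), σ r = s := by
  haveI : Fact (Nat.Prime 3) := ⟨Nat.prime_three⟩
  haveI : IsMulCommutative (R : Subgroup G) := ⟨⟨comm hR⟩⟩
  constructor
  · intro h
    obtain ⟨c, hc⟩ := isConj_iff.1 h
    obtain ⟨n, hn, he⟩ := R.conj_eq_normalizer_conj_of_mem (r : G) c⁻¹ r.2
      (by rw [inv_inv, hc]; exact s.2)
    rw [inv_inv, hc] at he
    refine ⟨(R : Subgroup G).normalizerMonoidHom ⟨n⁻¹, inv_mem hn⟩, ⟨_, rfl⟩, ?_⟩
    · apply Subtype.ext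
      show n⁻¹ * (r : G) * n⁻¹⁻¹ = s
      rw [inv_inv, ← he]
  · rintro ⟨σ, hσ, rfl⟩
    obtain ⟨n, -, hn⟩ := mem_autos_iff.1 hσ
    exact isConj_iff.2 ⟨n, (hn r).symm⟩

variable [IsSimpleGroup G]

theorem exists_moving (hG : ¬ IsMulCommutative G) (hR : Nat.card (R : Subgroup G) = 3 ^ 2)
    {r : (R : Subgroup G)} (hr : r ≠ 1) : ∃ σ ∈ autos (R : Subgroup G), σ r ≠ r := by
  haveI : Fact (Nat.Prime 3) := ⟨Nat.prime_three⟩
  by_contra hall
  push Not at hall
  letI : CommGroup (R : Subgroup G) :=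
    { (inferInstance : Group (R : Subgroup G)) with mul_comm := comm hR }
  have key : ∀ (k : ℕ) (g₀ : G), g₀⁻¹ * (r : G) ^ k * g₀ ∈ (R : Subgroup G) →
      g₀⁻¹ * (r : G) ^ k * g₀ = (r : G) ^ k := by
    intro k g₀ hk
    obtain ⟨σ, hσ, he⟩ := (isConj_iff_autos hR (r := r ^ k) (s := ⟨_, hk⟩)).1
      (isConj_iff.2 ⟨g₀⁻¹, by simp⟩)
    rw [map_pow, hall σ hσ] at he
    simpa using (congrArg Subtype.val he).symm
  have h1 := MonoidHom.transfer_eq_pow (MonoidHom.id (R : Subgroup G)) (r : G) key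
  rw [H36.hom_comm_eq_one hG (MonoidHom.transfer (MonoidHom.id (R : Subgroup G))),
    MonoidHom.one_apply, MonoidHom.id_apply] at h1
  have h2 : r ^ (R : Subgroup G).index = 1 := Subtype.ext (by
    have := congrArg Subtype.val h1
    simpa using this.symm)
  have h3 := orderOf_dvd_of_pow_eq_one h2
  have h4 : orderOf r ∣ 3 ^ 2 := hR ▸ orderOf_dvd_natCard r
  have hcop : Nat.Coprime (R : Subgroup G).index (3 ^ 2) :=
    ((Nat.prime_three.coprime_iff_not_dvd).2 R.not_dvd_index).symm.pow_right 2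
  exact hr (orderOf_eq_one_iff.1 (Nat.eq_one_of_dvd_coprimes hcop h3 h4))

section Coord

variable {H : Type u} [Group H]

/-- Coordinates with respect to two commuting elements of exponent three. -/
def coord (r s : H) (v : ZMod 3 × ZMod 3) : H := r ^ v.1.val * s ^ v.2.val

theorem pow_val_add {r : H} (hr : r ^ 3 = 1) (x y : ZMod 3) :
    r ^ (x + y).val = r ^ x.val * r ^ y.val := by
  rw [ZMod.val_add, ← pow_eq_pow_mod _ hr, pow_add]

theorem pow_val_mul {r : H} (hr : r ^ 3 = 1) (x y : ZMod 3) :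
    r ^ (x * y).val = (r ^ x.val) ^ y.val := by
  rw [ZMod.val_mul, ← pow_eq_pow_mod _ hr, pow_mul]

theorem pow_two_eq_inv {r : H} (hr : r ^ 3 = 1) : r ^ 2 = r⁻¹ :=
  eq_inv_of_mul_eq_one_left (by rw [← pow_succ]; exact hr)

theorem pow_val_neg {r : H} (hr : r ^ 3 = 1) (x : ZMod 3) : r ^ (-x).val = (r ^ x.val)⁻¹ :=
  eq_inv_of_mul_eq_one_left (by rw [← pow_val_add hr, neg_add_cancel]; simp)

variable (hc : ∀ a b : H, a * b = b * a)
include hc

theorem coord_add {r s : H} (hr : r ^ 3 = 1) (hs : s ^ 3 = 1) (v w : ZMod 3 × ZMod 3) :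
    coord r s (v + w) = coord r s v * coord r s w := by
  simp only [coord, Prod.fst_add, Prod.snd_add, pow_val_add hr, pow_val_add hs]
  exact Commute.mul_mul_mul_comm (hc _ _) _ _

theorem coord_bijective [Finite H] (hH : Nat.card H = 9) {r s : H} (hr : r ^ 3 = 1)
    (hs : s ^ 3 = 1) (hr1 : r ≠ 1) (hind : ∀ k : ℕ, s ≠ r ^ k) :
    Function.Bijective (coord r s) := by
  refine (Nat.bijective_iff_injective_and_card _).2 ⟨?_, by rw [hH]; simp⟩
  intro v w h
  have hd : coord r s (v - w) = 1 := by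
    have := coord_add hc hr hs (v - w) w
    rw [sub_add_cancel, h] at this
    exact mul_eq_right.1 this.symm
  rcases hvw : v - w with ⟨x, y⟩
  rw [hvw] at hd
  by_contra hne
  have hne' : ¬ ((x, y) : ZMod 3 × ZMod 3) = 0 := hvw ▸ fun h0 => hne (sub_eq_zero.1 h0)
  have hcases : ∀ y : ZMod 3, y = 0 ∨ y.val = 1 ∨ y.val = 2 := by decide
  simp only [coord] at hd
  rcases hcases y with rfl | hy | hy
  · rcases hcases x with rfl | hx | hx
    · exact hne' rfl
    · rw [hx, ZMod.val_zero, pow_zero, mul_one, pow_one] at hd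
      exact hr1 hd
    · rw [hx, ZMod.val_zero, pow_zero, mul_one, pow_two_eq_inv hr, inv_eq_one] at hd
      exact hr1 hd
  · rw [hy, pow_one] at hd
    refine hind (2 * x.val) ?_
    rw [mul_comm, pow_mul, pow_two_eq_inv (by rw [← pow_mul, mul_comm, pow_mul, hr, one_pow])]
    exact eq_inv_of_mul_eq_one_right hd
  · rw [hy, pow_two_eq_inv hs, mul_inv_eq_one] at hd
    exact hind x.val hd.symm

end Coord

/-- The companion map. -/
def comp3 (i j : ZMod 3) (v : ZMod 3 × ZMod 3) : ZMod 3 × ZMod 3 := (i * v.2, v.1 + j * v.2)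

theorem comp3_table : ∀ i j : ZMod 3, i ≠ 0 →
    (comp3 i j)^[6] (1, 0) = (1, 0) ∨
      ∀ v : ZMod 3 × ZMod 3, v ≠ 0 →
        ∃ n : Fin 8, (comp3 i j)^[(n : ℕ)] (1, 0) = v ∨ (comp3 i j)^[(n : ℕ)] (1, 1) = v := by
  decide

theorem invol (hR : Nat.card (R : Subgroup G) = 3 ^ 2)
    (h3 : 3 ≤ Nat.card {C : ConjClasses G // ∃ g ∈ C.carrier, g ≠ 1 ∧ orderOf g ∣ 9})
    {σ : MulAut (R : Subgroup G)} (hσ : σ ∈ autos (R : Subgroup G)) : σ * σ = 1 := by
  haveI : Fact (Nat.Prime 3) := ⟨Nat.prime_three⟩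
  set k := Nat.card (autos (R : Subgroup G)) with hk
  have hσk : σ ^ k = 1 := by
    have := congrArg Subtype.val (pow_card_eq_one' (x := (⟨σ, hσ⟩ : autos (R : Subgroup G))))
    rwa [Subgroup.coe_pow, OneMemClass.coe_one] at this
  have hk3 : ¬ 3 ∣ orderOf (σ * σ) := fun h => three_not_dvd_autos hR
    (h.trans (orderOf_dvd_of_pow_eq_one (by rw [(Commute.refl σ).mul_pow, hσk, one_mul])))
  obtain ⟨m, hm⟩ := exists_pow_eq_self_of_coprime
    ((Nat.prime_three.coprime_iff_not_dvd).2 hk3)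
  -- what has to be shown
  suffices h6 : ∀ r, ((σ * σ) ^ 3) r = r by
    rw [← hm, show (σ * σ) ^ 3 = 1 from MulEquiv.ext h6, one_pow]
  by_cases hcyc : IsCyclic (R : Subgroup G)
  · intro r
    have h6 : σ ^ 6 = 1 := by
      refine orderOf_dvd_iff_pow_eq_one.1 ((orderOf_dvd_natCard σ).trans ?_)
      rw [IsCyclic.card_mulAut, hR, Nat.totient_prime_pow Nat.prime_three (by norm_num)]
      norm_num
    rw [← pow_two, ← pow_mul, h6]
    rfl
  have hexp : ∀ r : (R : Subgroup G), r ^ 3 = 1 := by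
    intro r
    have hd : orderOf r ∣ 3 ^ 2 := hR ▸ orderOf_dvd_natCard r
    obtain ⟨j, hj2, hj⟩ := (Nat.dvd_prime_pow Nat.prime_three).1 hd
    refine orderOf_dvd_iff_pow_eq_one.1 ?_
    interval_cases j
    · rw [hj]; norm_num
    · rw [hj]; norm_num
    · exact absurd (isCyclic_of_orderOf_eq_card r (by rw [hj, hR])) hcyc
  intro r
  by_contra hne
  have hr1 : r ≠ 1 := fun h => hne (by rw [h, map_one])
  -- `r` and its image are independent
  have hind : ∀ j : ℕ, σ r ≠ r ^ j := by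
    intro j hj
    apply hne
    have h2 : (σ * σ) r = r := by
      rw [MulAut.mul_apply, hj, map_pow, hj, ← pow_mul]
      have hj0 : j % 3 ≠ 0 := fun h0 => hr1 (σ.injective (by
        rw [map_one, hj, pow_eq_pow_mod j (hexp r), h0, pow_zero]))
      rw [pow_eq_pow_mod _ (hexp r), Nat.mul_mod]
      have : j % 3 = 1 ∨ j % 3 = 2 := by omega
      rcases this with h | h <;> rw [h] <;> simp
    show ((σ * σ) ^ 3) r = r
    simp only [pow_succ, pow_zero, one_mul, MulAut.mul_apply] at h2 ⊢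
    simp [h2]
  set s := σ r with hs
  have hbij := coord_bijective (comm hR) (by rw [hR]; norm_num) (hexp r) (hexp s) hr1 hind
  obtain ⟨⟨i, j⟩, hij⟩ := hbij.2 (σ s)
  have hi : i ≠ 0 := by
    rintro rfl
    simp only [coord, ZMod.val_zero, pow_zero, one_mul] at hij
    refine hind j.val (σ.injective ?_)
    rw [map_pow, hij]
  have hstep : ∀ v, σ (coord r s v) = coord r s (comp3 i j v) := by
    intro v
    conv_lhs => rw [coord]
    rw [map_mul, map_pow, map_pow, ← hs, ← hij]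
    simp only [coord, comp3, pow_val_add (hexp s), pow_val_mul (hexp r), pow_val_mul (hexp s)]
    rw [(show Commute (r ^ i.val) (s ^ j.val) from comm hR _ _).mul_pow, ← mul_assoc,
      comm hR (s ^ v.1.val), mul_assoc]
  have hiter : ∀ (n : ℕ) v, (σ ^ n) (coord r s v) = coord r s ((comp3 i j)^[n] v) := by
    intro n
    induction n with
    | zero => intro v; simp
    | succ n ih => intro v; rw [pow_succ, MulAut.mul_apply, hstep, ih, Function.iterate_succ_apply]
  have he0 : coord r s (1, 0) = r := by simp [coord, ZMod.val_one]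
  rcases comp3_table i j hi with h6 | horb
  · apply hne
    rw [← pow_two, ← pow_mul]
    conv_lhs => rw [← he0]
    rw [hiter, h6, he0]
  -- at most two classes
  let f : Bool → {C : ConjClasses G // ∃ g ∈ C.carrier, g ≠ 1 ∧ orderOf g ∣ 9} := fun c =>
    ⟨ConjClasses.mk ((bif c then r else coord r s (1, 1) : (R : Subgroup G)) : G),
      _, ConjClasses.mem_carrier_mk,
      fun h => by
        have h' : (bif c then r else coord r s (1, 1)) = 1 := Subtype.ext h
        cases c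
        · have := hbij.1 (h'.trans (show (1 : (R : Subgroup G)) = coord r s 0 by simp [coord]))
          exact absurd this (by decide)
        · exact hr1 h',
      by rw [Subgroup.orderOf_coe]; exact (_root_.orderOf_dvd_natCard _).trans (by rw [hR]; norm_num)⟩
  have hsurj : Function.Surjective f := by
    rintro ⟨C, g, hgC, hg1, hg9⟩
    obtain ⟨t, ht⟩ := exists_mem_of_pow_three (k := 2) (by simpa using hg9) R
    obtain ⟨v, rfl⟩ := hbij.2 t
    have hv : v ≠ 0 := by
      rintro rfl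
      exact hg1 (isConj_one_right.1 (by simpa [coord] using ht.symm : IsConj 1 g))
    have hC : C = ConjClasses.mk ((coord r s v : (R : Subgroup G)) : G) := by
      rw [← ConjClasses.mem_carrier_iff_mk_eq.1 hgC]
      exact ConjClasses.mk_eq_mk_iff_isConj.2 ht
    obtain ⟨n, hn⟩ := horb v hv
    have hpn : σ ^ (n : ℕ) ∈ autos (R : Subgroup G) := pow_mem hσ _
    rcases hn with hn | hn
    · refine ⟨true, Subtype.ext ?_⟩
      show ConjClasses.mk (r : G) = C
      rw [hC, ConjClasses.mk_eq_mk_iff_isConj]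
      exact (isConj_iff_autos hR).2 ⟨_, hpn, by rw [← hn, ← hiter, he0]⟩
    · refine ⟨false, Subtype.ext ?_⟩
      show ConjClasses.mk (coord r s (1, 1) : G) = C
      rw [hC, ConjClasses.mk_eq_mk_iff_isConj]
      exact (isConj_iff_autos hR).2 ⟨_, hpn, by rw [hiter, hn]⟩
  have := Nat.card_le_card_of_surjective f hsurj
  rw [Nat.card_eq_fintype_card (α := Bool), Fintype.card_bool] at this
  omega

/-- The two possible fusion patterns. -/
theorem fusion_cases (hG : ¬ IsMulCommutative G) (hR : Nat.card (R : Subgroup G) = 3 ^ 2)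
    (h3 : 3 ≤ Nat.card {C : ConjClasses G // ∃ g ∈ C.carrier, g ≠ 1 ∧ orderOf g ∣ 9}) :
    (∀ r : (R : Subgroup G), (∀ s : (R : Subgroup G), IsConj (r : G) s ↔ s = r ∨ s = r⁻¹) ∧
        (r ≠ 1 → Free (R : Subgroup G) r)) ∨
      ∃ e : ZMod 3 × ZMod 3 → (R : Subgroup G), Function.Bijective e ∧
        (∀ v w, e (v + w) = e v * e w) ∧
        (∀ v w, IsConj (e v : G) (e w) ↔
          (w.1 = v.1 ∨ w.1 = -v.1) ∧ (w.2 = v.2 ∨ w.2 = -v.2)) ∧
        Free (R : Subgroup G) (e (1, 1)) := by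
  haveI : Fact (Nat.Prime 3) := ⟨Nat.prime_three⟩
  have hodd : ∀ r : (R : Subgroup G), r = r⁻¹ → r = 1 := by
    intro r h
    have h2 : r ^ 2 = 1 := by rw [pow_two]; exact mul_eq_one_iff_eq_inv.2 h
    have hd : orderOf r ∣ 3 ^ 2 := hR ▸ orderOf_dvd_natCard r
    exact orderOf_eq_one_iff.1 (Nat.eq_one_of_dvd_coprimes (by norm_num)
      (orderOf_dvd_of_pow_eq_one h2) hd)
  by_cases hall : ∀ σ ∈ autos (R : Subgroup G), ∀ r, σ r = r ∨ σ r = r⁻¹
  · left
    intro r
    refine ⟨fun s => ⟨fun h => ?_, fun h => ?_⟩, fun hr n hn hnr => ?_⟩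
    · obtain ⟨σ, hσ, rfl⟩ := (isConj_iff_autos hR).1 h
      exact hall σ hσ r
    · rcases h with rfl | rfl
      · exact IsConj.refl _
      rcases eq_or_ne r 1 with rfl | hr
      · simp
      obtain ⟨σ, hσ, hne⟩ := exists_moving hG hR hr
      exact (isConj_iff_autos hR).2 ⟨σ, hσ, (hall σ hσ r).resolve_left hne⟩
    · set σ := (R : Subgroup G).normalizerMonoidHom ⟨n, hn⟩
      have hσr : σ r = r := Subtype.ext hnr
      have hid : ∀ s, σ s = s := by
        intro s
        rcases hall σ ⟨⟨n, hn⟩, rfl⟩ s with h | h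
        · exact h
        rcases hall σ ⟨⟨n, hn⟩, rfl⟩ (r * s) with h' | h'
        · rw [map_mul, hσr] at h'
          exact mul_left_cancel h'
        · rw [map_mul, hσr, h, mul_inv_rev, comm hR r s⁻¹] at h'
          exact absurd (hodd r (mul_left_cancel h')) hr
      rw [mem_centralizer_iff]
      intro v hv
      have := congrArg Subtype.val (hid ⟨v, hv⟩)
      exact (mul_inv_eq_iff_eq_mul.1 this).symm
  right
  push Not at hall
  obtain ⟨σ, hσ, x, hx1, hx2⟩ := hall
  have hinv : ∀ τ ∈ autos (R : Subgroup G), ∀ r, τ (τ r) = r := fun τ hτ r =>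
    DFunLike.congr_fun (invol hR h3 hτ) r
  set a := x * σ x with ha
  set b := x * (σ x)⁻¹ with hb
  have hσa : σ a = a := by rw [ha, map_mul, hinv σ hσ, comm hR]
  have hσb : σ b = b⁻¹ := by rw [hb, map_mul, map_inv, hinv σ hσ, mul_inv_rev, inv_inv]
  have ha1 : a ≠ 1 := fun h => hx2 (eq_inv_of_mul_eq_one_right h)
  have hb1 : b ≠ 1 := fun h => hx1 (mul_inv_eq_one.1 h).symm
  have hind : ∀ k : ℕ, b ≠ a ^ k := by
    intro k hk
    apply hb1
    apply hodd
    rw [← hσb, hk, map_pow, hσa]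
  have hncyc : ¬ IsCyclic (R : Subgroup G) := by
    intro hc
    obtain ⟨m, hm⟩ := MonoidHom.map_cyclic σ.toMonoidHom
    have hthree : ∀ {r : (R : Subgroup G)}, r ≠ 1 → 3 ∣ orderOf r := by
      intro r hr
      obtain ⟨j, -, hj⟩ := (Nat.dvd_prime_pow Nat.prime_three).1
        (hR ▸ _root_.orderOf_dvd_natCard r : orderOf r ∣ 3 ^ 2)
      rcases j with _ | j
      · exact absurd (orderOf_eq_one_iff.1 (by simpa using hj)) hr
      · rw [hj]; exact dvd_pow_self 3 (by omega)
    have h1 : (3 : ℤ) ∣ m - 1 := (Int.natCast_dvd_natCast.2 (hthree ha1)).trans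
      (orderOf_dvd_iff_zpow_eq_one.2 (by
        rw [zpow_sub, zpow_one, ← hm a]; exact mul_inv_eq_one.2 hσa))
    have h2 : (3 : ℤ) ∣ m + 1 := (Int.natCast_dvd_natCast.2 (hthree hb1)).trans
      (orderOf_dvd_iff_zpow_eq_one.2 (by
        rw [zpow_add, zpow_one, ← hm b]; exact mul_eq_one_iff_eq_inv.2 hσb))
    omega
  have hexp : ∀ r : (R : Subgroup G), r ^ 3 = 1 := by
    intro r
    obtain ⟨j, hj2, hj⟩ := (Nat.dvd_prime_pow Nat.prime_three).1
      (hR ▸ orderOf_dvd_natCard r : orderOf r ∣ 3 ^ 2)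
    refine orderOf_dvd_iff_pow_eq_one.1 ?_
    interval_cases j
    · rw [hj]; norm_num
    · rw [hj]; norm_num
    · exact absurd (isCyclic_of_orderOf_eq_card r (by rw [hj, hR])) hncyc
  have hbij := coord_bijective (comm hR) (by rw [hR]; norm_num) (hexp a) (hexp b) ha1 hind
  set e := coord a b with he
  have hσe : ∀ v, σ (e v) = e (v.1, -v.2) := by
    intro v
    simp only [he, coord, map_mul, map_pow, hσa, hσb, pow_val_neg (hexp b), inv_pow]
  have hfix : ∀ v, σ (e v) = e v → v.2 = 0 := by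
    intro v h
    have h' := congrArg Prod.snd (hbij.1 ((hσe v).symm.trans h))
    simp only at h'
    revert h'
    generalize v.2 = y
    revert y
    decide
  have hneg : ∀ v, σ (e v) = (e v)⁻¹ → v.1 = 0 := by
    intro v h
    have h1 : (e v)⁻¹ = e (-v) := by
      refine inv_eq_of_mul_eq_one_right ?_
      rw [← coord_add (comm hR) (hexp a) (hexp b), add_neg_cancel]
      simp [coord]
    have h' := congrArg Prod.fst (hbij.1 ((hσe v).symm.trans (h.trans h1)))
    simp only [Prod.fst_neg] at h'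
    revert h'
    generalize v.1 = y
    revert y
    decide
  have hea : e (1, 0) = a := by simp [he, coord, ZMod.val_one]
  have heb : e (0, 1) = b := by simp [he, coord, ZMod.val_one]
  have hcomm : ∀ τ ∈ autos (R : Subgroup G), ∀ r, τ (σ r) = σ (τ r) := by
    intro τ hτ r
    have h := hinv _ (mul_mem hτ hσ) r
    simp only [MulAut.mul_apply] at h
    have := congrArg τ h
    rw [hinv τ hτ] at this
    calc τ (σ r) = σ (σ (τ (σ r))) := (hinv σ hσ _).symm
      _ = _ := by rw [this]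
  have hshape : ∀ τ ∈ autos (R : Subgroup G),
      (τ a = a ∨ τ a = a⁻¹) ∧ (τ b = b ∨ τ b = b⁻¹) := by
    intro τ hτ
    have hcases : ∀ y : ZMod 3, y = 0 ∨ y = 1 ∨ y = -1 := by decide
    constructor
    · obtain ⟨⟨i, j⟩, hij⟩ := hbij.2 (τ a)
      have hj : j = 0 := hfix (i, j) (by rw [hij, ← hcomm τ hτ, hσa])
      subst hj
      rcases hcases i with rfl | rfl | rfl
      · exfalso; apply ha1
        apply τ.injective
        rw [← hij, map_one]; simp [he, coord]
      · exact Or.inl (by rw [← hij, hea])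
      · right; rw [← hij]
        simp [he, coord, pow_val_neg (hexp a), ZMod.val_one, pow_two_eq_inv (hexp a)]
    · obtain ⟨⟨i, j⟩, hij⟩ := hbij.2 (τ b)
      have hi : i = 0 := hneg (i, j) (by rw [hij, ← hcomm τ hτ, hσb, map_inv])
      subst hi
      rcases hcases j with rfl | rfl | rfl
      · exfalso; apply hb1
        apply τ.injective
        rw [← hij, map_one]; simp [he, coord]
      · exact Or.inl (by rw [← hij, heb])
      · right; rw [← hij]
        simp [he, coord, pow_val_neg (hexp b), ZMod.val_one, pow_two_eq_inv (hexp b)]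
  have hact : ∀ τ ∈ autos (R : Subgroup G), ∀ v, ∃ w : ZMod 3 × ZMod 3, τ (e v) = e w ∧
      (w.1 = v.1 ∨ w.1 = -v.1) ∧ (w.2 = v.2 ∨ w.2 = -v.2) := by
    intro τ hτ v
    obtain ⟨hA, hB⟩ := hshape τ hτ
    have h0 : τ (e v) = τ a ^ v.1.val * τ b ^ v.2.val := by simp [he, coord]
    rcases hA with hA | hA <;> rcases hB with hB | hB
    · exact ⟨(v.1, v.2), by rw [h0, hA, hB]; rfl, Or.inl rfl, Or.inl rfl⟩
    · exact ⟨(v.1, -v.2), by rw [h0, hA, hB]; simp [he, coord, pow_val_neg (hexp b)],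
        Or.inl rfl, Or.inr rfl⟩
    · exact ⟨(-v.1, v.2), by rw [h0, hA, hB]; simp [he, coord, pow_val_neg (hexp a)],
        Or.inr rfl, Or.inl rfl⟩
    · exact ⟨(-v.1, -v.2), by
        rw [h0, hA, hB]; simp [he, coord, pow_val_neg (hexp a), pow_val_neg (hexp b)],
        Or.inr rfl, Or.inr rfl⟩
  obtain ⟨τ, hτ, hτa, hτb⟩ : ∃ τ ∈ autos (R : Subgroup G), τ a = a⁻¹ ∧ τ b = b := by
    obtain ⟨τ, hτ, hne⟩ := exists_moving hG hR ha1
    have hA := (hshape τ hτ).1.resolve_left hne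
    rcases (hshape τ hτ).2 with hB | hB
    · exact ⟨τ, hτ, hA, hB⟩
    · exact ⟨σ * τ, mul_mem hσ hτ, by rw [MulAut.mul_apply, hA, map_inv, hσa],
        by rw [MulAut.mul_apply, hB, map_inv, hσb, inv_inv]⟩
  refine ⟨e, hbij, coord_add (comm hR) (hexp a) (hexp b), fun v w => ⟨fun h => ?_, fun h => ?_⟩, ?_⟩
  · obtain ⟨ρ, hρ, he'⟩ := (isConj_iff_autos hR).1 h
    obtain ⟨w', hw', h12⟩ := hact ρ hρ v
    rwa [hbij.1 (he'.symm.trans hw')]
  · have hτe : ∀ v, τ (e v) = e (-v.1, v.2) := fun v => by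
      simp [he, coord, hτa, hτb, pow_val_neg (hexp a)]
    rw [isConj_iff_autos hR]
    obtain ⟨v1, v2⟩ := v
    obtain ⟨w1, w2⟩ := w
    obtain ⟨h1 | h1, h2 | h2⟩ := h <;> simp only at h1 h2 <;> subst h1 <;> subst h2
    · exact ⟨1, one_mem _, rfl⟩
    · exact ⟨σ, hσ, hσe _⟩
    · exact ⟨τ, hτ, hτe _⟩
    · exact ⟨σ * τ, mul_mem hσ hτ, by rw [MulAut.mul_apply, hτe, hσe]⟩
  · intro n hn hnr
    set ρ := (R : Subgroup G).normalizerMonoidHom ⟨n, hn⟩
    have hρmem : ρ ∈ autos (R : Subgroup G) := ⟨⟨n, hn⟩, rfl⟩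
    have hρab : ρ (e (1, 1)) = e (1, 1) := Subtype.ext hnr
    have hρ : ρ a = a ∧ ρ b = b := by
      obtain ⟨hA, hB⟩ := hshape ρ hρmem
      have h0 : ρ (e (1, 1)) = ρ a * ρ b := by simp [he, coord, ZMod.val_one]
      have h1 : e (1, 1) = a * b := by simp [he, coord, ZMod.val_one]
      rw [h0, h1] at hρab
      rcases hA with hA | hA <;> rcases hB with hB | hB <;> rw [hA, hB] at hρab
      · exact ⟨hA, hB⟩
      · exact absurd (hodd b (mul_left_cancel hρab).symm) hb1
      · exact absurd (hodd a (mul_right_cancel hρab).symm) ha1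
      · rw [comm hR a⁻¹, ← mul_inv_rev] at hρab
        have h := hodd _ hρab.symm
        exact absurd ((eq_inv_of_mul_eq_one_right h).trans
          (by rw [pow_two_eq_inv (hexp a)] : a⁻¹ = a ^ 2)) (hind 2)
    rw [mem_centralizer_iff]
    intro g hg
    obtain ⟨v, hv⟩ := hbij.2 ⟨g, hg⟩
    have hv' : ρ ⟨g, hg⟩ = ⟨g, hg⟩ := by
      rw [← hv]; simp [he, coord, hρ.1, hρ.2]
    exact (mul_inv_eq_iff_eq_mul.1 (congrArg Subtype.val hv')).symm

end Cfsg.Agent.H33.NineTwoQ
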