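import Cfsg.Agent.H35.PiIndicator
import Cfsg.Agent.H83.SectionSum
import Cfsg.Agent.H36.DegreeEq
import Cfsg.Agent.CharInduce.Ops
import Cfsg.Agent.CharBasic.Virtual

/-!
# Generalized characters depending only on the `p`-part, for controlled fusion
-/

set_option autoImplicit false
set_option linter.style.haveILetI false
set_option linter.unusedSectionVars false

open scoped ComplexConjugate
open Subgroup

namespace Cfsg.Agent.H33.NineTwoQ

open CharBasic CharInduce BlockBasic

universe u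

variable {G : Type u} [Group G] [Fintype G] {p : ℕ} [hp : Fact p.Prime] {R : Sylow p G}

theorem exists_repr (R : Sylow p G) (g : G) :
    ∃ r : (R : Subgroup G), IsConj (r : G) (pPart (p := p) g) := by
  obtain ⟨k, hk⟩ := exists_orderOf_pPart (p := p) g
  obtain ⟨S, hS⟩ := (IsPGroup.of_card (G := zpowers (pPart (p := p) g)) (n := k)
    (by rw [Nat.card_zpowers, hk])).exists_le_sylow
  obtain ⟨c, hc⟩ := MulAction.exists_smul_eq G S R
  refine ⟨⟨c * pPart (p := p) g * c⁻¹, ?_⟩, (isConj_iff.2 ⟨c, rfl⟩ : IsConj (pPart (p := p) g) _).symm⟩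
  rw [← hc]
  exact smul_mem_pointwise_smul _ (MulAut.conj c) _ (hS (mem_zpowers _))

/-- The extension of a fusion invariant function on a Sylow subgroup through the `p`-part. -/
noncomputable def lift (R : Sylow p G) (θ : ↥(R : Subgroup G) → ℂ) (g : G) : ℂ :=
  θ (exists_repr R g).choose

/-- Invariance under fusion. -/
def Fused (R : Sylow p G) (θ : ↥(R : Subgroup G) → ℂ) : Prop :=
  ∀ r s : (R : Subgroup G), IsConj (r : G) s → θ r = θ s

theorem lift_eq {θ : ↥(R : Subgroup G) → ℂ} (hθ : Fused R θ) {g : G} {r : (R : Subgroup G)}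
    (h : IsConj (r : G) (pPart (p := p) g)) : lift R θ g = θ r :=
  hθ _ _ ((exists_repr R g).choose_spec.trans h.symm)

theorem isClassFunction_lift {θ : ↥(R : Subgroup G) → ℂ} (hθ : Fused R θ) :
    IsClassFunction G (lift R θ) := fun g x => by
  refine lift_eq hθ ((exists_repr R g).choose_spec.trans ?_)
  rw [pPart_conj]
  exact isConj_iff.2 ⟨x, rfl⟩

theorem lift_regular {θ : ↥(R : Subgroup G) → ℂ} (hθ : Fused R θ) {g : G} (hg : ¬ p ∣ orderOf g) :
    lift R θ g = θ 1 :=
  lift_eq hθ (by rw [(pPart_eq_one_iff g).2 hg]; exact IsConj.refl _)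

/-- The extension is a generalized character. -/
theorem isGen_lift {θ : ↥(R : Subgroup G) → ℂ} (hθ : Fused R θ)
    (hgen : IsGeneralizedCharacter (R : Subgroup G) θ) :
    IsGeneralizedCharacter G (lift R θ) := by
  classical
  set n := Nat.card (R : Subgroup G) with hn
  set m := (R : Subgroup G).index with hm
  have hcard : Nat.card G = m * n := by rw [hm, hn, Subgroup.index_mul_card]
  obtain ⟨v, hv'⟩ := IsPGroup.iff_card.1 R.isPGroup'
  have hcop : Nat.Coprime m n := by
    rw [hn, hv']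
    exact ((hp.out.coprime_iff_not_dvd).2 R.not_dvd_index).symm.pow_right _
  obtain ⟨bv, hbv0, hbv1⟩ := Nat.chineseRemainder hcop 0 1
  obtain ⟨bu, hbu1, hbu0⟩ := Nat.chineseRemainder hcop 1 0
  have hv : m ∣ bv := Nat.modEq_zero_iff_dvd.1 hbv0
  have hu : n ∣ bu := Nat.modEq_zero_iff_dvd.1 hbu0
  have hsum : ∀ e : G, e ^ (bu + bv) = e := fun e => by
    conv_rhs => rw [← pow_one e]
    rw [pow_eq_pow_iff_modEq]
    exact ((Nat.modEq_and_modEq_iff_modEq_mul hcop).1
      ⟨by simpa using hbu1.add hbv0, by simpa using hbu0.add hbv1⟩).of_dvd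
        (hcard ▸ orderOf_dvd_natCard e)
  have hone : ∀ e : G, e ^ (m * n) = 1 := fun e => hcard ▸ pow_card_eq_one'
  have hord : ∀ e : G, ∃ k, orderOf (e ^ bv) = p ^ k := by
    intro e
    have : (e ^ bv) ^ p ^ v = 1 := by
      obtain ⟨c, hc⟩ := hv
      rw [← hv', ← pow_mul, ← hn, hc, mul_right_comm, pow_mul, hone, one_pow]
    obtain ⟨k, -, hk⟩ := (Nat.dvd_prime_pow hp.out).1 (orderOf_dvd_of_pow_eq_one this)
    exact ⟨k, hk⟩
  have hppart : ∀ e : G, pPart (p := p) e = e ^ bv := by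
    intro e
    have hreg : ¬ p ∣ orderOf (e ^ bu) := by
      intro h
      have h1 : orderOf (e ^ bu) ∣ m := by
        refine orderOf_dvd_of_pow_eq_one ?_
        obtain ⟨c, hc⟩ := hu
        rw [← pow_mul, hc, mul_comm n c, mul_assoc, mul_comm n m, mul_comm, pow_mul, hone, one_pow]
      exact R.not_dvd_index (h.trans h1)
    conv_lhs => rw [← hsum e, add_comm, pow_add]
    exact pPart_mul_of (Commute.pow_pow_self e bv bu) (hord e) hreg
  refine isGeneralized_of_elem (isClassFunction_lift hθ) fun E ⟨ℓ, hℓ, hE⟩ => ?_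
  haveI : Fact ℓ.Prime := ⟨hℓ⟩
  obtain ⟨φu, φv, -, hφv⟩ := H35.PiIndicator.exists_part_homs hE
    (hcard ▸ Subgroup.card_subgroup_dvd_card E) hcop hu hv
    (fun e => Subtype.ext (by simpa using hsum e))
  have hpg : IsPGroup p (φv.range.map E.subtype) := by
    rw [IsPGroup.iff_orderOf]
    rintro ⟨_, _, ⟨e, rfl⟩, rfl⟩
    obtain ⟨k, hk⟩ := hord e
    refine ⟨k, ?_⟩
    rw [← Subgroup.orderOf_coe]
    show orderOf (((φv e : E) : G)) = p ^ k
    rw [hφv, Subgroup.coe_pow, hk]
  obtain ⟨S, hS⟩ := hpg.exists_le_sylow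
  obtain ⟨c, hc⟩ := MulAction.exists_smul_eq G S R
  have hmem : ∀ e : E, c * (φv e : G) * c⁻¹ ∈ (R : Subgroup G) := fun e => by
    rw [← hc]
    exact smul_mem_pointwise_smul _ (MulAut.conj c) _ (hS ⟨φv e, ⟨e, rfl⟩, rfl⟩)
  let f : E →* (R : Subgroup G) := MonoidHom.mk' (fun e => ⟨c * (φv e : G) * c⁻¹, hmem e⟩)
    fun a b => Subtype.ext (by simp only [map_mul, Subgroup.coe_mul]; group)
  have he : (fun e : E => lift R θ e) = fun e : E => θ (f e) := funext fun e => by
    refine lift_eq hθ ?_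
    rw [hppart, ← Subgroup.coe_pow, ← hφv]
    exact (isConj_iff.2 ⟨c, rfl⟩ : IsConj (φv e : G) _).symm
  rw [he]
  exact IsGen.comp hgen f

open scoped Classical in
/-- The average of `F` over the `p`-section of `x`. -/
noncomputable def sA (p : ℕ) [Fact p.Prime] (F : G → ℂ) (x : G) : ℂ :=
  (Nat.card G : ℂ)⁻¹ *
    ∑ g ∈ Finset.univ.filter (fun g : G => IsConj x (pPart (p := p) g)), F g

open scoped Classical in
theorem sA_congr (F : G → ℂ) {x y : G} (h : IsConj x y) : sA p F x = sA p F y := by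
  unfold sA
  congr 1
  refine Finset.sum_congr (Finset.filter_congr fun g _ => ?_) fun _ _ => rfl
  exact ⟨fun hg => h.symm.trans hg, fun hg => h.trans hg⟩

open scoped Classical in
/-- The `p`-regular elements centralizing `x`. -/
noncomputable def regs (p : ℕ) (x : G) : Finset G :=
  Finset.univ.filter fun y : G => y * x = x * y ∧ ¬ p ∣ orderOf y

theorem mem_regs {x y : G} : y ∈ regs p x ↔ y * x = x * y ∧ ¬ p ∣ orderOf y := by
  simp [regs]

open scoped Classical in
theorem sA_eq {F : G → ℂ} (hF : IsClassFunction G F) {x : G} {k : ℕ} (hx : orderOf x = p ^ k) :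
    sA p F x = (Nat.card (centralizer ({x} : Set G)) : ℂ)⁻¹ * ∑ y ∈ regs p x, F (x * y) := by
  classical
  haveI : Fintype (centralizer ({x} : Set G)) := Fintype.ofFinite _
  unfold sA
  refine Eq.trans (congrArg _ (Eq.trans ?_ (H83.sum_section F hF hx))) ?_
  · exact Finset.sum_congr (Finset.ext fun g => by simp) fun _ _ => rfl
  rw [← mul_assoc]
  congr 1
  · have h0 : (Nat.card (centralizer ({x} : Set G)) : ℂ) ≠ 0 := Nat.cast_ne_zero.2 Nat.card_pos.ne'
    rw [inv_mul_eq_iff_eq_mul₀ (Nat.cast_ne_zero.2 Nat.card_pos.ne'), eq_mul_inv_iff_mul_eq₀ h0,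
      ← Nat.cast_mul, Subgroup.index_mul_card]
  rw [show regs p x = (Finset.univ.filter fun s : centralizer ({x} : Set G) =>
      ¬ p ∣ orderOf s).image Subtype.val by
    ext y
    simp only [mem_regs, Finset.mem_image, Finset.mem_filter, Finset.mem_univ, true_and]
    constructor
    · exact fun ⟨h1, h2⟩ => ⟨⟨y, mem_centralizer_singleton_iff.2 h1⟩,
        by rwa [← Subgroup.orderOf_coe], rfl⟩
    · rintro ⟨s, hs, rfl⟩
      exact ⟨mem_centralizer_singleton_iff.1 s.2, by rwa [Subgroup.orderOf_coe]⟩,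
    Finset.sum_image fun a _ b _ h => Subtype.ext h, Finset.sum_filter]
  exact Finset.sum_congr rfl fun s _ => by split_ifs <;> rfl

open scoped Classical in
/-- The inner product with an extended function. -/
theorem sum_lift_mul [Fintype (R : Subgroup G)] {θ : ↥(R : Subgroup G) → ℂ} (hθ : Fused R θ)
    (F : G → ℂ) :
    (Nat.card G : ℂ)⁻¹ * ∑ g : G, lift R θ g * F g = ∑ r : (R : Subgroup G),
      θ r / (Finset.univ.filter fun s : (R : Subgroup G) => IsConj (r : G) s).card *
        sA p F r := by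
  unfold sA
  simp only [Finset.mul_sum, Finset.sum_filter]
  rw [Finset.sum_comm]
  refine Finset.sum_congr rfl fun g _ => ?_
  obtain ⟨r₀, hr₀⟩ := exists_repr R g
  set T := Finset.univ.filter fun r : (R : Subgroup G) => IsConj (r : G) (pPart (p := p) g) with hT
  have hTr : ∀ r ∈ T, θ r = θ r₀ ∧
      (Finset.univ.filter fun s : (R : Subgroup G) => IsConj (r : G) s) = T := by
    intro r hr
    have hr' : IsConj (r : G) (pPart (p := p) g) := (Finset.mem_filter.1 hr).2
    refine ⟨hθ _ _ (hr'.trans hr₀.symm), Finset.filter_congr fun s _ => ?_⟩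
    exact ⟨fun h => h.symm.trans hr', fun h => hr'.trans h.symm⟩
  have hT0 : (T.card : ℂ) ≠ 0 := Nat.cast_ne_zero.2
    (Finset.card_pos.2 ⟨r₀, Finset.mem_filter.2 ⟨Finset.mem_univ _, hr₀⟩⟩).ne'
  rw [lift_eq hθ hr₀]
  simp only [mul_ite, mul_zero]
  rw [← Finset.sum_filter, ← hT, Finset.sum_congr rfl fun r hr => by
    rw [(hTr r hr).1, (hTr r hr).2], Finset.sum_const, nsmul_eq_mul]
  field_simp

/-- The inner product of a class function with a real extended function. -/
theorem classInner_lift [Fintype (R : Subgroup G)] {θ : ↥(R : Subgroup G) → ℂ} (hθ : Fused R θ)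
    (hreal : ∀ r, conj (θ r) = θ r) (F : G → ℂ) [DecidableRel (α := G) IsConj] :
    classInner F (lift R θ) = ∑ r : (R : Subgroup G),
      θ r / (Finset.univ.filter fun s : (R : Subgroup G) => IsConj (r : G) s).card *
        sA p F r := by
  rw [classInner_def]
  have h : ∀ g, F g * conj (lift R θ g) = lift R θ g * F g := fun g => by
    rw [show conj (lift R θ g) = lift R θ g from hreal _, mul_comm]
  rw [Finset.sum_congr rfl fun g _ => h g, sum_lift_mul hθ F]
  exact Finset.sum_congr rfl fun r _ => by congr!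

/-- A generalized character of norm three containing the trivial character once. -/
theorem exists_one_add_sub {θ : G → ℂ} (hgen : IsGeneralizedCharacter G θ)
    (hnorm : classInner θ θ = 3) (hone : classInner θ (fun _ => 1) = 1) (h1 : θ 1 = 0) :
    ∃ U W : IrrCharacter G, U ≠ H36.SelfCentral.triv G ∧ W ≠ H36.SelfCentral.triv G ∧ U ≠ W ∧
      θ = (fun g => 1 + (U : G → ℂ) g - (W : G → ℂ) g) ∧
      ∃ u : ℕ, (U : G → ℂ) 1 = u ∧ (W : G → ℂ) 1 = (u + 1 : ℕ) := by
  classical
  obtain ⟨m, hm, hθ⟩ := CharBasic.IsGen.exists_int_mult hgen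
  let T : IrrCharacter G := H36.SelfCentral.triv G
  have hmT : m T = 1 := by exact_mod_cast (hm T).symm.trans hone
  have hsq : ∑ χ : IrrCharacter G, m χ * m χ = 3 := by
    have h := classInner_eq_sum (ψ := θ) (CharBasic.IsGen.isClassFunction hgen)
    simp only [hm, map_intCast, hnorm] at h
    exact_mod_cast h.symm
  set S := (Finset.univ : Finset (IrrCharacter G)).filter (fun χ => χ ≠ T ∧ m χ ≠ 0) with hS
  have hsub : ∀ χ, χ ∉ insert T S → m χ = 0 := fun χ h => by
    simp only [hS, Finset.mem_insert, Finset.mem_filter, Finset.mem_univ, true_and, not_or] at h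
    by_contra hne
    exact h.2 ⟨h.1, hne⟩
  have hTS : T ∉ S := by simp [hS]
  have hS2 : ∑ χ ∈ S, m χ * m χ = 2 := by
    rw [← Finset.sum_subset (Finset.subset_univ (insert T S)) (fun χ _ h => by simp [hsub χ h]),
      Finset.sum_insert hTS, hmT] at hsq
    omega
  have hunit : ∀ χ ∈ S, m χ = 1 ∨ m χ = -1 := by
    intro χ hχ
    have hle : m χ * m χ ≤ 2 :=
      hS2 ▸ Finset.single_le_sum (f := fun χ => m χ * m χ) (fun ψ _ => mul_self_nonneg _) hχ
    have hne : m χ ≠ 0 := (Finset.mem_filter.1 hχ).2.2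
    have : m χ ≤ 1 ∧ -1 ≤ m χ := ⟨by nlinarith, by nlinarith⟩
    omega
  have hcard : S.card = 2 := by
    have h : ∑ χ ∈ S, m χ * m χ = ∑ _χ ∈ S, (1 : ℤ) :=
      Finset.sum_congr rfl fun χ hχ => by rcases hunit χ hχ with e | e <;> simp [e]
    rw [hS2, Finset.sum_const, nsmul_eq_mul, mul_one] at h
    exact_mod_cast h.symm
  obtain ⟨A, B, hAB, hSAB⟩ := Finset.card_eq_two.1 hcard
  have hA : A ∈ S := by rw [hSAB]; simp
  have hB : B ∈ S := by rw [hSAB]; simp
  have hval : ∀ g : G,
      θ g = 1 + ((m A : ℂ) * (A : G → ℂ) g + (m B : ℂ) * (B : G → ℂ) g) := by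
    intro g
    conv_lhs => rw [hθ]
    rw [← Finset.sum_subset (Finset.subset_univ (insert T S)) (fun χ _ h => by simp [hsub χ h]),
      Finset.sum_insert hTS, hSAB, Finset.sum_pair hAB, hmT]
    simp [T, H36.SelfCentral.triv]
  obtain ⟨a, ha0, ha⟩ : ∃ a : ℕ, 0 < a ∧ (A : G → ℂ) 1 = a :=
    ⟨_, (H83.charDegree_eq A.2).2, (H83.charDegree_eq A.2).1⟩
  obtain ⟨b, hb0, hb⟩ : ∃ b : ℕ, 0 < b ∧ (B : G → ℂ) 1 = b :=
    ⟨_, (H83.charDegree_eq B.2).2, (H83.charDegree_eq B.2).1⟩
  have he : (1 : ℤ) + (m A * a + m B * b) = 0 := by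
    have := hval 1
    rw [h1, ha, hb] at this
    exact_mod_cast this.symm
  have hA' : A ≠ T := (Finset.mem_filter.1 hA).2.1
  have hB' : B ≠ T := (Finset.mem_filter.1 hB).2.1
  rcases hunit A hA with hmA | hmA <;> rcases hunit B hB with hmB | hmB <;> rw [hmA, hmB] at he
  · omega
  · refine ⟨A, B, hA', hB', hAB, funext fun g => ?_, a, ha, ?_⟩
    · rw [hval, hmA, hmB]; push_cast; ring
    · rw [hb]; congr 1; omega
  · refine ⟨B, A, hB', hA', hAB.symm, funext fun g => ?_, b, hb, ?_⟩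
    · rw [hval, hmA, hmB]; push_cast; ring
    · rw [ha]; congr 1; omega
  · omega

end Cfsg.Agent.H33.NineTwoQ
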