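import Cfsg.Agent.BlockBasic.Kernel
import Cfsg.Agent.H33.NineTwoQ.Lift
import Cfsg.Agent.H33.NineTwoQ.Fusion

/-!
# Congruences for sums of character values over `p`-regular elements of a centralizer
-/

set_option autoImplicit false
set_option linter.style.haveILetI false
set_option linter.unusedSectionVars false

open scoped ComplexConjugate
open Subgroup

namespace Cfsg.Agent.H33.NineTwoQ

open CharBasic BlockBasic

universe u

variable {G : Type u} [Group G] [Fintype G] {p : ℕ} [hp : Fact p.Prime]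

open scoped Classical in
theorem exists_card_orbit (P : Subgroup G) (hP : IsPGroup p P) (y : G)
    (hy : y ∉ centralizer (P : Set G)) :
    p ∣ (Finset.univ.filter fun z : G => ∃ u ∈ P, u * y * u⁻¹ = z).card := by
  set O := Finset.univ.filter fun z : G => ∃ u ∈ P, u * y * u⁻¹ = z with hO
  set T : Subgroup P := (centralizer ({y} : Set G)).subgroupOf P with hT
  have hiff : ∀ u v : P, u⁻¹ * v ∈ T ↔ (u : G) * y * (u : G)⁻¹ = (v : G) * y * (v : G)⁻¹ := by
    intro u v
    rw [hT, mem_subgroupOf, mem_centralizer_singleton_iff]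
    push_cast
    constructor
    · intro h
      calc (u : G) * y * (u : G)⁻¹ = (u : G) * (y * ((u : G)⁻¹ * v)) * (v : G)⁻¹ := by group
        _ = _ := by rw [← h]; group
    · intro h
      calc (u : G)⁻¹ * v * y = (u : G)⁻¹ * ((v : G) * y * (v : G)⁻¹) * v := by group
        _ = _ := by rw [← h]; group
  let f : P ⧸ T → {z // z ∈ O} := Quotient.lift
    (fun u : P => ⟨(u : G) * y * (u : G)⁻¹,
      Finset.mem_filter.2 ⟨Finset.mem_univ _, u, u.2, rfl⟩⟩)
    (fun u v h => Subtype.ext ((hiff u v).1 (QuotientGroup.leftRel_apply.1 h)))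
  have hf : Function.Bijective f := by
    constructor
    · intro a b h
      induction a using QuotientGroup.induction_on
      induction b using QuotientGroup.induction_on
      exact QuotientGroup.eq.2 ((hiff _ _).2 (congrArg Subtype.val h))
    · rintro ⟨z, hz⟩
      obtain ⟨u, hu, rfl⟩ := (Finset.mem_filter.1 hz).2
      exact ⟨QuotientGroup.mk ⟨u, hu⟩, rfl⟩
  have hcard : O.card = T.index := by
    rw [Subgroup.index, Nat.card_congr (Equiv.ofBijective f hf), Nat.card_eq_fintype_card,
      Fintype.card_coe]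
  obtain ⟨k, hk⟩ := hP.index T
  rw [hcard, hk]
  rcases k with _ | k
  · refine absurd ?_ hy
    rw [pow_zero, Subgroup.index_eq_one, Subgroup.eq_top_iff'] at hk
    rw [mem_centralizer_iff]
    intro u hu
    exact mem_centralizer_singleton_iff.1 (mem_subgroupOf.1 (hk ⟨u, hu⟩))
  · exact dvd_pow_self p (Nat.succ_ne_zero k)

open scoped Classical in
/-- A sum invariant under a `p`-group reduces to its fixed points. -/
theorem exists_sum_eq_fixed_add (P : Subgroup G) (hP : IsPGroup p P) (f : G → ℂ)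
    (J : AddSubgroup ℂ) (S : Finset G) (hS : ∀ u ∈ P, ∀ y ∈ S, u * y * u⁻¹ ∈ S)
    (hf : ∀ u ∈ P, ∀ y ∈ S, f (u * y * u⁻¹) = f y)
    (hJ : ∀ y ∈ S, y ∉ centralizer (P : Set G) → f y ∈ J) :
    ∃ t ∈ J, ∑ y ∈ S, f y = ∑ y ∈ S.filter (· ∈ centralizer (P : Set G)), f y + p * t := by
  induction S using Finset.strongInduction with
  | _ S ih =>
    by_cases hall : ∀ y ∈ S, y ∈ centralizer (P : Set G)
    · refine ⟨0, J.zero_mem, ?_⟩
      rw [Finset.filter_true_of_mem hall]
      simp
    push Not at hall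
    obtain ⟨y, hyS, hy⟩ := hall
    set O := Finset.univ.filter fun z : G => ∃ u ∈ P, u * y * u⁻¹ = z with hO
    have hOS : O ⊆ S := by
      intro z hz
      obtain ⟨u, hu, rfl⟩ := (Finset.mem_filter.1 hz).2
      exact hS u hu y hyS
    have hyO : y ∈ O := Finset.mem_filter.2 ⟨Finset.mem_univ _, 1, P.one_mem, by simp⟩
    have hOconst : ∀ z ∈ O, f z = f y := by
      intro z hz
      obtain ⟨u, hu, rfl⟩ := (Finset.mem_filter.1 hz).2
      exact hf u hu y hyS
    have hOfix : ∀ z ∈ O, z ∉ centralizer (P : Set G) := by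
      intro z hz hzc
      obtain ⟨u, hu, rfl⟩ := (Finset.mem_filter.1 hz).2
      have h1 := mem_centralizer_iff.1 hzc u hu
      have : u * y * u⁻¹ = y := by
        apply mul_left_cancel (a := u)
        rw [h1]; group
      exact hy (this ▸ hzc)
    have hSO : ∀ u ∈ P, ∀ z ∈ S \ O, u * z * u⁻¹ ∈ S \ O := by
      intro u hu z hz
      rw [Finset.mem_sdiff] at hz ⊢
      refine ⟨hS u hu z hz.1, fun h => hz.2 ?_⟩
      obtain ⟨w, hw, he⟩ := (Finset.mem_filter.1 h).2
      refine Finset.mem_filter.2 ⟨Finset.mem_univ _, u⁻¹ * w, P.mul_mem (P.inv_mem hu) hw, ?_⟩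
      calc u⁻¹ * w * y * (u⁻¹ * w)⁻¹ = u⁻¹ * (w * y * w⁻¹) * u := by group
        _ = z := by rw [he]; group
    obtain ⟨t, ht, he⟩ := ih (S \ O) (Finset.sdiff_ssubset hOS ⟨y, hyO⟩) hSO
      (fun u hu z hz => hf u hu z (Finset.mem_sdiff.1 hz).1)
      (fun z hz => hJ z (Finset.mem_sdiff.1 hz).1)
    obtain ⟨k, hk⟩ := exists_card_orbit P hP y hy
    refine ⟨t + k • f y, J.add_mem ht (J.nsmul_mem (hJ y hyS hy) k), ?_⟩
    rw [← Finset.sum_sdiff hOS, he, Finset.sum_congr rfl hOconst, Finset.sum_const, hk,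
      show (S \ O).filter (· ∈ centralizer (P : Set G)) = S.filter (· ∈ centralizer (P : Set G)) by
        ext z
        simp only [Finset.mem_filter, Finset.mem_sdiff]
        exact ⟨fun h => ⟨h.1.1, h.2⟩, fun h => ⟨⟨h.1, fun ho => hOfix z ho h.2⟩, h.2⟩⟩]
    simp only [nsmul_eq_mul]
    push_cast
    ring

variable {M : Ideal AlgInt}

/-- The local ideal as an additive subgroup. -/
def locIdealAdd (hM : IsPModular p M) : AddSubgroup ℂ where
  carrier := {z | MemLocalIdeal M z}
  zero_mem' := memLocalIdeal_zero hM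
  add_mem' := fun ha hb => memLocalIdeal_add hM ha hb
  neg_mem' := fun ha => memLocalIdeal_neg ha

/-- The local ring as an additive subgroup. -/
def locRingAdd (hM : IsPModular p M) : AddSubgroup ℂ := (locRing hM).toAddSubgroup

theorem memLocalIdeal_p_mul (hM : IsPModular p M) {t : ℂ} (ht : MemLocalRing M t) :
    MemLocalIdeal M ((p : ℂ) * t) := by
  rw [mul_comm]
  exact memLocalIdeal_mul hM ht ((memLocalIdeal_natCast_iff hM p).2 dvd_rfl)

variable (χ : IrrCharacter G) (g : G)

/-- `|cl g| χ(g) / χ(1)`. -/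
theorem exists_omega (hM : IsPModular p M) {d : ℕ} (hd : (χ : G → ℂ) 1 = d) :
    ∃ w : ℂ, MemLocalRing M w ∧ IsIntegral ℤ w ∧ centralChar (χ : G → ℂ) g = w ∧
      ((centralizer ({g} : Set G)).index : ℂ) * (χ : G → ℂ) g = (d : ℂ) * w := by
  have hi := CharBasic.IsIrr.isIntegral_centralChar χ.2 g
  refine ⟨_, memLocalRing_of_isIntegral hM hi, hi, rfl, ?_⟩
  rw [← hd, mul_div_cancel₀ _ (CharBasic.IsIrr.one_ne_zero χ.2)]

theorem memLocalIdeal_of_not_dvd (hM : IsPModular p M) {d : ℕ} (hd : (χ : G → ℂ) 1 = d)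
    (hpd : p ∣ d) (hcl : ¬ p ∣ (centralizer ({g} : Set G)).index) :
    MemLocalIdeal M ((χ : G → ℂ) g) := by
  obtain ⟨w, hw, -, -, he⟩ := exists_omega χ g hM hd
  have h : (χ : G → ℂ) g = ((centralizer ({g} : Set G)).index : ℂ)⁻¹ * w * d := by
    rw [mul_assoc, mul_comm w, ← he, ← mul_assoc, inv_mul_cancel₀
      (Nat.cast_ne_zero.2 Subgroup.index_ne_zero_of_finite), one_mul]
  rw [h]
  exact memLocalIdeal_mul hM (memLocalRing_mul hM (memLocalRing_natCast_inv hM hcl) hw)
    ((memLocalIdeal_natCast_iff hM d).2 hpd)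

theorem centralChar_trivial : centralChar (fun _ : G => (1 : ℂ)) g =
    ((centralizer ({g} : Set G)).index : ℂ) := by
  simp [centralChar]

theorem exists_sub_deg (hM : IsPModular p M) (hB : SameBlock M (fun _ : G => (1 : ℂ)) (χ : G → ℂ))
    {d : ℕ} (hd : (χ : G → ℂ) 1 = d) (hcl : ¬ p ∣ (centralizer ({g} : Set G)).index) :
    ∃ t, MemLocalIdeal M t ∧ (χ : G → ℂ) g = d + (d : ℂ) * t := by
  obtain ⟨w, hw, -, hwc, he⟩ := exists_omega χ g hM hd
  have h := hB g
  rw [centralChar_trivial, hwc] at h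
  refine ⟨-(((centralizer ({g} : Set G)).index : ℂ)⁻¹ * (((centralizer ({g} : Set G)).index : ℂ) - w)),
    memLocalIdeal_neg (memLocalIdeal_mul hM (memLocalRing_natCast_inv hM hcl) h), ?_⟩
  have hne : ((centralizer ({g} : Set G)).index : ℂ) ≠ 0 :=
    Nat.cast_ne_zero.2 Subgroup.index_ne_zero_of_finite
  field_simp
  linear_combination he

theorem memLocalIdeal_of_principal (hM : IsPModular p M)
    (hB : SameBlock M (fun _ : G => (1 : ℂ)) (χ : G → ℂ)) {d : ℕ} (hd : (χ : G → ℂ) 1 = d)
    (hpd : p ∣ d) (hcl : ¬ p ^ 2 ∣ (centralizer ({g} : Set G)).index) :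
    MemLocalIdeal M ((χ : G → ℂ) g) := by
  by_cases h1 : p ∣ (centralizer ({g} : Set G)).index
  · obtain ⟨w, hw, -, hwc, he⟩ := exists_omega χ g hM hd
    have h := hB g
    rw [centralChar_trivial, hwc] at h
    have hwM : MemLocalIdeal M w := by
      have := memLocalIdeal_sub hM ((memLocalIdeal_natCast_iff hM _).2 h1) h
      simpa using this
    obtain ⟨k, hk⟩ := h1
    obtain ⟨e, rfl⟩ := hpd
    have hk0 : ¬ p ∣ k := fun h => hcl (by rw [hk, pow_two]; exact mul_dvd_mul_left p h)
    have hk1 : (k : ℂ) ≠ 0 := Nat.cast_ne_zero.2 (by rintro rfl; exact hk0 (dvd_zero p))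
    have hp1 : (p : ℂ) ≠ 0 := Nat.cast_ne_zero.2 hp.out.ne_zero
    have hval : (χ : G → ℂ) g = ((k : ℂ)⁻¹ * e) * w := by
      rw [hk] at he
      push_cast at he
      field_simp
      exact mul_left_cancel₀ hp1 (by linear_combination he)
    rw [hval]
    exact memLocalIdeal_mul hM
      (memLocalRing_mul hM (memLocalRing_natCast_inv hM hk0) (memLocalRing_natCast hM e)) hwM
  · exact memLocalIdeal_of_not_dvd χ g hM hd hpd h1

variable {R : Sylow p G}

/-- The regular elements centralizing the Sylow subgroup. -/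
noncomputable def regR (R : Sylow p G) : Finset G :=
  haveI := Classical.decPred fun y : G => y ∈ centralizer ((R : Subgroup G) : Set G)
  Finset.univ.filter fun y : G => y ∈ centralizer ((R : Subgroup G) : Set G) ∧ ¬ p ∣ orderOf y

variable (hR : Nat.card (R : Subgroup G) = p ^ 2) (r : ↥(R : Subgroup G))
include hR

theorem comm_R (u v : ↥(R : Subgroup G)) : u * v = v * u :=
  IsPGroup.commutative_of_card_eq_prime_sq hR u v

theorem not_dvd_index_of_centralizes {x : G} (hx : (R : Subgroup G) ≤ centralizer ({x} : Set G)) :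
    ¬ p ∣ (centralizer ({x} : Set G)).index := fun h =>
  R.not_dvd_index (h.trans (Subgroup.index_dvd_of_le hx))

theorem not_sq_dvd_index {x : G} (hr : r ≠ 1) (hrx : (r : G) * x = x * r) :
    ¬ p ^ 2 ∣ (centralizer ({x} : Set G)).index := by
  intro h
  have hdvd : orderOf (r : G) ∣ Nat.card (centralizer ({x} : Set G)) := by
    rw [← Subgroup.orderOf_mk (r : G) (mem_centralizer_singleton_iff.2 hrx)]
    exact _root_.orderOf_dvd_natCard _
  have hpr : p ∣ orderOf (r : G) := by
    rw [Subgroup.orderOf_coe]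
    obtain ⟨j, -, hj⟩ := (Nat.dvd_prime_pow hp.out).1
      (hR ▸ _root_.orderOf_dvd_natCard r : orderOf r ∣ p ^ 2)
    rcases j with _ | j
    · exact absurd (orderOf_eq_one_iff.1 (by simpa using hj)) hr
    · rw [hj]; exact dvd_pow_self p (Nat.succ_ne_zero j)
  have h3 : p * p ^ 2 ∣ Nat.card G := by
    rw [← Subgroup.card_mul_index (centralizer ({x} : Set G))]
    exact mul_dvd_mul (hpr.trans hdvd) h
  rw [← Subgroup.card_mul_index (R : Subgroup G), hR, mul_comm p] at h3
  exact R.not_dvd_index (Nat.dvd_of_mul_dvd_mul_left (pow_pos hp.out.pos 2) h3)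

theorem regs_stable {u : G} (hu : u ∈ (R : Subgroup G)) {y : G} (hy : y ∈ regs p (r : G)) :
    u * y * u⁻¹ ∈ regs p (r : G) := by
  obtain ⟨h1, h2⟩ := mem_regs.1 hy
  have hur : u * (r : G) = r * u := congrArg Subtype.val (comm_R hR ⟨u, hu⟩ r)
  refine mem_regs.2 ⟨?_, by rwa [← MulAut.conj_apply, MulEquiv.orderOf_eq]⟩
  have hur' : u⁻¹ * (r : G) = r * u⁻¹ := ((show Commute u (r : G) from hur).inv_left).eq
  calc u * y * u⁻¹ * r = u * y * (u⁻¹ * r) := by group
    _ = u * (y * r) * u⁻¹ := by rw [hur']; group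
    _ = u * r * y * u⁻¹ := by rw [h1]; group
    _ = _ := by rw [hur]; group

omit hR in
theorem conj_mul {u y : G} (hur : u * (r : G) = r * u) :
    (r : G) * (u * y * u⁻¹) = u * ((r : G) * y) * u⁻¹ := by
  calc (r : G) * (u * y * u⁻¹) = (r : G) * u * y * u⁻¹ := by group
    _ = _ := by rw [← hur]; group

open scoped Classical in
theorem regs_fixed :
    (regs p (r : G)).filter (· ∈ centralizer ((R : Subgroup G) : Set G)) = regR R := by
  ext y
  simp only [regR, Finset.mem_filter, mem_regs, Finset.mem_univ, true_and]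
  constructor
  · exact fun h => ⟨h.2, h.1.2⟩
  · exact fun h => ⟨⟨(mem_centralizer_iff.1 h.1 r r.2).symm, h.2⟩, h.1⟩

theorem le_centralizer_mul {y : G} (hy : y ∈ centralizer ((R : Subgroup G) : Set G)) :
    (R : Subgroup G) ≤ centralizer ({(r : G) * y} : Set G) := by
  intro u hu
  rw [mem_centralizer_singleton_iff]
  have h1 : u * (r : G) = r * u := congrArg Subtype.val (comm_R hR ⟨u, hu⟩ r)
  have h2 : u * y = y * u := mem_centralizer_iff.1 hy u hu
  calc u * ((r : G) * y) = u * r * y := by group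
    _ = r * (u * y) := by rw [h1]; group
    _ = _ := by rw [h2]; group

theorem card_regs_congr :
    ∃ k : ℤ, ((regs p (r : G)).card : ℤ) = (regR R).card + p * k := by
  classical
  obtain ⟨t, ⟨k, rfl⟩, he⟩ := exists_sum_eq_fixed_add (R : Subgroup G) R.isPGroup'
    (fun _ => (1 : ℂ)) (Int.castAddHom ℂ).range (regs p (r : G))
    (fun u hu y hy => regs_stable hR r hu hy) (fun _ _ _ _ => rfl)
    (fun _ _ _ => ⟨1, by simp⟩)
  rw [regs_fixed hR r] at he
  simp only [Finset.sum_const, nsmul_eq_mul, mul_one, Int.coe_castAddHom] at he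
  exact ⟨k, by exact_mod_cast he⟩

/-- Sums over regular elements of a centralizer vanish modulo `M` when `p` divides the degree. -/
theorem memLocalIdeal_sum_regs (hM : IsPModular p M) {d : ℕ} (hd : (χ : G → ℂ) 1 = d)
    (hpd : p ∣ d) : MemLocalIdeal M (∑ y ∈ regs p (r : G), (χ : G → ℂ) ((r : G) * y)) := by
  classical
  obtain ⟨t, ht, he⟩ := exists_sum_eq_fixed_add (R : Subgroup G) R.isPGroup'
    (fun y => (χ : G → ℂ) ((r : G) * y)) (locRingAdd hM) (regs p (r : G))
    (fun u hu y hy => regs_stable hR r hu hy)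
    (fun u hu y _ => by
      rw [conj_mul r (congrArg Subtype.val (comm_R hR ⟨u, hu⟩ r))]
      exact CharBasic.IsIrr.isClassFunction χ.2 _ _)
    (fun y _ _ => memLocalRing_of_isIntegral hM (BlockBasic.isIntegral_apply χ _))
  rw [he, regs_fixed hR r]
  refine memLocalIdeal_add hM (memLocalIdeal_sum hM _ _ fun y hy => ?_) (memLocalIdeal_p_mul hM ht)
  exact memLocalIdeal_of_not_dvd χ _ hM hd hpd
    (not_dvd_index_of_centralizes hR (le_centralizer_mul hR r (Finset.mem_filter.1 hy).2.1))

/-- The finer congruence in the principal block. -/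
theorem exists_sum_regs_principal (hM : IsPModular p M)
    (hB : SameBlock M (fun _ : G => (1 : ℂ)) (χ : G → ℂ)) {d : ℕ} (hd : (χ : G → ℂ) 1 = d)
    (hpd : p ∣ d) (hr : r ≠ 1) :
    ∃ t, MemLocalIdeal M t ∧ ∑ y ∈ regs p (r : G), (χ : G → ℂ) ((r : G) * y) =
      ((regR R).card : ℂ) * d + p * t := by
  classical
  obtain ⟨t, ht, he⟩ := exists_sum_eq_fixed_add (R : Subgroup G) R.isPGroup'
    (fun y => (χ : G → ℂ) ((r : G) * y)) (locIdealAdd hM) (regs p (r : G))
    (fun u hu y hy => regs_stable hR r hu hy)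
    (fun u hu y _ => by
      rw [conj_mul r (congrArg Subtype.val (comm_R hR ⟨u, hu⟩ r))]
      exact CharBasic.IsIrr.isClassFunction χ.2 _ _)
    (fun y hy _ => memLocalIdeal_of_principal χ _ hM hB hd hpd (not_sq_dvd_index hR r hr (by
      rw [mul_assoc, (mem_regs.1 hy).1])))
  rw [he, regs_fixed hR r]
  have hfix : ∀ y : G, ∃ s, MemLocalIdeal M s ∧
      (y ∈ regR R → (χ : G → ℂ) ((r : G) * y) = d + (d : ℂ) * s) := by
    intro y
    by_cases hy : y ∈ regR R
    · obtain ⟨s, hs, hs'⟩ := exists_sub_deg χ ((r : G) * y) hM hB hd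
        (not_dvd_index_of_centralizes hR (le_centralizer_mul hR r (Finset.mem_filter.1 hy).2.1))
      exact ⟨s, hs, fun _ => hs'⟩
    · exact ⟨0, memLocalIdeal_zero hM, fun h => absurd h hy⟩
  choose s hs hs' using hfix
  obtain ⟨e, rfl⟩ := hpd
  refine ⟨t + ∑ y ∈ regR R, (e : ℂ) * s y, memLocalIdeal_add hM ht
    (memLocalIdeal_sum hM _ _ fun y _ => memLocalIdeal_mul hM (memLocalRing_natCast hM e) (hs y)), ?_⟩
  rw [Finset.sum_congr rfl fun y hy => hs' y hy, Finset.sum_add_distrib, Finset.sum_const,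
    nsmul_eq_mul, mul_add, Finset.mul_sum]
  push_cast
  ring_nf

/-- With trivial stabilizer in the normalizer the centralizer has a normal complement. -/
theorem card_centralizer_free (hfree : ∀ n ∈ normalizer ((R : Subgroup G) : Set G),
    n * (r : G) * n⁻¹ = r → n ∈ centralizer ((R : Subgroup G) : Set G)) :
    Nat.card (centralizer ({(r : G)} : Set G)) = p ^ 2 * (regs p (r : G)).card := by
  classical
  set C := centralizer ({(r : G)} : Set G) with hC
  have hle : (R : Subgroup G) ≤ C := fun u hu => mem_centralizer_singleton_iff.2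
    (congrArg Subtype.val (comm_R hR ⟨u, hu⟩ r))
  let S : Sylow p C := R.subtype hle
  have hS : (S : Subgroup C) = (R : Subgroup G).subgroupOf C := R.coe_subtype hle
  have hSN : normalizer ((S : Subgroup C) : Set C) ≤ centralizer ((S : Subgroup C) : Set C) := by
    intro n hn
    have hn' : (n : G) ∈ normalizer ((R : Subgroup G) : Set G) := by
      rw [mem_normalizer_iff]
      intro v
      constructor
      · intro hv
        have := (mem_normalizer_iff.1 hn ⟨v, hle hv⟩).1 (by rw [hS]; exact hv)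
        rw [hS] at this
        exact this
      · intro hv
        have hvC : v ∈ C := by
          have : v = (n : G)⁻¹ * ((n : G) * v * (n : G)⁻¹) * n := by group
          rw [this]
          exact C.mul_mem (C.mul_mem (C.inv_mem n.2) (hle hv)) n.2
        have := (mem_normalizer_iff.1 hn ⟨v, hvC⟩).2 (by rw [hS]; exact hv)
        rw [hS] at this
        exact this
    have hc := hfree n hn' (mul_inv_eq_iff_eq_mul.2 (mem_centralizer_singleton_iff.1 n.2))
    rw [mem_centralizer_iff]
    intro v hv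
    rw [hS] at hv
    exact Subtype.ext (mem_centralizer_iff.1 hc v hv)
  set K := (MonoidHom.transferSylow S hSN).ker with hK
  have hcomp := MonoidHom.ker_transferSylow_isComplement' S hSN
  have hKcard : Nat.card K * Nat.card (S : Subgroup C) = Nat.card C := hcomp.card_mul
  have hScard : Nat.card (S : Subgroup C) = p ^ 2 := by
    rw [hS, Nat.card_congr (subgroupOfEquivOfLe hle).toEquiv, hR]
  have hregK : ∀ y : C, y ∈ K ↔ ¬ p ∣ orderOf y := by
    intro y
    constructor
    · intro hy h
      refine MonoidHom.not_dvd_card_ker_transferSylow S hSN (h.trans ?_)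
      rw [← Subgroup.orderOf_mk y hy]
      exact _root_.orderOf_dvd_natCard _
    · intro hy
      rw [hK, MonoidHom.mem_ker]
      have h1 := orderOf_map_dvd (MonoidHom.transferSylow S hSN) y
      have h2 : orderOf (MonoidHom.transferSylow S hSN y) ∣ p ^ 2 :=
        hScard ▸ _root_.orderOf_dvd_natCard _
      exact orderOf_eq_one_iff.1 (Nat.eq_one_of_dvd_coprimes
        (((hp.out.coprime_iff_not_dvd).2 hy).symm.pow_right 2) h1 h2)
  have hcard : (regs p (r : G)).card = Nat.card K := by
    rw [Nat.card_eq_fintype_card, Fintype.card_subtype,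
      ← Finset.card_map ⟨fun y : C => (y : G), Subtype.val_injective⟩]
    congr 1
    ext y
    simp only [mem_regs, Finset.mem_map, Finset.mem_filter, Finset.mem_univ, true_and,
      Function.Embedding.coeFn_mk, hregK]
    constructor
    · exact fun ⟨h1, h2⟩ => ⟨⟨y, mem_centralizer_singleton_iff.2 h1⟩,
        by rwa [← Subgroup.orderOf_coe], rfl⟩
    · rintro ⟨v, hv, rfl⟩
      exact ⟨mem_centralizer_singleton_iff.1 v.2, by rwa [Subgroup.orderOf_coe]⟩
  rw [hcard, ← hKcard, hScard, mul_comm]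

end Cfsg.Agent.H33.NineTwoQ
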