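import Cfsg.Agent.H33.NineTwoQ.Congr
import Cfsg.Agent.H33.NineTwoQ.BlockSum
import Mathlib.NumberTheory.LegendreSymbol.AddCharacter
import Mathlib.Analysis.SpecialFunctions.Complex.CircleAddChar

/-!
# Degrees prime to three when the fusion in the Sylow 3-subgroup is that of a four group
-/

set_option autoImplicit false
set_option linter.style.haveILetI false
set_option linter.unusedSectionVars false

open scoped ComplexConjugate
open Subgroup

namespace Cfsg.Agent.H33.NineTwoQ

open CharBasic CharInduce BlockBasic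
open Cfsg.Agent.H36.SelfCentral (triv)

universe u

variable {G : Type u} [Group G] [Fintype G] {R : Sylow 3 G}

theorem std_three (x : ZMod 3) :
    2 - ZMod.stdAddChar x - conj (ZMod.stdAddChar x : ℂ) = if x = 0 then 0 else 3 := by
  have hsum : ∑ y : ZMod 3, ZMod.stdAddChar (y * 1) = (0 : ℂ) := by
    have := AddChar.sum_mulShift (1 : ZMod 3) (ZMod.isPrimitive_stdAddChar 3)
    simpa using this
  rw [← AddChar.map_neg_eq_conj]
  simp only [mul_one] at hsum
  rw [show (Finset.univ : Finset (ZMod 3)) = {0, 1, -1} by decide, Finset.sum_insert (by decide),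
    Finset.sum_insert (by decide), Finset.sum_singleton, AddChar.map_zero_eq_one] at hsum
  have hx : x = 0 ∨ x = 1 ∨ x = -1 := by revert x; decide
  rcases hx with rfl | rfl | rfl
  · simp; norm_num
  · rw [if_neg (by decide)]
    linear_combination -hsum
  · rw [if_neg (by decide), neg_neg]
    linear_combination -hsum

/-- The class relation on coordinates. -/
def Rel (v w : ZMod 3 × ZMod 3) : Prop :=
  (w.1 = v.1 ∨ w.1 = -v.1) ∧ (w.2 = v.2 ∨ w.2 = -v.2)

instance (v : ZMod 3 × ZMod 3) : DecidablePred (Rel v) := fun w => by unfold Rel; infer_instance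

theorem card_rel : ∀ x y : ZMod 3, x ≠ 0 →
    (Finset.univ.filter (Rel (x, y))).card = if y = 0 then 2 else 4 := by
  decide

theorem univ_three : (Finset.univ : Finset (ZMod 3)) = {0, 1, -1} := by decide

theorem zero_not_mem : (0 : ZMod 3) ∉ ({1, -1} : Finset (ZMod 3)) := by decide

theorem one_not_mem : (1 : ZMod 3) ∉ ({-1} : Finset (ZMod 3)) := by decide

theorem one_ne : (1 : ZMod 3) ≠ 0 ∧ (-1 : ZMod 3) ≠ 0 := by decide

theorem pair_ne : ((1, 0) : ZMod 3 × ZMod 3) ≠ 0 ∧ ((1, 1) : ZMod 3 × ZMod 3) ≠ 0 := by decide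

theorem rel_pairs : Rel (1, 0) (-1, 0) ∧ Rel (1, 1) (1, -1) ∧ Rel (1, 1) (-1, 1) ∧
    Rel (1, 1) (-1, -1) := by
  unfold Rel; decide

section Main

variable [Fact (Nat.Prime 3)] [Fintype ↥(R : Subgroup G)]
  (hR : Nat.card (R : Subgroup G) = 3 ^ 2) {e : ZMod 3 × ZMod 3 → ↥(R : Subgroup G)}
  (hbij : Function.Bijective e) (hadd : ∀ v w, e (v + w) = e v * e w)
  (hconj : ∀ v w, IsConj (e v : G) (e w) ↔ Rel v w)
  (hfree : Free (R : Subgroup G) (e (1, 1)))
include hR hbij hadd hconj hfree

omit hR hconj hfree in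
theorem e_zero : e 0 = 1 := by
  have := hadd 0 0
  rw [add_zero] at this
  exact mul_eq_left.1 this.symm

/-- The first coordinate. -/
noncomputable def fstCoord (r : ↥(R : Subgroup G)) : ZMod 3 := ((Equiv.ofBijective e hbij).symm r).1

omit hR hadd hconj hfree in
theorem fstCoord_e (v : ZMod 3 × ZMod 3) : fstCoord hbij (e v) = v.1 := by
  rw [fstCoord]
  exact congrArg Prod.fst ((Equiv.ofBijective e hbij).symm_apply_apply v)

/-- `3` off the kernel of the first coordinate. -/
noncomputable def thetaA (r : ↥(R : Subgroup G)) : ℂ := if fstCoord hbij r = 0 then 0 else 3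

omit hR hconj hfree in
theorem isGen_thetaA : IsGeneralizedCharacter ↥(R : Subgroup G) (thetaA hbij) := by
  let f : ↥(R : Subgroup G) →* ℂˣ := MonoidHom.toHomUnits
    { toFun := fun r => ZMod.stdAddChar (fstCoord hbij r)
      map_one' := by
        rw [← e_zero hbij hadd, fstCoord_e hbij]
        exact AddChar.map_zero_eq_one _
      map_mul' := fun r s => by
        obtain ⟨v, rfl⟩ := hbij.2 r
        obtain ⟨w, rfl⟩ := hbij.2 s
        rw [← hadd, fstCoord_e hbij, fstCoord_e hbij, fstCoord_e hbij, Prod.fst_add,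
          AddChar.map_add_eq_mul] }
  have h1 : IsGeneralizedCharacter ↥(R : Subgroup G) (fun _ => (1 : ℂ)) :=
    CharInduce.IsGen.of_char IsChar.one
  have h := CharInduce.IsGen.sub (CharInduce.IsGen.sub (CharInduce.IsGen.add h1 h1)
    (CharInduce.IsGen.of_char (isCharacter_hom f)))
    (CharInduce.IsGen.of_char (IsChar.conj (isCharacter_hom f)))
  have he : thetaA hbij = (fun _ => (1 : ℂ)) + (fun _ => 1) - (fun r => (f r : ℂ)) -
      (fun r => conj ((f r : ℂ))) := by
    funext r
    simp only [thetaA, ← std_three, Pi.sub_apply, Pi.add_apply]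
    rw [one_add_one_eq_two]
    rfl
  rwa [he]

omit hR hadd hfree in
theorem fused_thetaA : Fused R (thetaA hbij) := by
  intro r s h
  obtain ⟨v, rfl⟩ := hbij.2 r
  obtain ⟨w, rfl⟩ := hbij.2 s
  obtain ⟨h1, -⟩ := (hconj v w).1 h
  simp only [thetaA, fstCoord_e hbij]
  rcases h1 with h1 | h1 <;> simp [h1]

theorem thetaA_one : thetaA hbij (1 : ↥(R : Subgroup G)) = 0 := by
  rw [← e_zero hbij hadd, thetaA, fstCoord_e hbij]
  simp

omit hR hadd hconj hfree in
theorem conj_thetaA (r : ↥(R : Subgroup G)) : conj (thetaA hbij r) = thetaA hbij r := by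
  simp only [thetaA]; split_ifs <;> simp [Complex.conj_ofNat]

/-- The sums against the extension. -/
theorem sum_lift_thetaA (F : G → ℂ) :
    (Nat.card G : ℂ)⁻¹ * ∑ g : G, lift R (thetaA hbij) g * F g =
      3 * sA 3 F (e (1, 0) : G) + 3 * sA 3 F (e (1, 1) : G) := by
  classical
  rw [sum_lift_mul (fused_thetaA hbij hconj), ← (Equiv.ofBijective e hbij).sum_comp]
  simp only [Equiv.ofBijective_apply, thetaA, fstCoord_e hbij]
  have hcls : ∀ v : ZMod 3 × ZMod 3,
      (Finset.univ.filter fun s : ↥(R : Subgroup G) => IsConj (e v : G) s).card =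
        (Finset.univ.filter (Rel v)).card := by
    intro v
    rw [show (Finset.univ.filter fun s : ↥(R : Subgroup G) => IsConj (e v : G) s) =
        (Finset.univ.filter (Rel v)).map ⟨e, hbij.1⟩ by
      ext s
      obtain ⟨w, rfl⟩ := hbij.2 s
      rw [show e w = (⟨e, hbij.1⟩ : _ ↪ _) w from rfl, Finset.mem_map']
      simp only [Finset.mem_filter, Finset.mem_univ, true_and, Function.Embedding.coeFn_mk, hconj],
      Finset.card_map]
  simp only [hcls]
  have hval : ∀ v w, Rel v w → sA 3 F (e v : G) = sA 3 F (e w : G) := fun v w h =>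
    sA_congr F ((hconj v w).2 h)
  rw [Fintype.sum_prod_type, univ_three]
  simp only [Finset.sum_insert zero_not_mem, Finset.sum_insert one_not_mem, Finset.sum_singleton]
  rw [card_rel 1 0 one_ne.1, card_rel 1 1 one_ne.1, card_rel 1 (-1) one_ne.1,
    card_rel (-1) 0 one_ne.2, card_rel (-1) 1 one_ne.2, card_rel (-1) (-1) one_ne.2]
  simp only [one_ne.1, one_ne.2, if_false, if_true, zero_div, zero_mul, add_zero, zero_add]
  rw [← hval (1, 0) (-1, 0) rel_pairs.1, ← hval (1, 1) (1, -1) rel_pairs.2.1,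
    ← hval (1, 1) (-1, 1) rel_pairs.2.2.1, ← hval (1, 1) (-1, -1) rel_pairs.2.2.2]
  push_cast
  ring

theorem sA_one_ab : sA 3 (fun _ => (1 : ℂ)) (e (1, 1) : G) = 1 / 9 := by
  obtain ⟨k, hk⟩ := IsPGroup.iff_orderOf.1 R.isPGroup' (e (1, 1))
  rw [sA_eq (fun _ _ => rfl) (by rw [Subgroup.orderOf_coe, hk]),
    card_centralizer_free hR _ hfree]
  have h0 : ((regs 3 (e (1, 1) : G)).card : ℂ) ≠ 0 := Nat.cast_ne_zero.2
    (Finset.card_ne_zero.2 ⟨1, mem_regs.2 ⟨by simp, by simp⟩⟩)
  simp only [Finset.sum_const, nsmul_eq_mul, mul_one]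
  push_cast
  field_simp

omit hfree hconj in
/-- Three times the regular elements of the centralizer fit into it. -/
theorem three_mul_card_regs_le :
    3 * (regs 3 (e (1, 0) : G)).card ≤
      Nat.card (centralizer ({(e (1, 0) : G)} : Set G)) := by
  classical
  set a := (e (1, 0) : G) with ha
  have hone : ∀ i j : ZMod 3, i ≠ j → e (i, 0) ≠ e (j, 0) := fun i j h he =>
    h (congrArg Prod.fst (hbij.1 he))
  let f : ZMod 3 × {y // y ∈ regs 3 a} → centralizer ({a} : Set G) := fun x =>
    ⟨(e (x.1, 0) : G) * x.2.1, mem_centralizer_singleton_iff.2 (by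
      have h1 : (e (x.1, 0) : G) * a = a * e (x.1, 0) :=
        congrArg Subtype.val (comm hR (e (x.1, 0)) (e (1, 0)))
      have h2 := (mem_regs.1 x.2.2).1
      calc (e (x.1, 0) : G) * x.2.1 * a = (e (x.1, 0) : G) * (x.2.1 * a) := by group
        _ = (e (x.1, 0) : G) * a * x.2.1 := by rw [h2]; group
        _ = _ := by rw [h1]; group)⟩
  have hpp : ∀ x, pPart (p := 3) ((f x : G)) = e (x.1, 0) := by
    intro x
    obtain ⟨k, hk⟩ := IsPGroup.iff_orderOf.1 R.isPGroup' (e (x.1, 0))
    refine pPart_mul_of ?_ ⟨k, by rw [Subgroup.orderOf_coe, hk]⟩ (mem_regs.1 x.2.2).2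
    have hc : Commute a x.2.1 := (mem_regs.1 x.2.2).1.symm
    have hpow : (e (x.1, 0) : G) = a ^ x.1.val := by
      have : ∀ n : ℕ, e ((n : ZMod 3), 0) = e (1, 0) ^ n := by
        intro n
        induction n with
        | zero => rw [Nat.cast_zero, pow_zero]; exact e_zero hbij hadd
        | succ n ih =>
          rw [pow_succ, ← ih, ← hadd]
          congr 1
          simp
      have h' := congrArg Subtype.val (this x.1.val)
      rw [ZMod.natCast_zmod_val, Subgroup.coe_pow] at h'
      exact h'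
    rw [hpow]
    exact hc.pow_left _
  have hinj : Function.Injective f := by
    intro x y h
    have h1 : e (x.1, 0) = e (y.1, 0) := Subtype.ext (by rw [← hpp x, ← hpp y, h])
    have h2 : x.1 = y.1 := (Prod.ext_iff.1 (hbij.1 h1)).1
    refine Prod.ext h2 (Subtype.ext ?_)
    have h3 := congrArg Subtype.val h
    simp only [f] at h3
    rw [h1] at h3
    exact mul_left_cancel h3
  have := Nat.card_le_card_of_injective f hinj
  rwa [Nat.card_prod, Nat.card_zmod, Nat.card_eq_finsetCard] at this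

variable [IsSimpleGroup G]

/-- The degrees in this case. -/
theorem exists_pair_four (hG : ¬ IsMulCommutative G) :
    ∃ U W : IrrCharacter G, U ≠ triv G ∧ W ≠ triv G ∧
      ∃ u : ℕ, (U : G → ℂ) 1 = u ∧ (W : G → ℂ) 1 = (u + 1 : ℕ) ∧ ¬ 3 ∣ u ∧ ¬ 3 ∣ u + 1 ∧
        ∀ g : G, ¬ 3 ∣ orderOf g → (W : G → ℂ) g = 1 + (U : G → ℂ) g := by
  classical
  obtain ⟨M, hM⟩ := exists_isPModular Nat.prime_three
  set a := e (1, 0) with ha
  set c := e (1, 1) with hc
  have hfu := fused_thetaA hbij hconj
  have hsum := sum_lift_thetaA hR hbij hadd hconj hfree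
  have hθ1 := thetaA_one hR hbij hadd hconj hfree
  have ha1 : a ≠ 1 := by
    rw [← e_zero hbij hadd]
    exact fun h => pair_ne.1 (hbij.1 h)
  have hc1 : c ≠ 1 := by
    rw [← e_zero hbij hadd]
    exact fun h => pair_ne.2 (hbij.1 h)
  obtain ⟨la, hla⟩ := IsPGroup.iff_orderOf.1 R.isPGroup' a
  obtain ⟨lc, hlc⟩ := IsPGroup.iff_orderOf.1 R.isPGroup' c
  -- the order of the centralizers
  set n := (regs 3 (a : G)).card with hn
  set K := (regs 3 (c : G)).card with hK
  set N := Nat.card (centralizer ({(a : G)} : Set G)) with hN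
  have hdvd9 : 9 ∣ N := by
    have h : (R : Subgroup G) ≤ centralizer ({(a : G)} : Set G) := fun u hu =>
      mem_centralizer_singleton_iff.2 (congrArg Subtype.val (comm hR ⟨u, hu⟩ a))
    have := Subgroup.card_dvd_of_le h
    rw [hR] at this
    exact (show (3 : ℕ) ^ 2 = 9 by norm_num) ▸ this
  obtain ⟨m, hm⟩ := hdvd9
  have hn27 : ∀ k : ℕ, 9 * k ∣ Nat.card G → ¬ 3 ∣ k := by
    intro k hk h3
    have h27 : 3 ^ 2 * 3 ∣ Nat.card G := (mul_dvd_mul_left (3 ^ 2) h3).trans (by simpa using hk)
    rw [← Subgroup.card_mul_index (R : Subgroup G), hR] at h27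
    exact R.not_dvd_index (Nat.dvd_of_mul_dvd_mul_left (by norm_num) h27)
  have hm3 : ¬ 3 ∣ m := hn27 m (hm ▸ Subgroup.card_subgroup_dvd_card _)
  have hK3 : ¬ 3 ∣ K := by
    refine hn27 K ?_
    rw [hK, show (9 : ℕ) = 3 ^ 2 by norm_num, ← card_centralizer_free hR c hfree]
    exact Subgroup.card_subgroup_dvd_card _
  have hgen := isGen_lift hfu (isGen_thetaA hbij hadd)
  have hm0 : (m : ℂ) ≠ 0 := Nat.cast_ne_zero.2 (fun h => hm3 (by rw [h]; exact dvd_zero 3))
  have hK0 : (K : ℂ) ≠ 0 := Nat.cast_ne_zero.2 (fun h => hK3 (by rw [h]; exact dvd_zero 3))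
  have hA : ∀ F : G → ℂ, IsClassFunction G F →
      sA 3 F (a : G) = (∑ y ∈ regs 3 (a : G), F ((a : G) * y)) / (9 * m) ∧
      sA 3 F (c : G) = (∑ y ∈ regs 3 (c : G), F ((c : G) * y)) / (9 * K) := by
    intro F hF
    rw [sA_eq hF (by rw [Subgroup.orderOf_coe, hla]), sA_eq hF (by rw [Subgroup.orderOf_coe, hlc]),
      card_centralizer_free hR c hfree, ← hN, hm, ← hK]
    constructor <;> push_cast <;> ring
  -- the inner product with the trivial character
  obtain ⟨k, hk⟩ := CharInduce.IsGen.exists_int_coeff hgen (IsChar.one (G := G))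
  have hk' : (k : ℂ) = 3 * ((n : ℂ) / (9 * m)) + 1 / 3 := by
    rw [← hk, classInner_def]
    simp only [map_one]
    rw [hsum, sA_one_ab hR hbij hadd hconj hfree, (hA _ (fun _ _ => rfl)).1]
    simp only [Finset.sum_const, nsmul_eq_mul, mul_one, ← hn]
    ring
  have hkm : k * (3 * (m : ℤ)) = (n : ℤ) + m := by
    have : (k : ℂ) * (3 * (m : ℂ)) = (n : ℂ) + m := by
      rw [hk']; field_simp; ring
    exact_mod_cast this
  have hn0 : 0 < n := Finset.card_pos.2 ⟨1, mem_regs.2 ⟨by simp, by simp⟩⟩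
  have hle : 3 * n ≤ 9 * m := hm ▸ three_mul_card_regs_le hR hbij hadd
  have hk1 : k = 1 := by
    have h1 : (0 : ℤ) < k := by nlinarith
    have h2 : k < 2 := by nlinarith
    omega
  have hn2 : (n : ℤ) = 2 * m := by rw [hk1] at hkm; linarith
  have hinner1 : classInner (lift R (thetaA hbij)) (fun _ => (1 : ℂ)) = 1 := by
    rw [hk, hk1]; norm_num
  have hnorm : classInner (lift R (thetaA hbij)) (lift R (thetaA hbij)) = 3 := by
    have h : ∀ g, lift R (thetaA hbij) g * conj (lift R (thetaA hbij) g) =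
        3 * (lift R (thetaA hbij) g * conj (1 : ℂ)) := by
      intro g
      simp only [lift, thetaA]
      split_ifs <;> simp [Complex.conj_ofNat]
    rw [classInner_def, Finset.sum_congr rfl fun g _ => h g, ← Finset.mul_sum,
      mul_left_comm, ← classInner_def, hinner1, mul_one]
  obtain ⟨U, W, hU, hW, hUW, heq, u, hu, hw⟩ := exists_one_add_sub hgen hnorm hinner1
    (by rw [lift_regular hfu (by simp), hθ1])
  refine ⟨U, W, hU, hW, u, hu, hw, ?_⟩
  have hzero : ∀ g : G, ¬ 3 ∣ orderOf g → lift R (thetaA hbij) g = 0 := fun g hg => by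
    rw [lift_regular hfu hg, hθ1]
  have hcoef : ∀ ψ : IrrCharacter G, classInner (lift R (thetaA hbij)) (ψ : G → ℂ) =
      (if triv G = ψ then 1 else 0) + (if U = ψ then 1 else 0) - (if W = ψ then 1 else 0) := by
    intro ψ
    rw [heq, show (fun g => 1 + (U : G → ℂ) g - (W : G → ℂ) g) =
      (triv G : G → ℂ) + (U : G → ℂ) - (W : G → ℂ) from rfl, classInner_sub_left,
      classInner_add_left, classInner_irrCharacter, classInner_irrCharacter,
      classInner_irrCharacter]
  -- both lie in the principal block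
  obtain ⟨hd0, -⟩ : 0 < u ∧ True := by
    refine ⟨?_, trivial⟩
    obtain ⟨d, hd2, hd, -⟩ := H36.SelfCentral.exists_degree_two_le hG hU
    have : u = d := by exact_mod_cast hu.symm.trans hd
    omega
  have hblock : SameBlock M (fun _ : G => (1 : ℂ)) (U : G → ℂ) ∧
      SameBlock M (fun _ : G => (1 : ℂ)) (W : G → ℂ) := by
    set B := principalBlock M G
    have hB : IsPBlock M B := isPBlock_principalBlock M
    have hT : triv G ∈ B := sameBlock_refl hM _
    have h := sum_block_degree_eq_zero hM hB hzero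
    simp only [hcoef, sub_mul, add_mul, ite_mul, one_mul, zero_mul] at h
    have hsplit : ∀ ψ : IrrCharacter G, (if ψ ∈ B then
        ((if triv G = ψ then (ψ : G → ℂ) 1 else 0) + (if U = ψ then (ψ : G → ℂ) 1 else 0) -
          (if W = ψ then (ψ : G → ℂ) 1 else 0)) else 0) =
        (if triv G = ψ then (if ψ ∈ B then (ψ : G → ℂ) 1 else 0) else 0) +
        (if U = ψ then (if ψ ∈ B then (ψ : G → ℂ) 1 else 0) else 0) -
        (if W = ψ then (if ψ ∈ B then (ψ : G → ℂ) 1 else 0) else 0) := by
      intro ψ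
      by_cases hψ : ψ ∈ B <;> simp [hψ]
    simp only [hsplit, Finset.sum_sub_distrib, Finset.sum_add_distrib, Finset.sum_ite_eq,
      Finset.mem_univ, if_true, hT, hu, hw] at h
    rw [show (triv G : G → ℂ) 1 = 1 from rfl] at h
    by_cases hUB : U ∈ B <;> by_cases hWB : W ∈ B
    · exact ⟨hUB, hWB⟩
    all_goals exfalso
    · simp only [hUB, hWB, if_true, if_false, sub_zero] at h
      have : 1 + u = 0 := by exact_mod_cast h
      omega
    · simp only [hUB, hWB, if_true, if_false, add_zero] at h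
      have : (1 : ℤ) - ((u + 1 : ℕ) : ℤ) = 0 := by exact_mod_cast h
      omega
    · simp [hUB, hWB] at h
  -- a member of degree divisible by three
  have hdual : ∀ χ : IrrCharacter G, SameBlock M (fun _ : G => (1 : ℂ)) (χ : G → ℂ) →
      ∀ (s : ℤ) (d : ℕ), classInner (χ : G → ℂ) (lift R (thetaA hbij)) = s →
        (χ : G → ℂ) 1 = d → 3 ∣ d → (3 : ℤ) ∣ s := by
    intro χ hB s d hs hd h3d
    have hval : (s : ℂ) = 3 * sA 3 (χ : G → ℂ) (a : G) + 3 * sA 3 (χ : G → ℂ) (c : G) := by
      rw [← hs, ← hsum, classInner_def]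
      refine congrArg _ (Finset.sum_congr rfl fun g _ => ?_)
      rw [show conj (lift R (thetaA hbij) g) = lift R (thetaA hbij) g from conj_thetaA hbij _,
        mul_comm]
    obtain ⟨t, ht, hta⟩ := exists_sum_regs_principal χ hR a hM hB hd h3d ha1
    obtain ⟨t', ht', htc⟩ := exists_sum_regs_principal χ hR c hM hB hd h3d hc1
    obtain ⟨hAa, hAc⟩ := hA _ (CharBasic.IsIrr.isClassFunction χ.2)
    rw [hAa, hAc, hta, htc] at hval
    obtain ⟨k₁, hk₁⟩ := card_regs_congr hR a
    obtain ⟨k₂, hk₂⟩ := card_regs_congr hR c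
    rw [← hn] at hk₁
    rw [← hK] at hk₂
    push_cast at hk₁ hk₂
    set N0 := (regR R).card
    set j : ℤ := (m : ℤ) + k₂ - k₁ with hj
    have hKm : (K : ℂ) + m = 3 * (j : ℂ) := by
      have : (K : ℤ) + m = 3 * j := by rw [hj]; linarith
      exact_mod_cast this
    have key : ((s * m * K : ℤ) : ℂ) =
        ((N0 : ℂ) * (j : ℂ)) * d + ((K : ℂ) * t + (m : ℂ) * t') := by
      push_cast
      rw [hval]
      field_simp
      linear_combination (3 * (N0 : ℂ) * d) * hKm
    have hmem : MemLocalIdeal M ((s * m * K : ℤ) : ℂ) := by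
      rw [key]
      exact memLocalIdeal_add hM (memLocalIdeal_mul hM (memLocalRing_mul hM
        (memLocalRing_natCast hM N0) (memLocalRing_of_isIntegral hM isIntegral_algebraMap))
        ((memLocalIdeal_natCast_iff hM d).2 h3d))
        (memLocalIdeal_add hM (memLocalIdeal_mul hM (memLocalRing_natCast hM K) ht)
          (memLocalIdeal_mul hM (memLocalRing_natCast hM m) ht'))
    have h3 := (memLocalIdeal_intCast_iff hM _).1 hmem
    rcases Int.prime_three.dvd_or_dvd h3 with h | h
    · rcases Int.prime_three.dvd_or_dvd h with h | h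
      · exact h
      · exact absurd (Int.natCast_dvd_natCast.1 h) hm3
    · exact absurd (Int.natCast_dvd_natCast.1 h) hK3
  have hflip : ∀ ψ : IrrCharacter G, classInner (ψ : G → ℂ) (lift R (thetaA hbij)) =
      conj (classInner (lift R (thetaA hbij)) (ψ : G → ℂ)) := fun ψ =>
    (CharInduce.conj_classInner _ _).symm
  refine ⟨fun h => ?_, fun h => ?_, fun g hg => ?_⟩
  · have h3 := hdual U hblock.1 1 u (by
      rw [hflip, hcoef, if_neg (Ne.symm hU), if_pos rfl, if_neg hUW.symm]; simp) hu h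
    norm_num at h3
  · have h3 := hdual W hblock.2 (-1) (u + 1) (by
      rw [hflip, hcoef, if_neg (Ne.symm hW), if_neg hUW, if_pos rfl]; simp) hw h
    norm_num at h3
  · have h0 := congrFun heq g
    rw [hzero g hg] at h0
    linear_combination h0

end Main

end Cfsg.Agent.H33.NineTwoQ
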