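import Cfsg.Agent.H33.NineTwoQ.Inverse
import Cfsg.Agent.H33.NineTwoQ.Four
import Cfsg.Agent.S3784

/-!
# Consecutive degrees: `q = 2 ^ i ± 1`
-/

set_option autoImplicit false
set_option linter.style.haveILetI false
set_option linter.unusedSectionVars false

open Subgroup

namespace Cfsg.Agent.H33.NineTwoQ

open Cfsg.Agent.H36.SelfCentral (triv)

universe u

/-- The data read off from the Sylow 3-subgroup. -/
structure DegreeData (G : Type u) [Group G] [Fintype G] (q : ℕ) where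
  X : IrrCharacter G
  Y : IrrCharacter G
  i : ℕ
  δ : ℤ
  sign : δ = 1 ∨ δ = -1
  q_eq : (q : ℤ) = 2 ^ i + δ
  two_le : 2 ≤ i
  X_ne : X ≠ triv G
  Y_ne : Y ≠ triv G
  X_one : (X : G → ℂ) 1 = q
  Y_one : (Y : G → ℂ) 1 = ((2 ^ i : ℕ) : ℂ)
  rel : ∀ g : G, ¬ 3 ∣ orderOf g → (X : G → ℂ) g = (Y : G → ℂ) g + δ

theorem dvd_pair_cases {q a b x y : ℕ} (hq : q.Prime) (hx : x ∣ 2 ^ a * q ^ b)
    (hy : y ∣ 2 ^ a * q ^ b) (hcop : Nat.Coprime x y) (hx1 : 2 ≤ x) (hy1 : 2 ≤ y) :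
    (∃ i j, 1 ≤ i ∧ 1 ≤ j ∧ x = 2 ^ i ∧ y = q ^ j) ∨
      (∃ i j, 1 ≤ i ∧ 1 ≤ j ∧ y = 2 ^ i ∧ x = q ^ j) := by
  obtain ⟨x₁, x₂, hx₁, hx₂, rfl⟩ := exists_dvd_and_dvd_of_dvd_mul hx
  obtain ⟨y₁, y₂, hy₁, hy₂, rfl⟩ := exists_dvd_and_dvd_of_dvd_mul hy
  obtain ⟨i, -, rfl⟩ := (Nat.dvd_prime_pow Nat.prime_two).1 hx₁
  obtain ⟨j, -, rfl⟩ := (Nat.dvd_prime_pow hq).1 hx₂
  obtain ⟨i', -, rfl⟩ := (Nat.dvd_prime_pow Nat.prime_two).1 hy₁
  obtain ⟨j', -, rfl⟩ := (Nat.dvd_prime_pow hq).1 hy₂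
  have h2 : i = 0 ∨ i' = 0 := by
    by_contra h
    push Not at h
    exact Nat.prime_two.ne_one (Nat.eq_one_of_dvd_coprimes hcop
      ((dvd_pow_self 2 h.1).mul_right _) ((dvd_pow_self 2 h.2).mul_right _))
  have hq' : j = 0 ∨ j' = 0 := by
    by_contra h
    push Not at h
    exact hq.ne_one (Nat.eq_one_of_dvd_coprimes hcop
      ((dvd_pow_self q h.1).mul_left _) ((dvd_pow_self q h.2).mul_left _))
  rcases h2 with rfl | rfl <;> rcases hq' with rfl | rfl <;>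
    simp only [pow_zero, mul_one, one_mul] at *
  · omega
  · exact Or.inr ⟨i', j, Nat.pos_of_ne_zero (by rintro rfl; simp at hy1),
      Nat.pos_of_ne_zero (by rintro rfl; simp at hx1), rfl, rfl⟩
  · exact Or.inl ⟨i, j', Nat.pos_of_ne_zero (by rintro rfl; simp at hx1),
      Nat.pos_of_ne_zero (by rintro rfl; simp at hy1), rfl, rfl⟩
  · omega

variable {G : Type u} [Group G] [Fintype G] [IsSimpleGroup G]

theorem exists_degreeData (hG : ¬ IsMulCommutative G) {q a b : ℕ} (hq : q.Prime) (hq2 : q ≠ 2)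
    (hq3 : q ≠ 3) (hcard : Nat.card G = 9 * 2 ^ a * q ^ b)
    (h3 : 3 ≤ Nat.card {C : ConjClasses G // ∃ g ∈ C.carrier, g ≠ 1 ∧ orderOf g ∣ 9}) :
    Nonempty (DegreeData G q) := by
  classical
  haveI : Fact (Nat.Prime 3) := ⟨Nat.prime_three⟩
  obtain ⟨R⟩ := Sylow.nonempty (p := 3) (G := G)
  have hnd : ¬ 3 ∣ 2 ^ a * q ^ b := by
    intro h
    rcases Nat.prime_three.dvd_mul.1 h with h | h
    · have := (Nat.prime_dvd_prime_iff_eq Nat.prime_three Nat.prime_two).1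
        (Nat.prime_three.dvd_of_dvd_pow h)
      omega
    · exact hq3 ((Nat.prime_dvd_prime_iff_eq Nat.prime_three hq).1
        (Nat.prime_three.dvd_of_dvd_pow h)).symm
  have hR : Nat.card (R : Subgroup G) = 3 ^ 2 :=
    H36.card_sylow_eq hcard R (show 9 * 2 ^ a * q ^ b = 3 ^ 2 * (2 ^ a * q ^ b) by ring) hnd
  haveI : Fintype ↥(R : Subgroup G) := Fintype.ofFinite _
  obtain ⟨U, W, hU, hW, u, hu, hw, hu3, hw3, hrel⟩ :
      ∃ U W : IrrCharacter G, U ≠ triv G ∧ W ≠ triv G ∧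
      ∃ u : ℕ, (U : G → ℂ) 1 = u ∧ (W : G → ℂ) 1 = (u + 1 : ℕ) ∧ ¬ 3 ∣ u ∧ ¬ 3 ∣ u + 1 ∧
        ∀ g : G, ¬ 3 ∣ orderOf g → (W : G → ℂ) g = 1 + (U : G → ℂ) g := by
    rcases fusion_cases hG hR h3 with h | ⟨e, hbij, hadd, hconj, hfree⟩
    · exact exists_pair_inverse hR (fun r s => (h r).1 s) (fun r => (h r).2) hG
    · exact exists_pair_four hR hbij hadd hconj hfree hG
  have hdiv : ∀ (χ : IrrCharacter G) (d : ℕ), χ ≠ triv G → (χ : G → ℂ) 1 = d → ¬ 3 ∣ d →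
      2 ≤ d ∧ d ∣ 2 ^ a * q ^ b := by
    intro χ d hχ hd h3d
    obtain ⟨d', h2, hd', hdvd⟩ := H36.SelfCentral.exists_degree_two_le hG hχ
    obtain rfl : d = d' := by exact_mod_cast hd.symm.trans hd'
    refine ⟨h2, ?_⟩
    rw [hcard, mul_assoc] at hdvd
    exact (show Nat.Coprime d 9 from
      ((Nat.prime_three.coprime_iff_not_dvd).2 h3d).symm.pow_right 2).dvd_of_dvd_mul_left hdvd
  obtain ⟨hu2, hud⟩ := hdiv U u hU hu hu3
  obtain ⟨hw2, hwd⟩ := hdiv W (u + 1) hW hw hw3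
  have hq4 : 4 ≤ q := by have := hq.two_le; omega
  rcases dvd_pair_cases hq hud hwd (by simp) hu2 hw2 with
    ⟨i, j, hi, hj, hu', hw'⟩ | ⟨i, j, hi, hj, hw', hu'⟩
  · rcases S3784.result q 2 j i hq Nat.prime_two hj hi (by omega) with
      ⟨h, -⟩ | ⟨-, rfl, -, hqi⟩ | ⟨h, -⟩
    · exact absurd h hq2
    · refine ⟨⟨W, U, i, 1, Or.inl rfl, by exact_mod_cast hqi, ?_, hW, hU, ?_, ?_, fun g hg => ?_⟩⟩
      · by_contra hlt
        obtain rfl : i = 1 := by omega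
        omega
      · rw [hw, hw', pow_one]
      · rw [hu, hu']
      · rw [hrel g hg]; push_cast; ring
    · exact absurd ((Nat.prime_dvd_prime_iff_eq Nat.prime_three hq).1
        (Nat.prime_three.dvd_of_dvd_pow (h ▸ by norm_num : 3 ∣ q ^ j))).symm hq3
  · rcases S3784.result 2 q i j Nat.prime_two hq hi hj (by omega) with
      ⟨-, rfl, -, hqi⟩ | ⟨h, -⟩ | ⟨h, -⟩
    · refine ⟨⟨U, W, i, -1, Or.inr rfl, ?_, ?_, hU, hW, ?_, ?_, fun g hg => ?_⟩⟩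
      · have h' : ((q : ℤ) + 1) = 2 ^ i := by exact_mod_cast hqi
        linarith
      · by_contra hlt
        obtain rfl : i = 1 := by omega
        omega
      · rw [hu, hu', pow_one]
      · rw [hw, hw']
      · rw [hrel g hg]; push_cast; ring
    · exact absurd h hq2
    · have h3' : 3 ∣ 2 ^ i := by rw [h]; norm_num
      have := (Nat.prime_dvd_prime_iff_eq Nat.prime_three Nat.prime_two).1
        (Nat.prime_three.dvd_of_dvd_pow h3')
      omega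

end Cfsg.Agent.H33.NineTwoQ
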