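import Cfsg.Agent.H33.NineTwoQ.Congr
import Cfsg.Agent.CharInduce.Twist
import Cfsg.Agent.CharBasic.Kernel

/-!
# Degrees prime to three when every element of the Sylow 3-subgroup is fused only with its inverse
-/

set_option autoImplicit false
set_option linter.style.haveILetI false
set_option linter.unusedSectionVars false

open scoped ComplexConjugate
open Subgroup

namespace Cfsg.Agent.H33.NineTwoQ

open CharBasic CharInduce BlockBasic
open Cfsg.Agent.H36.SelfCentral (triv)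

universe u

variable {G : Type u} [Group G] [Fintype G] {R : Sylow 3 G}

/-- The conjugate irreducible character. -/
noncomputable def conjIrr {H : Type u} [Group H] [Fintype H] (ψ : IrrCharacter H) :
    IrrCharacter H :=
  ⟨fun h => conj ((ψ : H → ℂ) h), CharInduce.IsIrr.conj ψ.2⟩

/-- `2 - ψ - ψ̄`. -/
noncomputable def alpha {H : Type u} [Group H] (ψ : IrrCharacter H) (r : H) : ℂ :=
  2 - (ψ : H → ℂ) r - conj ((ψ : H → ℂ) r)

theorem conj_alpha {H : Type u} [Group H] (ψ : IrrCharacter H) (r : H) :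
    conj (alpha ψ r) = alpha ψ r := by
  simp [alpha, Complex.conj_ofNat]; ring

theorem coe_triv {H : Type u} [Group H] [Fintype H] :
    ((triv H : IrrCharacter H) : H → ℂ) = fun _ => 1 := rfl

theorem alpha_triv {H : Type u} [Group H] [Fintype H] (r : H) : alpha (triv H) r = 0 := by
  simp [alpha, coe_triv]; norm_num

theorem alpha_one {H : Type u} [Group H] [Fintype H] (hc : ∀ a b : H, a * b = b * a)
    (ψ : IrrCharacter H) : alpha ψ 1 = 0 := by
  rw [alpha, (commutative_iff_forall_linear (G := H)).1 hc ψ, map_one]; norm_num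

theorem isGen_alpha {H : Type u} [Group H] [Fintype H] (ψ : IrrCharacter H) :
    IsGeneralizedCharacter H (alpha ψ) := by
  have h1 : IsGeneralizedCharacter H (fun _ : H => (1 : ℂ)) := CharInduce.IsGen.of_char IsChar.one
  have h := CharInduce.IsGen.sub (CharInduce.IsGen.sub (CharInduce.IsGen.add h1 h1)
    (CharInduce.IsGen.of_char (CharBasic.IsIrr.isCharacter ψ.2)))
    (CharInduce.IsGen.of_char (CharBasic.IsIrr.isCharacter (conjIrr ψ).2))
  have he : alpha ψ = (fun _ : H => (1 : ℂ)) + (fun _ => 1) - (ψ : H → ℂ) -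
      (conjIrr ψ : H → ℂ) := by
    funext r
    simp [alpha, conjIrr]
    norm_num
  rwa [he]

open scoped Classical in
theorem orth_comm {H : Type u} [Group H] [Fintype H] (hc : ∀ a b : H, a * b = b * a) (a b : H) :
    ∑ ψ : IrrCharacter H, (ψ : H → ℂ) a * conj ((ψ : H → ℂ) b) =
      if a = b then (Nat.card H : ℂ) else 0 := by
  rw [second_orthogonality_count]
  have hx : ∀ x : H, x * b * x⁻¹ = b := fun x => by rw [hc x b, mul_inv_cancel_right]
  simp only [hx]
  split_ifs with h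
  · subst h
    rw [Nat.card_congr (Equiv.subtypeUnivEquiv fun _ => rfl)]
  · haveI : IsEmpty {_x : H // b = a} := ⟨fun x => h x.2.symm⟩
    simp

open scoped Classical in
theorem classInner_alpha {H : Type u} [Group H] [Fintype H] (hodd : Odd (Nat.card H))
    {ψ φ : IrrCharacter H} (hψ : ψ ≠ triv H) (hφ : φ ≠ triv H) :
    classInner (alpha ψ) (alpha φ) =
      if φ = ψ ∨ φ = conjIrr ψ then 6 else 4 := by
  have hreal : ∀ χ : IrrCharacter H, χ ≠ triv H → conjIrr χ ≠ χ := by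
    intro χ hχ h
    exact hχ (Subtype.ext (eq_one_of_real_of_odd hodd χ.2 (fun g => congrFun (congrArg Subtype.val h) g)))
  have hconj : ∀ χ : IrrCharacter H, conjIrr (conjIrr χ) = χ := fun χ =>
    Subtype.ext (funext fun g => Complex.conj_conj _)
  have hne : ∀ χ : IrrCharacter H, χ ≠ triv H → conjIrr χ ≠ triv H := by
    intro χ hχ h
    apply hχ
    rw [← hconj χ, h]
    exact Subtype.ext (funext fun g => map_one _)
  have he : ∀ χ : IrrCharacter H, alpha χ = (2 : ℂ) • (triv H : H → ℂ) - (χ : H → ℂ) -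
      (conjIrr χ : H → ℂ) := by
    intro χ
    funext r
    simp [alpha, conjIrr, coe_triv]
  rw [he, he]
  simp only [classInner_sub_left, classInner_sub_right, classInner_smul_left, classInner_smul_right,
    classInner_irrCharacter, map_ofNat]
  simp only [hψ, hφ, hne ψ hψ, hne φ hφ, Ne.symm hψ, Ne.symm (hne ψ hψ), Ne.symm hφ,
    Ne.symm (hne φ hφ), if_false, if_true]
  have hiff1 : ψ = φ ↔ conjIrr ψ = conjIrr φ :=
    ⟨fun h => h ▸ rfl, fun h => by rw [← hconj ψ, h, hconj]⟩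
  have hiff2 : conjIrr ψ = φ ↔ ψ = conjIrr φ :=
    ⟨fun h => by rw [← h, hconj], fun h => by rw [h, hconj]⟩
  by_cases h1 : φ = ψ
  · subst h1
    simp [Ne.symm (hreal φ hφ), hreal φ hφ]
    norm_num
  by_cases h2 : φ = conjIrr ψ
  · subst h2
    simp [hconj, hreal ψ hψ, Ne.symm (hreal ψ hψ)]
    norm_num
  simp [Ne.symm h1, h1, h2, Ne.symm h2, ← hiff1, ← hiff2]
  norm_num

section Main

variable [Fact (Nat.Prime 3)] [Fintype ↥(R : Subgroup G)]
  (hR : Nat.card (R : Subgroup G) = 3 ^ 2)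
  (hfus : ∀ r s : ↥(R : Subgroup G), IsConj (r : G) s ↔ s = r ∨ s = r⁻¹)
  (hfree : ∀ r : ↥(R : Subgroup G), r ≠ 1 → Free (R : Subgroup G) r)
include hR hfus hfree

theorem fused_alpha (ψ : IrrCharacter ↥(R : Subgroup G)) : Fused R (alpha ψ) := by
  intro r s h
  rcases (hfus r s).1 h with rfl | rfl
  · rfl
  · rw [alpha, alpha, IsChar.inv_apply (CharBasic.IsIrr.isCharacter ψ.2) r, Complex.conj_conj]
    ring

/-- Inner products of extended functions. -/
theorem sum_lift_inverse {θ : ↥(R : Subgroup G) → ℂ} (hθ : Fused R θ) (h1 : θ 1 = 0)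
    (F : G → ℂ) :
    (Nat.card G : ℂ)⁻¹ * ∑ g : G, lift R θ g * F g =
      (2 : ℂ)⁻¹ * ∑ r : ↥(R : Subgroup G), θ r * sA 3 F r := by
  classical
  rw [sum_lift_mul hθ, Finset.mul_sum]
  refine Finset.sum_congr rfl fun r _ => ?_
  rcases eq_or_ne r 1 with rfl | hr
  · simp [h1]
  have hrr : r ≠ r⁻¹ := by
    intro h
    have h2 : r ^ 2 = 1 := by rw [pow_two]; exact mul_eq_one_iff_eq_inv.2 h
    exact hr (orderOf_eq_one_iff.1 (Nat.eq_one_of_dvd_coprimes (by norm_num)
      (orderOf_dvd_of_pow_eq_one h2) (hR ▸ _root_.orderOf_dvd_natCard r : orderOf r ∣ 3 ^ 2)))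
  have hc2 : ∀ T : Finset ↥(R : Subgroup G), (∀ s : ↥(R : Subgroup G), s ∈ T ↔ IsConj (r : G) s) →
      T.card = 2 := fun T hT => by
    rw [show T = {r, r⁻¹} by ext s; rw [Finset.mem_insert, Finset.mem_singleton, hT, hfus],
      Finset.card_pair hrr]
  rw [hc2 _ fun s => by simp]
  push_cast
  ring

theorem sA_one {r : ↥(R : Subgroup G)} (hr : r ≠ 1) :
    sA 3 (fun _ => (1 : ℂ)) (r : G) = 1 / 9 := by
  obtain ⟨k, hk⟩ := IsPGroup.iff_orderOf.1 R.isPGroup' r
  rw [sA_eq (fun _ _ => rfl) (by rw [Subgroup.orderOf_coe, hk]),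
    card_centralizer_free hR r (hfree r hr)]
  have h0 : (regs 3 (r : G)).card ≠ 0 :=
    Finset.card_ne_zero.2 ⟨1, mem_regs.2 ⟨by simp, by simp⟩⟩
  have h0' : ((regs 3 (r : G)).card : ℂ) ≠ 0 := Nat.cast_ne_zero.2 h0
  simp only [Finset.sum_const, nsmul_eq_mul, mul_one]
  push_cast
  field_simp

theorem classInner_lift_lift {θ η : ↥(R : Subgroup G) → ℂ} (hθ : Fused R θ) (hη : Fused R η)
    (hη' : ∀ r, conj (η r) = η r) (h1 : θ 1 = 0) :
    classInner (lift R θ) (lift R η) = classInner θ η / 2 := by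
  rw [classInner_def]
  have he : ∀ g, lift R θ g * conj (lift R η g) = lift R (fun r => θ r * η r) g * 1 := fun g => by
    rw [mul_one, show conj (lift R η g) = lift R η g from hη' _]; rfl
  rw [Finset.sum_congr rfl fun g _ => he g,
    sum_lift_inverse hR hfus hfree (fun r s h => congrArg₂ (· * ·) (hθ r s h) (hη r s h))
      (by simp [h1]), classInner_def, hR]
  simp only [hη', Finset.mul_sum, div_eq_mul_inv, Finset.sum_mul]
  refine Finset.sum_congr rfl fun r _ => ?_
  rcases eq_or_ne r 1 with rfl | hr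
  · rw [h1]; simp
  rw [sA_one hR hfus hfree hr]
  push_cast
  ring

variable [IsSimpleGroup G]

/-- The degrees in this case. -/
theorem exists_pair_inverse (hG : ¬ IsMulCommutative G) :
    ∃ U W : IrrCharacter G, U ≠ triv G ∧ W ≠ triv G ∧
      ∃ u : ℕ, (U : G → ℂ) 1 = u ∧ (W : G → ℂ) 1 = (u + 1 : ℕ) ∧ ¬ 3 ∣ u ∧ ¬ 3 ∣ u + 1 ∧
        ∀ g : G, ¬ 3 ∣ orderOf g → (W : G → ℂ) g = 1 + (U : G → ℂ) g := by
  classical
  obtain ⟨M, hM⟩ := exists_isPModular Nat.prime_three
  have hc : ∀ a b : ↥(R : Subgroup G), a * b = b * a := comm hR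
  have hodd : Odd (Nat.card (R : Subgroup G)) := by rw [hR]; decide
  have hfa := fused_alpha hR hfus hfree
  have hinner : ∀ ψ φ : IrrCharacter ↥(R : Subgroup G), classInner (lift R (alpha ψ)) (lift R (alpha φ)) =
      classInner (alpha ψ) (alpha φ) / 2 := fun ψ φ =>
    classInner_lift_lift hR hfus hfree (hfa ψ) (hfa φ) (conj_alpha φ) (alpha_one hc ψ)
  have hone : ∀ ψ : IrrCharacter ↥(R : Subgroup G), ψ ≠ triv _ → classInner (lift R (alpha ψ)) (fun _ => 1) = 1 := by
    intro ψ hψ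
    rw [classInner_def]
    simp only [map_one]
    rw [sum_lift_inverse hR hfus hfree (hfa ψ) (alpha_one hc ψ)]
    have h0 : ∀ χ : IrrCharacter ↥(R : Subgroup G), χ ≠ triv _ → ∑ r : ↥(R : Subgroup G), (χ : _ → ℂ) r = 0 := by
      intro χ hχ
      have := classInner_irr_of_ne χ.2 (triv _).2 (fun h => hχ (Subtype.ext h))
      rw [classInner_def] at this
      simpa [coe_triv] using this
    have hψ' : conjIrr ψ ≠ triv _ := fun h => hψ (Subtype.ext (funext fun g => by
      have h' : conj ((ψ : _ → ℂ) g) = 1 := congrFun (congrArg Subtype.val h) g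
      simpa [coe_triv] using congrArg (starRingEnd ℂ) h'))
    have : ∑ r : ↥(R : Subgroup G), alpha ψ r * sA 3 (fun _ => (1 : ℂ)) (r : G) =
        ∑ r : ↥(R : Subgroup G), alpha ψ r * (1 / 9) := by
      refine Finset.sum_congr rfl fun r _ => ?_
      rcases eq_or_ne r 1 with rfl | hr
      · simp [alpha_one hc ψ]
      · rw [sA_one hR hfus hfree hr]
    rw [this, ← Finset.sum_mul]
    simp only [alpha, Finset.sum_sub_distrib]
    rw [h0 ψ hψ, show ∑ r : ↥(R : Subgroup G), conj ((ψ : _ → ℂ) r) = 0 from h0 _ hψ',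
      Finset.sum_const, Finset.card_univ, ← Nat.card_eq_fintype_card, hR]
    norm_num
  have hex : ∀ ψ : IrrCharacter ↥(R : Subgroup G), ∃ U W : IrrCharacter G, ψ ≠ triv _ → U ≠ triv G ∧ W ≠ triv G ∧ U ≠ W ∧
      lift R (alpha ψ) = (fun g => 1 + (U : G → ℂ) g - (W : G → ℂ) g) ∧
      ∃ u : ℕ, (U : G → ℂ) 1 = u ∧ (W : G → ℂ) 1 = (u + 1 : ℕ) := by
    intro ψ
    by_cases hψ : ψ = triv _
    · exact ⟨triv G, triv G, fun h => absurd hψ h⟩
    obtain ⟨U, W, h⟩ := exists_one_add_sub (isGen_lift (hfa ψ) (isGen_alpha ψ))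
      (by rw [hinner, classInner_alpha hodd hψ hψ, if_pos (Or.inl rfl)]; norm_num) (hone ψ hψ)
      (by rw [lift_regular (hfa ψ) (by simp), alpha_one hc ψ])
    exact ⟨U, W, fun _ => h⟩
  choose U W hUW using hex
  -- the coefficient of a non-principal character
  have hcoef : ∀ ψ : IrrCharacter ↥(R : Subgroup G), ψ ≠ triv _ → ∀ χ : IrrCharacter G, χ ≠ triv G →
      classInner (χ : G → ℂ) (lift R (alpha ψ)) =
        (if χ = U ψ then 1 else 0) - (if χ = W ψ then 1 else 0) := by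
    intro ψ hψ χ hχ
    rw [(hUW ψ hψ).2.2.2.1, show (fun g => 1 + (U ψ : G → ℂ) g - (W ψ : G → ℂ) g) =
      (triv G : G → ℂ) + (U ψ : G → ℂ) - (W ψ : G → ℂ) from rfl, classInner_sub_right,
      classInner_add_right, classInner_irrCharacter, classInner_irrCharacter,
      classInner_irrCharacter, if_neg hχ, zero_add]
  -- two of them share exactly one constituent
  have hshare : ∀ ψ φ : IrrCharacter ↥(R : Subgroup G), ψ ≠ triv _ → φ ≠ triv _ →
      ((φ = ψ ∨ φ = conjIrr ψ) → U φ = U ψ ∧ W φ = W ψ) ∧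
      (¬ (φ = ψ ∨ φ = conjIrr ψ) → (U ψ = U φ ∧ W ψ ≠ W φ) ∨ (U ψ ≠ U φ ∧ W ψ = W φ)) := by
    intro ψ φ hψ hφ
    obtain ⟨hU, hW, hne, heq, -⟩ := hUW ψ hψ
    obtain ⟨hU', hW', hne', heq', -⟩ := hUW φ hφ
    have h := hinner ψ φ
    rw [classInner_alpha hodd hψ hφ] at h
    nth_rewrite 1 [show lift R (alpha ψ) = (triv G : G → ℂ) + (U ψ : G → ℂ) - (W ψ : G → ℂ)
      from heq] at h
    rw [classInner_sub_left, classInner_add_left, hcoef φ hφ _ hU, hcoef φ hφ _ hW,
      show classInner (triv G : G → ℂ) (lift R (alpha φ)) = 1 by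
        rw [← CharInduce.conj_classInner, coe_triv, hone φ hφ, map_one]] at h
    refine ⟨fun hh => ?_, fun hh => ?_⟩
    · rw [if_pos hh] at h
      by_cases h1 : U ψ = U φ <;> by_cases h2 : W ψ = W φ
      · exact ⟨h1.symm, h2.symm⟩
      all_goals exfalso; revert h
      all_goals simp [h1, h2, hne, hne'.symm, Ne.symm hne]
      all_goals split_ifs <;> norm_num
    · rw [if_neg hh] at h
      by_cases h1 : U ψ = U φ <;> by_cases h2 : W ψ = W φ
      · exfalso; revert h
        simp [h1, h2, hne', Ne.symm hne']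
        norm_num
      · exact Or.inl ⟨h1, h2⟩
      · exact Or.inr ⟨h1, h2⟩
      · exfalso; revert h
        simp [h1, h2]
        split_ifs <;> norm_num
  obtain ⟨x, hx1, hx3⟩ : ∃ x : ↥(R : Subgroup G), x ≠ 1 ∧ x ^ 3 = 1 := by
    obtain ⟨x, hx⟩ := exists_prime_orderOf_dvd_card' 3 (by rw [hR]; norm_num :
      3 ∣ Nat.card (R : Subgroup G))
    exact ⟨x, fun h => by rw [h, orderOf_one] at hx; norm_num at hx, by simpa [hx] using pow_orderOf_eq_one x⟩
  -- the inversion
  have hdual : ∀ χ : IrrCharacter G, ∀ d : ℕ, (χ : G → ℂ) 1 = d → 3 ∣ d →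
      ∀ c : IrrCharacter ↥(R : Subgroup G) → ℤ, (∀ ψ, classInner (χ : G → ℂ) (lift R (alpha ψ)) = c ψ) →
        (3 : ℤ) ∣ ∑ ψ, c ψ := by
    intro χ d hd h3d c hcψ
    obtain ⟨l, hl⟩ := IsPGroup.iff_orderOf.1 R.isPGroup' x
    set A := fun r : ↥(R : Subgroup G) => sA 3 (χ : G → ℂ) (r : G) with hA
    have hc2 : ∀ ψ : IrrCharacter ↥(R : Subgroup G), (c ψ : ℂ) = (2 : ℂ)⁻¹ * ∑ r, alpha ψ r * A r := by
      intro ψ
      rw [← hcψ, ← sum_lift_inverse hR hfus hfree (hfa ψ) (alpha_one hc ψ), classInner_def]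
      refine congrArg _ (Finset.sum_congr rfl fun g _ => ?_)
      rw [show conj (lift R (alpha ψ) g) = lift R (alpha ψ) g from conj_alpha ψ _, mul_comm]
    have hξ : ∀ ψ : IrrCharacter ↥(R : Subgroup G), ∃ e : ℤ, (ψ : _ → ℂ) x + conj ((ψ : _ → ℂ) x) = ((2 - 3 * e : ℤ) : ℂ) := by
      intro ψ
      obtain ⟨l', hl'⟩ := CharInduce.IsChar.exists_hom_of_degree_one
        (CharBasic.IsIrr.isCharacter ψ.2) ((commutative_iff_forall_linear (G := _)).1 hc ψ)
      have hz : (ψ : _ → ℂ) x ^ 3 = 1 := by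
        rw [hl', ← Units.val_pow_eq_pow_val, ← map_pow, hx3, map_one, Units.val_one]
      have hn : (ψ : _ → ℂ) x * conj ((ψ : _ → ℂ) x) = 1 := by
        rw [Complex.mul_conj', hl', CharInduce.norm_hom]; norm_num
      generalize (ψ : _ → ℂ) x = z at hz hn ⊢
      by_cases h1 : z = 1
      · exact ⟨0, by rw [h1]; norm_num⟩
      · refine ⟨1, ?_⟩
        have hq : z ^ 2 + z + 1 = 0 :=
          (mul_eq_zero.1 (show (z - 1) * (z ^ 2 + z + 1) = 0 by linear_combination hz)).resolve_left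
            (sub_ne_zero.2 h1)
        push_cast
        have : conj z = z ^ 2 := by linear_combination (z ^ 2) * hn - (conj z) * hz
        rw [this]; linear_combination hq
    choose e he using hξ
    have hkey : ∑ ψ : IrrCharacter ↥(R : Subgroup G), (c ψ : ℂ) * ((2 - 3 * e ψ : ℤ) : ℂ) = -18 * A x := by
      simp only [← he, hc2, Finset.mul_sum, Finset.sum_mul]
      rw [Finset.sum_comm]
      have horth : ∀ r, ∑ ψ : IrrCharacter ↥(R : Subgroup G), alpha ψ r * ((ψ : _ → ℂ) x + conj ((ψ : _ → ℂ) x)) =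
          -18 * ((if r = x then 1 else 0) + (if r = x⁻¹ then 1 else 0)) := by
        intro r
        have hinv : ∀ (ψ : IrrCharacter ↥(R : Subgroup G)) (y : ↥(R : Subgroup G)),
            conj ((ψ : _ → ℂ) y) = (ψ : _ → ℂ) y⁻¹ := fun ψ y =>
          (IsChar.inv_apply (CharBasic.IsIrr.isCharacter ψ.2) y).symm
        have h1 : ∀ ψ : IrrCharacter ↥(R : Subgroup G), (ψ : ↥(R : Subgroup G) → ℂ) 1 = 1 := (commutative_iff_forall_linear (G := _)).1 hc
        have expand : ∀ ψ : IrrCharacter ↥(R : Subgroup G), alpha ψ r * ((ψ : _ → ℂ) x + conj ((ψ : _ → ℂ) x)) =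
            2 * ((ψ : _ → ℂ) x * conj ((ψ : ↥(R : Subgroup G) → ℂ) 1)) +
            2 * ((ψ : _ → ℂ) x⁻¹ * conj ((ψ : ↥(R : Subgroup G) → ℂ) 1)) -
            ((ψ : _ → ℂ) r * conj ((ψ : _ → ℂ) x⁻¹)) - ((ψ : _ → ℂ) r * conj ((ψ : _ → ℂ) x)) -
            ((ψ : _ → ℂ) x * conj ((ψ : _ → ℂ) r)) - ((ψ : _ → ℂ) x⁻¹ * conj ((ψ : _ → ℂ) r)) := by
          intro ψ
          rw [← hinv ψ x, Complex.conj_conj, h1 ψ, map_one, alpha]
          ring
        simp only [expand, Finset.sum_add_distrib, Finset.sum_sub_distrib, ← Finset.mul_sum,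
          orth_comm hc, hR]
        rw [if_neg hx1, if_neg (inv_ne_one.2 hx1)]
        simp only [eq_comm (a := x) (b := r), eq_comm (a := x⁻¹) (b := r)]
        split_ifs <;> push_cast <;> ring
      have : ∀ r, ∑ ψ : IrrCharacter ↥(R : Subgroup G), (2 : ℂ)⁻¹ * (alpha ψ r * A r) *
          ((ψ : _ → ℂ) x + conj ((ψ : _ → ℂ) x)) = (2 : ℂ)⁻¹ * A r *
            (-18 * ((if r = x then 1 else 0) + (if r = x⁻¹ then 1 else 0))) := fun r => by
        rw [← horth r, Finset.mul_sum]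
        exact Finset.sum_congr rfl fun ψ _ => by ring
      rw [Finset.sum_congr rfl fun r _ => this r]
      simp only [mul_add, mul_ite, mul_zero, mul_one, Finset.sum_add_distrib, Finset.sum_ite_eq',
        Finset.mem_univ, if_true]
      have hAi : A x⁻¹ = A x := sA_congr _ ((hfus x⁻¹ x).2 (Or.inr (inv_inv x).symm))
      rw [hAi]; ring
    set S := ∑ y ∈ regs 3 (x : G), (χ : G → ℂ) ((x : G) * y) with hS
    set K := (regs 3 (x : G)).card with hK
    have hK0 : ¬ 3 ∣ K := by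
      intro h
      have h27 : 3 ^ 2 * 3 ∣ Nat.card G := by
        refine (mul_dvd_mul_left (3 ^ 2) h).trans ?_
        rw [hK, ← card_centralizer_free hR x (hfree x hx1)]
        exact Subgroup.card_subgroup_dvd_card _
      rw [← Subgroup.card_mul_index (R : Subgroup G), hR] at h27
      exact R.not_dvd_index (Nat.dvd_of_mul_dvd_mul_left (by norm_num) h27)
    have hAx : A x = S / ((9 : ℂ) * K) := by
      rw [hA]
      simp only
      rw [sA_eq (CharBasic.IsIrr.isClassFunction χ.2) (by rw [Subgroup.orderOf_coe, hl]),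
        card_centralizer_free hR x (hfree x hx1), ← hS, ← hK]
      push_cast
      ring
    have hKc : (K : ℂ) ≠ 0 := Nat.cast_ne_zero.2 (fun h => hK0 (by rw [h]; exact dvd_zero 3))
    have hint : (((K : ℤ) * ∑ ψ : IrrCharacter ↥(R : Subgroup G), c ψ * (2 - 3 * e ψ) : ℤ) : ℂ) = -2 * S := by
      push_cast at hkey ⊢
      rw [hkey, hAx]
      field_simp
      ring
    have hSM : MemLocalIdeal M S := memLocalIdeal_sum_regs χ hR x hM hd h3d
    have h3 : (3 : ℤ) ∣ (K : ℤ) * ∑ ψ : IrrCharacter ↥(R : Subgroup G), c ψ * (2 - 3 * e ψ) := by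
      refine (memLocalIdeal_intCast_iff hM _).1 ?_
      rw [hint, show (-2 : ℂ) * S = ((-2 : ℤ) : ℂ) * S by norm_num]
      exact memLocalIdeal_mul hM (memLocalRing_of_isIntegral hM isIntegral_algebraMap) hSM
    have h4 : (3 : ℤ) ∣ ∑ ψ : IrrCharacter ↥(R : Subgroup G), c ψ * (2 - 3 * e ψ) :=
      ((Int.prime_three.coprime_iff_not_dvd).2 (by exact_mod_cast hK0)).dvd_of_dvd_mul_left h3
    simp only [mul_sub, Finset.sum_sub_distrib, ← Finset.sum_mul] at h4
    have h5 : (3 : ℤ) ∣ ∑ ψ : IrrCharacter ↥(R : Subgroup G), c ψ * (3 * e ψ) := Finset.dvd_sum fun ψ _ => ⟨c ψ * e ψ, by ring⟩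
    have h6 := dvd_add h4 h5
    rw [sub_add_cancel] at h6
    exact (Int.prime_three.dvd_or_dvd h6).resolve_right (by norm_num)
  -- counting
  have hcardL : Fintype.card (IrrCharacter ↥(R : Subgroup G)) = 9 := by
    rw [← Nat.card_eq_fintype_card, card_irrCharacter, ← Nat.card_congr
      (Equiv.ofBijective (ConjClasses.mk (α := ↥(R : Subgroup G))) ⟨fun a b h => by
        obtain ⟨z, hz⟩ := isConj_iff.1 (ConjClasses.mk_eq_mk_iff_isConj.1 h)
        rwa [hc z a, mul_inv_cancel_right] at hz, ConjClasses.mk_surjective⟩), hR]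
    norm_num
  obtain ⟨ψ₀, hψ₀⟩ : ∃ ψ : IrrCharacter ↥(R : Subgroup G), ψ ≠ triv _ := Fintype.exists_ne_of_one_lt_card (by omega) _
  obtain ⟨ψ₁, hψ₁, hψ₁'⟩ : ∃ ψ : IrrCharacter ↥(R : Subgroup G), ψ ≠ triv _ ∧ ¬ (ψ = ψ₀ ∨ ψ = conjIrr ψ₀) := by
    by_contra h
    push Not at h
    have : (Finset.univ : Finset (IrrCharacter ↥(R : Subgroup G))) ⊆ {triv _, ψ₀, conjIrr ψ₀} := by
      intro ψ _
      simp only [Finset.mem_insert, Finset.mem_singleton]
      by_cases hψ : ψ = triv _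
      · exact Or.inl hψ
      · by_cases hψ' : ψ = ψ₀
        · exact Or.inr (Or.inl hψ')
        · exact Or.inr (Or.inr ((h ψ hψ).resolve_left hψ'))
    have := (Finset.card_le_card this).trans (Finset.card_le_three)
    rw [Finset.card_univ, hcardL] at this
    omega
  have hcommon : (∀ φ : IrrCharacter ↥(R : Subgroup G), φ ≠ triv _ → U φ = U ψ₀ ∧ (W φ = W ψ₀ → φ = ψ₀ ∨ φ = conjIrr ψ₀)) ∨
      (∀ φ : IrrCharacter ↥(R : Subgroup G), φ ≠ triv _ → W φ = W ψ₀ ∧ (U φ = U ψ₀ → φ = ψ₀ ∨ φ = conjIrr ψ₀)) := by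
    rcases (hshare ψ₀ ψ₁ hψ₀ hψ₁).2 hψ₁' with ⟨hU, hW⟩ | ⟨hU, hW⟩
    · left
      intro φ hφ
      by_cases hrel : φ = ψ₀ ∨ φ = conjIrr ψ₀
      · exact ⟨((hshare ψ₀ φ hψ₀ hφ).1 hrel).1, fun _ => hrel⟩
      rcases (hshare ψ₀ φ hψ₀ hφ).2 hrel with ⟨h1, h2⟩ | ⟨h1, h2⟩
      · exact ⟨h1.symm, fun h => absurd h.symm h2⟩
      · exfalso
        by_cases hrel' : φ = ψ₁ ∨ φ = conjIrr ψ₁
        · exact h1 (hU.trans ((hshare ψ₁ φ hψ₁ hφ).1 hrel').1.symm)
        rcases (hshare ψ₁ φ hψ₁ hφ).2 hrel' with ⟨h3, -⟩ | ⟨-, h4⟩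
        · exact h1 (hU.trans h3)
        · exact hW (h2.trans h4.symm)
    · right
      intro φ hφ
      by_cases hrel : φ = ψ₀ ∨ φ = conjIrr ψ₀
      · exact ⟨((hshare ψ₀ φ hψ₀ hφ).1 hrel).2, fun _ => hrel⟩
      rcases (hshare ψ₀ φ hψ₀ hφ).2 hrel with ⟨h1, h2⟩ | ⟨h1, h2⟩
      · exfalso
        by_cases hrel' : φ = ψ₁ ∨ φ = conjIrr ψ₁
        · exact h2 (hW.trans ((hshare ψ₁ φ hψ₁ hφ).1 hrel').2.symm)
        rcases (hshare ψ₁ φ hψ₁ hφ).2 hrel' with ⟨h3, -⟩ | ⟨-, h4⟩
        · exact hU (h1.trans h3.symm)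
        · exact h2 (hW.trans h4)
      · exact ⟨h2.symm, fun h => absurd h.symm h1⟩
  obtain ⟨hU0, hW0, hne0, heq0, u, hu, hw⟩ := hUW ψ₀ hψ₀
  have hreal0 : conjIrr ψ₀ ≠ ψ₀ := fun h => hψ₀ (Subtype.ext (eq_one_of_real_of_odd hodd ψ₀.2
    fun g => congrFun (congrArg Subtype.val h) g))
  have hψ₀' : conjIrr ψ₀ ≠ triv _ := fun h => hψ₀ (Subtype.ext (funext fun g => by
    have h' : conj ((ψ₀ : _ → ℂ) g) = 1 := congrFun (congrArg Subtype.val h) g
    simpa [coe_triv] using congrArg (starRingEnd ℂ) h'))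
  have hsame := (hshare ψ₀ (conjIrr ψ₀) hψ₀ hψ₀').1 (Or.inr rfl)
  -- the coefficient sums
  have htriv : ∀ χ : IrrCharacter G, classInner (χ : G → ℂ) (lift R (alpha (triv _))) = 0 := by
    intro χ
    rw [classInner_def, Finset.sum_eq_zero, mul_zero]
    intro g _
    rw [show lift R (alpha (triv _)) g = 0 from alpha_triv _, map_zero, mul_zero]
  have hsum : ∀ χ : IrrCharacter G, χ ≠ triv G → ∃ c : IrrCharacter ↥(R : Subgroup G) → ℤ,
      (∀ ψ, classInner (χ : G → ℂ) (lift R (alpha ψ)) = c ψ) ∧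
      ∑ ψ, c ψ = ((Finset.univ.erase (triv _)).filter fun ψ => χ = U ψ).card -
        ((Finset.univ.erase (triv _)).filter fun ψ => χ = W ψ).card := by
    intro χ hχ
    refine ⟨fun ψ => if ψ = triv _ then 0 else
      (if χ = U ψ then 1 else 0) - (if χ = W ψ then 1 else 0), fun ψ => ?_, ?_⟩
    · by_cases hψ : ψ = triv _
      · rw [hψ, htriv]; simp
      · simp only [hcoef ψ hψ χ hχ, hψ, if_false]; push_cast; rfl
    · rw [← Finset.add_sum_erase _ _ (Finset.mem_univ (triv _)), if_pos rfl, zero_add,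
        Finset.sum_congr rfl fun ψ hψ => if_neg (Finset.ne_of_mem_erase hψ),
        Finset.sum_sub_distrib, Finset.sum_boole, Finset.sum_boole]
  have h8 : (Finset.univ.erase (triv ↥(R : Subgroup G))).card = 8 := by
    rw [Finset.card_erase_of_mem (Finset.mem_univ _), Finset.card_univ, hcardL]
  refine ⟨U ψ₀, W ψ₀, hU0, hW0, u, hu, hw, ?_, ?_, fun g hg => ?_⟩
  · intro h3
    obtain ⟨c, hc1, hc2⟩ := hsum (U ψ₀) hU0
    have hd := hdual _ u hu h3 c hc1
    rw [hc2] at hd
    rcases hcommon with hall | hall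
    · rw [Finset.filter_true_of_mem fun φ hφ => (hall φ (Finset.ne_of_mem_erase hφ)).1.symm, h8,
        Finset.filter_false_of_mem fun φ hφ h => (hUW φ (Finset.ne_of_mem_erase hφ)).2.2.1
          ((hall φ (Finset.ne_of_mem_erase hφ)).1.trans h)] at hd
      norm_num at hd
    · rw [show ((Finset.univ.erase (triv _)).filter fun φ => U ψ₀ = U φ) = {ψ₀, conjIrr ψ₀} by
        ext φ
        simp only [Finset.mem_filter, Finset.mem_erase, Finset.mem_univ, and_true,
          Finset.mem_insert, Finset.mem_singleton]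
        refine ⟨fun h => (hall φ h.1).2 h.2.symm, ?_⟩
        rintro (rfl | rfl)
        · exact ⟨hψ₀, rfl⟩
        · exact ⟨hψ₀', hsame.1.symm⟩,
        Finset.card_pair hreal0.symm,
        Finset.filter_false_of_mem fun φ hφ h => hne0
          (h.trans (hall φ (Finset.ne_of_mem_erase hφ)).1)] at hd
      norm_num at hd
  · intro h3
    obtain ⟨c, hc1, hc2⟩ := hsum (W ψ₀) hW0
    have hd := hdual _ (u + 1) hw h3 c hc1
    rw [hc2] at hd
    rcases hcommon with hall | hall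
    · rw [show ((Finset.univ.erase (triv _)).filter fun φ => W ψ₀ = W φ) = {ψ₀, conjIrr ψ₀} by
        ext φ
        simp only [Finset.mem_filter, Finset.mem_erase, Finset.mem_univ, and_true,
          Finset.mem_insert, Finset.mem_singleton]
        refine ⟨fun h => (hall φ h.1).2 h.2.symm, ?_⟩
        rintro (rfl | rfl)
        · exact ⟨hψ₀, rfl⟩
        · exact ⟨hψ₀', hsame.2.symm⟩,
        Finset.card_pair hreal0.symm,
        Finset.filter_false_of_mem fun φ hφ h => hne0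
          ((hall φ (Finset.ne_of_mem_erase hφ)).1.symm.trans h.symm)] at hd
      norm_num at hd
    · rw [Finset.filter_true_of_mem (p := fun φ => W ψ₀ = W φ)
          fun φ hφ => (hall φ (Finset.ne_of_mem_erase hφ)).1.symm, h8,
        Finset.filter_false_of_mem fun φ hφ h => (hUW φ (Finset.ne_of_mem_erase hφ)).2.2.1
          (h.symm.trans (hall φ (Finset.ne_of_mem_erase hφ)).1.symm)] at hd
      norm_num at hd
  · have h0 := congrFun heq0 g
    rw [lift_regular (hfa ψ₀) hg, alpha_one hc] at h0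
    linear_combination h0

end Main

end Cfsg.Agent.H33.NineTwoQ
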