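import Cfsg.Agent.H33.NineTwoQ.Sylq
import Cfsg.Agent.H33.NineTwoQ.BlockSum
import Cfsg.Agent.H36.NoSimple

/-!
# The degree equation at the prime `q` and the congruence given by the principal 2-block
-/

set_option autoImplicit false
set_option linter.style.haveILetI false
set_option linter.unusedSectionVars false

open scoped ComplexConjugate
open Subgroup

namespace Cfsg.Agent.H33.NineTwoQ

open CharBasic CharInduce BlockBasic
open Cfsg.Agent.H36.SelfCentral (triv U unitHom card_U exists_iso Off off_one)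

universe u

variable {G : Type u} [Group G] [Fintype G]

/-- The degree of an irreducible character. -/
noncomputable def yd (ψ : IrrCharacter G) : ℕ := charDegree (ψ : G → ℂ)

theorem yd_eq (ψ : IrrCharacter G) : (ψ : G → ℂ) 1 = yd ψ := (H83.charDegree_eq ψ.2).1

theorem yd_dvd (ψ : IrrCharacter G) : yd ψ ∣ Nat.card G := H83.charDegree_dvd_card ψ.2

theorem yd_triv : yd (triv G) = 1 := by
  have h : ((1 : ℕ) : ℂ) = (yd (triv G) : ℂ) := Nat.cast_one.trans (yd_eq (triv G))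
  exact_mod_cast h.symm

variable [IsSimpleGroup G]

theorem two_le_yd (hG : ¬ IsMulCommutative G) {ψ : IrrCharacter G} (h : ψ ≠ triv G) :
    2 ≤ yd ψ := by
  obtain ⟨d, hd2, hd, -⟩ := H36.SelfCentral.exists_degree_two_le hG h
  have : yd ψ = d := by exact_mod_cast (yd_eq ψ).symm.trans hd
  omega

variable {q a b : ℕ} (K : Ctx G q a b) [Fact q.Prime] (P : Sylow q G)

/-- The degree equation with its block congruence; `ye` is the degree of the exceptional
characters. -/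
structure QData where
  O : Finset (IrrCharacter G)
  coef : IrrCharacter G → ℤ
  A : ℤ
  ε : ℤ
  t : ℕ
  ye : ℕ
  st : nidx P * t = q - 1
  two_le_t : 2 ≤ t
  hε : ε = 1 ∨ ε = -1
  Y_mem : K.Y ∈ O
  Y_coef : coef K.Y = -K.δ
  triv_not_mem : triv G ∉ O
  norm : ∑ ψ ∈ O, coef ψ ^ 2 + ((A - ε) ^ 2 + ((t : ℤ) - 1) * A ^ 2) = nidx P
  coef_ne : ∀ ψ ∈ O, coef ψ ≠ 0
  congr : ∀ ψ ∈ O, (q : ℤ) ∣ (yd ψ : ℤ) - coef ψ
  deg_ne : ∀ ψ ∈ O, (yd ψ : ℤ) ≠ coef ψ
  two_le_ye : 2 ≤ ye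
  ye_dvd : ye ∣ Nat.card G
  ye_congr : (q : ℤ) ∣ (ye : ℤ) - (A + ε * nidx P)
  rel : 1 + ∑ ψ ∈ O, coef ψ * (yd ψ : ℤ) + ((t : ℤ) * A - ε) * ye = 0
  block : (A - ε) ^ 2 + ((t : ℤ) - 1) * A ^ 2 = 1 → ∃ B ⊆ O,
    (∀ ψ ∈ B, ∀ m : ℕ, yd ψ ≠ 2 ^ m) ∧
    ∃ c : ℤ, (c = 0 ∨ c = 1) ∧
      (2 : ℤ) ^ a ∣ 1 + ∑ ψ ∈ B, coef ψ * (yd ψ : ℤ) + c * (((t : ℤ) * A - ε) * ye)

include K

theorem Ctx.a_pos : 0 < a := by
  rcases Nat.eq_zero_or_pos a with rfl | h
  · have hd := yd_dvd K.Y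
    have hy : yd K.Y = 2 ^ K.i := by exact_mod_cast (yd_eq K.Y).symm.trans K.Y_one
    haveI : Fact q.Prime := ⟨K.prime⟩
    rw [hy, K.card_G, pow_zero, mul_one] at hd
    have h2 : 2 ∣ 9 * q := (dvd_pow_self 2 (Nat.pos_iff_ne_zero.1
      (lt_of_lt_of_le Nat.zero_lt_two K.two_le))).trans hd
    rcases Nat.prime_two.dvd_mul.1 h2 with h | h
    · norm_num at h
    · exact absurd ((Nat.prime_dvd_prime_iff_eq Nat.prime_two K.prime).1 h).symm K.ne_two
  · exact h

/-- A character of `2`-power degree is not in the principal 2-block. -/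
theorem Ctx.not_mem_principal {M : Ideal AlgInt} (hM : IsPModular 2 M) {ψ : IrrCharacter G}
    (hψ : ψ ≠ triv G) {m : ℕ} (hdeg : yd ψ = 2 ^ m) : ψ ∉ principalBlock M G := by
  haveI : Fact (Nat.Prime 2) := ⟨Nat.prime_two⟩
  haveI : Fact q.Prime := ⟨K.prime⟩
  intro hmem
  obtain ⟨z, hz, hz1, hzc⟩ := H36.exists_central_involution K.a_pos
    (show 2 ^ a ∣ Nat.card G from ⟨9 * q, by rw [K.card_G]; ring⟩)
  set cl := (centralizer ({z} : Set G)).index with hcl
  have hodd : ¬ 2 ∣ cl := by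
    intro h
    have h2 : 2 ^ a * 2 ∣ 2 ^ a * (9 * q) := by
      rw [show 2 ^ a * (9 * q) = Nat.card G by rw [K.card_G]; ring,
        ← Subgroup.card_mul_index (centralizer ({z} : Set G))]
      exact mul_dvd_mul hzc h
    have h9 := Nat.dvd_of_mul_dvd_mul_left (by positivity) h2
    rcases Nat.prime_two.dvd_mul.1 h9 with h | h
    · norm_num at h
    · exact K.ne_two ((Nat.prime_dvd_prime_iff_eq Nat.prime_two K.prime).1 h).symm
  have hd : (ψ : G → ℂ) 1 = ((2 ^ m : ℕ) : ℂ) := by rw [yd_eq, hdeg]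
  obtain ⟨x, hx, hxle⟩ := H36.SelfCentral.exists_int_involution ψ hz hz1 hd
  obtain ⟨w, -, hwi, hwc, hw⟩ := exists_omega ψ z hM hd
  have hdvd : ((2 ^ m : ℕ) : ℤ) ∣ (cl : ℤ) * x := by
    refine H83.int_dvd_of_isIntegral hwi (by positivity) ?_
    push_cast
    rw [← hx]
    push_cast at hw
    exact hw.symm
  have hdx : ((2 ^ m : ℕ) : ℤ) ∣ x := by
    refine (IsCoprime.dvd_of_dvd_mul_left ?_ hdvd)
    rw [Int.isCoprime_iff_gcd_eq_one]
    exact ((Nat.prime_two.coprime_iff_not_dvd).2 hodd).pow_left m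
  have hx0 : x = 0 := by
    obtain ⟨k, hk⟩ := hdx
    by_contra hne
    apply hz1
    refine eq_one_of_norm_eq K.noncomm hψ ?_
    have hk0 : k ≠ 0 := by rintro rfl; simp at hk; exact hne hk
    have h1 : x.natAbs = 2 ^ m * k.natAbs := by rw [hk, Int.natAbs_mul, Int.natAbs_natCast]
    have h2 : x.natAbs = 2 ^ m := by
      refine le_antisymm hxle ?_
      rw [h1]
      exact Nat.le_mul_of_pos_right _ (Int.natAbs_pos.2 hk0)
    rw [hx, hd, Complex.norm_intCast, Complex.norm_natCast, ← h2, Nat.cast_natAbs, Int.cast_abs]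
  have hz0 : centralChar (ψ : G → ℂ) z = 0 := by
    rw [centralChar, hx, hx0]; simp
  have h := (show SameBlock M (fun _ : G => (1 : ℂ)) (ψ : G → ℂ) from hmem) z
  rw [centralChar_trivial, hz0, sub_zero, ← hcl] at h
  exact hodd ((memLocalIdeal_natCast_iff hM cl).1 h)

theorem Ctx.exists_qData (ht : nidx P ≠ q - 1) : Nonempty (QData K P) := by
  classical
  obtain ⟨φ⟩ := exists_iso (K.card_P P)
  have hC := K.central_P P
  have hP := K.card_P P
  have hU : Nat.card (U φ) = nidx P := (card_U φ hP hC).1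
  have hst : nidx P * (U φ).index = q - 1 := by
    rw [← hU, card_mul_index, Nat.card_eq_fintype_card, ZMod.card_units]
  have ht2 : 2 ≤ (U φ).index := by
    by_contra h
    have h5 := K.five_le
    interval_cases h' : (U φ).index
    · rw [mul_zero] at hst; omega
    · exact ht (by rwa [mul_one] at hst)
  obtain ⟨μ, i₀, ε, A, c, hε, hμ, hμ1, htriv, hsq, hc0, hcA, hother, hμdeg, -, hoff, horth⟩ :=
    H36.SelfCentral.exists_data φ hP hC ht2
  rw [hU] at hsq hμdeg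
  generalize htt : (U φ).index = t at *
  let T : IrrCharacter G := triv G
  let O : Finset (IrrCharacter G) :=
    Finset.univ.filter fun ψ => ψ ∉ Set.range μ ∧ ψ ≠ T ∧ c ψ ≠ 0
  have hTμ : T ∉ Set.range μ := fun ⟨i, hi⟩ => hμ1 i (congrArg Subtype.val hi)
  have hcT : c T = 1 := htriv T rfl
  have hTO : T ∉ O := by simp [O]
  have hdec : ∀ w : IrrCharacter G → ℤ, (∀ ψ, c ψ = 0 → w ψ = 0) →
      ∑ ψ, w ψ = w T + ∑ ψ ∈ O, w ψ + ∑ i, w (μ i) := by
    intro w hw
    have hdisj : Disjoint (insert T O) (Finset.univ.image μ) := by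
      rw [Finset.disjoint_left]
      intro ψ hψ hψ'
      obtain ⟨i, -, rfl⟩ := Finset.mem_image.1 hψ'
      rcases Finset.mem_insert.1 hψ with h | h
      · exact hTμ ⟨i, h⟩
      · exact (Finset.mem_filter.1 h).2.1 ⟨i, rfl⟩
    rw [← Finset.sum_subset (Finset.subset_univ (insert T O ∪ Finset.univ.image μ)) fun ψ _ hψ => ?_,
      Finset.sum_union hdisj, Finset.sum_insert hTO, Finset.sum_image (fun i _ j _ h => hμ h)]
    apply hw
    simp only [O, Finset.mem_union, Finset.mem_insert, Finset.mem_filter, Finset.mem_univ,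
      true_and, Finset.mem_image, not_or] at hψ
    by_contra hne
    exact hψ.1.2 ⟨fun ⟨i, hi⟩ => hψ.2 ⟨i, hi⟩, hψ.1.1, hne⟩
  have hμsum : ∀ f : ℤ → ℤ, ∑ i, f (c (μ i)) = f (A - ε) + ((t : ℤ) - 1) * f A := by
    intro f
    rw [← Finset.add_sum_erase _ _ (Finset.mem_univ i₀), hc0,
      Finset.sum_congr rfl (fun i hi => congrArg f (hcA i (Finset.ne_of_mem_erase hi))),
      Finset.sum_const, Finset.card_erase_of_mem (Finset.mem_univ _), Finset.card_univ,
      Fintype.card_fin, nsmul_eq_mul, Nat.cast_sub (Fin.pos i₀), Nat.cast_one]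
  have hye : ∀ i, yd (μ i) = yd (μ i₀) := fun i => by
    have h := hoff 1 (off_one _) i
    rw [yd_eq, yd_eq] at h
    exact_mod_cast h
  -- elements meeting `P` in a non-trivial element
  have honP : ∀ g : G, ¬ Off (P : Subgroup G) g → ∃ v ∈ (P : Subgroup G), v ≠ 1 ∧ IsConj g v := by
    intro g hg
    simp only [Off, not_forall] at hg
    obtain ⟨x, hx, hx1⟩ := hg
    exact ⟨_, hx, hx1, isConj_iff.2 ⟨x⁻¹, by rw [inv_inv]⟩⟩
  have hYv : ∀ g : G, ¬ Off (P : Subgroup G) g → (K.Y : G → ℂ) g = -(K.δ : ℂ) := by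
    intro g hg
    obtain ⟨v, hv, hv1, hgv⟩ := honP g hg
    obtain ⟨x, hx⟩ := isConj_iff.1 hgv
    rw [← CharBasic.IsIrr.isClassFunction K.Y.2 g x, hx]
    exact K.Y_apply P hv hv1
  have hYμ : K.Y ∉ Set.range μ := by
    rintro ⟨i, hi⟩
    haveI : Nontrivial (Fin t) := Fin.nontrivial_iff_two_le.2 ht2
    obtain ⟨j, hj⟩ := exists_ne i
    have h : ∑ g : G, ((μ i : G → ℂ) g - (μ j : G → ℂ) g) * conj ((K.Y : G → ℂ) g) =
        -(K.δ : ℂ) * ∑ g : G, ((μ i : G → ℂ) g - (μ j : G → ℂ) g) * conj (1 : ℂ) := by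
      rw [Finset.mul_sum]
      refine Finset.sum_congr rfl fun g _ => ?_
      by_cases hg : Off (P : Subgroup G) g
      · rw [hoff g hg i, hoff g hg j, sub_self]; simp
      · rw [hYv g hg]; simp; ring
    have hG : (Nat.card G : ℂ) ≠ 0 := Nat.cast_ne_zero.2 Nat.card_pos.ne'
    simp only [sub_mul, Finset.sum_sub_distrib] at h
    have hin : ∀ χ ψ : IrrCharacter G, ∑ g : G, (χ : G → ℂ) g * conj ((ψ : G → ℂ) g) =
        (Nat.card G : ℂ) * if χ = ψ then 1 else 0 := fun χ ψ => by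
      rw [← classInner_irrCharacter, classInner_def, mul_inv_cancel_left₀ hG]
    have h1 : ∀ χ : IrrCharacter G, ∑ g : G, (χ : G → ℂ) g * conj (1 : ℂ) =
        (Nat.card G : ℂ) * if χ = T then 1 else 0 := fun χ => hin χ T
    rw [hin, hin, h1, h1, if_pos hi, if_neg (fun e => hj (hμ (e.trans hi.symm))),
      if_neg (fun e => hTμ ⟨i, e⟩), if_neg (fun e => hTμ ⟨j, e⟩)] at h
    exact hG (by linear_combination h)
  obtain ⟨v, hv, hv1⟩ : ∃ v ∈ (P : Subgroup G), v ≠ 1 := by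
    by_contra h
    push Not at h
    have : (P : Subgroup G) = ⊥ := (Subgroup.eq_bot_iff_forall _).2 h
    have h5 := K.five_le
    rw [this, Subgroup.card_bot] at hP
    omega
  have hcY : c K.Y = -K.δ := by
    have := ((hother K.Y hYμ).1 ⟨v, hv⟩ (fun e => hv1 (congrArg Subtype.val e)))
    rw [K.Y_apply P hv hv1] at this
    exact_mod_cast this.symm
  have hYO : K.Y ∈ O := Finset.mem_filter.2 ⟨Finset.mem_univ _, hYμ, K.Y_ne, by
    rw [hcY]; rcases K.sign with h | h <;> rw [h] <;> norm_num⟩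
  have hrelation : 1 + ∑ ψ ∈ O, c ψ * (yd ψ : ℤ) + ((t : ℤ) * A - ε) * yd (μ i₀) = 0 := by
    have h : ((∑ ψ, c ψ * (yd ψ : ℤ) : ℤ) : ℂ) = 0 := by
      rw [← horth 1 (off_one _)]
      push_cast
      simp only [yd_eq]
    rw [Int.cast_eq_zero, hdec _ (fun ψ h0 => by simp [h0]), hcT] at h
    simp only [hye, ← Finset.sum_mul, hμsum fun x => x] at h
    rw [show yd T = 1 from yd_triv] at h
    push_cast at h
    linear_combination h
  refine ⟨⟨O, c, A, ε, t, yd (μ i₀), hst, ht2, hε, hYO, hcY, hTO, ?_,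
    fun ψ hψ => (Finset.mem_filter.1 hψ).2.2.2, ?_, ?_,
    two_le_yd K.noncomm (fun e => hμ1 i₀ (congrArg Subtype.val e)), yd_dvd _, ?_, hrelation, ?_⟩⟩
  · have h := hdec (fun ψ => c ψ ^ 2) (fun ψ h0 => by simp [h0])
    rw [hsq, hcT, hμsum fun x => x ^ 2] at h
    linear_combination -h
  · intro ψ hψ
    obtain ⟨m, hm⟩ := (hother ψ (Finset.mem_filter.1 hψ).2.1).2
    rw [yd_eq] at hm
    have hm' : (yd ψ : ℤ) = c ψ + q * m := by exact_mod_cast hm
    exact ⟨m, by rw [hm']; ring⟩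
  · intro ψ hψ heq
    have hval := (hother ψ (Finset.mem_filter.1 hψ).2.1).1 ⟨v, hv⟩
      (fun e => hv1 (congrArg Subtype.val e))
    refine hv1 (H36.SelfCentral.ker_trivial (Finset.mem_filter.1 hψ).2.2.1 ?_)
    rw [hval, yd_eq, ← heq]
    norm_num
  · obtain ⟨m, hm⟩ := hμdeg i₀
    rw [yd_eq] at hm
    have hm' : (yd (μ i₀) : ℤ) = A + ε * nidx P + q * m := by exact_mod_cast hm
    exact ⟨m, by rw [hm']; ring⟩
  -- the principal block
  intro hone
  haveI : Fact (Nat.Prime 2) := ⟨Nat.prime_two⟩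
  obtain ⟨M, hM⟩ := exists_isPModular Nat.prime_two
  set PB := principalBlock M G with hPB
  have hPBblock : IsPBlock M PB := isPBlock_principalBlock M
  let θ : G → ℂ := fun g => ∑ ψ : IrrCharacter G, (c ψ : ℂ) * (ψ : G → ℂ) g
  have hθinner : ∀ ψ : IrrCharacter G, classInner θ (ψ : G → ℂ) = c ψ := by
    intro ψ
    rw [show θ = ∑ χ : IrrCharacter G, (c χ : ℂ) • (χ : G → ℂ) from
      funext fun g => by simp [θ, Finset.sum_apply]]
    simp [classInner_sum_left, classInner_smul_left, classInner_irrCharacter]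
  have hθ2 : ∀ g, 2 ∣ orderOf g → θ g = 0 := by
    intro g hg
    apply horth
    intro x hx
    by_contra hx1
    have hox : orderOf (x⁻¹ * g * x) = orderOf g := by
      have := MulEquiv.orderOf_eq (MulAut.conj x⁻¹) g
      simpa using this
    have hd := _root_.orderOf_dvd_natCard (⟨_, hx⟩ : ↥(P : Subgroup G))
    rw [Subgroup.orderOf_mk, hox, hP] at hd
    exact K.ne_two ((Nat.prime_dvd_prime_iff_eq Nat.prime_two K.prime).1 (hg.trans hd)).symm
  obtain ⟨r, hr, hr'⟩ := exists_mul_of_vanish (p := 2)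
    (fun ψ : IrrCharacter G => if ψ ∈ PB then (c ψ : ℂ) else 0) (Set.range fun n : ℤ => (n : ℂ))
    ⟨0, by simp⟩ (fun _ ⟨x, hx⟩ _ ⟨y, hy⟩ => ⟨x + y, by simp [← hx, ← hy]⟩)
    (fun n _ ⟨x, hx⟩ => ⟨x * n, by simp [← hx]⟩)
    (fun ψ => ⟨if ψ ∈ PB then c ψ else 0, by split_ifs <;> simp⟩) (fun x hx1 ⟨k, hk⟩ => by
      have h2x : 2 ∣ orderOf x := by
        rcases k with _ | k
        · exact absurd (orderOf_eq_one_iff.1 (by simpa using hk)) hx1
        · rw [hk]; exact dvd_pow_self 2 (Nat.succ_ne_zero k)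
      refine Eq.trans ?_ (sum_block_singular_eq_zero hM hPBblock hθ2 h2x)
      refine Finset.sum_congr rfl fun ψ _ => ?_
      simp only [hθinner]
      split_ifs <;> simp)
  obtain ⟨r, rfl⟩ := hr
  have hfact : (Nat.card G).factorization 2 = a := by
    have hq2 : ¬ 2 ∣ 9 * q := by
      intro h
      rcases Nat.prime_two.dvd_mul.1 h with h | h
      · norm_num at h
      · exact K.ne_two ((Nat.prime_dvd_prime_iff_eq Nat.prime_two K.prime).1 h).symm
    rw [show Nat.card G = 2 ^ a * (9 * q) by rw [K.card_G]; ring,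
      Nat.factorization_mul (by positivity) (by have := K.five_le; omega), Finsupp.add_apply,
      Nat.prime_two.factorization_pow, Finsupp.single_eq_same,
      Nat.factorization_eq_zero_of_not_dvd hq2, add_zero]
  rw [hfact] at hr'
  have hdiv : (2 : ℤ) ^ a ∣ ∑ ψ, if ψ ∈ PB then c ψ * (yd ψ : ℤ) else 0 := by
    refine ⟨r, ?_⟩
    have hr'' : ((∑ ψ, if ψ ∈ PB then c ψ * (yd ψ : ℤ) else 0 : ℤ) : ℂ) =
        (((2 : ℤ) ^ a * r : ℤ) : ℂ) := by
      push_cast
      rw [show (2 : ℂ) ^ a * (r : ℂ) = ((2 ^ a : ℕ) : ℂ) * (r : ℂ) by push_cast; rfl, ← hr']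
      refine Finset.sum_congr rfl fun ψ _ => ?_
      split_ifs <;> simp [yd_eq]
    exact_mod_cast hr''
  rw [hdec _ (fun ψ h0 => by simp [h0]),
    if_pos (show T ∈ PB from sameBlock_refl hM _), hcT,
    show yd T = 1 from yd_triv, ← Finset.sum_filter,
    show ∑ ψ ∈ O with ψ ∈ PB, c ψ * (yd ψ : ℤ) = ∑ ψ ∈ O.filter (· ∈ PB), c ψ * (yd ψ : ℤ) from rfl]
    at hdiv
  refine ⟨O.filter (· ∈ PB), Finset.filter_subset _ _, fun ψ hψ m hm =>
    K.not_mem_principal hM (Finset.mem_filter.1 (Finset.mem_filter.1 hψ).1).2.2.1 hm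
      (Finset.mem_filter.1 hψ).2, ?_⟩
  simp only [hye] at hdiv
  -- a single exceptional coefficient survives
  obtain ⟨j, hjC, hjrest⟩ : ∃ j, c (μ j) = (t : ℤ) * A - ε ∧ ∀ i, i ≠ j → c (μ i) = 0 := by
    have hA : A = 0 ∨ (A = ε ∧ t = 2) := by
      rcases eq_or_ne A 0 with h | h
      · exact Or.inl h
      right
      have h1 : (1 : ℤ) ≤ A ^ 2 := by
        have := mul_self_pos.2 h
        rw [pow_two]; omega
      have ht1 : (1 : ℤ) ≤ (t : ℤ) - 1 := by omega
      have h2 : ((t : ℤ) - 1) * A ^ 2 ≤ 1 := by nlinarith [sq_nonneg (A - ε)]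
      have h3 : ((t : ℤ) - 1) * A ^ 2 = 1 := le_antisymm h2 (by nlinarith)
      refine ⟨?_, ?_⟩
      · have : (A - ε) ^ 2 = 0 := by linarith
        exact sub_eq_zero.1 (eq_zero_of_pow_eq_zero this)
      · have h4 : (t : ℤ) - 1 ≤ 1 := by nlinarith
        omega
    rcases hA with rfl | ⟨rfl, rfl⟩
    · exact ⟨i₀, by rw [hc0]; ring, fun i hi => hcA i hi⟩
    · haveI : Nontrivial (Fin 2) := inferInstance
      obtain ⟨j, hj⟩ := exists_ne i₀
      refine ⟨j, by rw [hcA j hj]; push_cast; ring, fun i hi => ?_⟩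
      have : i = i₀ := by omega
      rw [this, hc0, sub_self]
  refine ⟨if μ j ∈ PB then 1 else 0, by split_ifs <;> simp, ?_⟩
  convert! hdiv using 2
  rw [Finset.sum_eq_single j (fun i _ hi => by simp [hjrest i hi]) (by simp), hjC]
  split_ifs <;> simp

end Cfsg.Agent.H33.NineTwoQ
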