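import Cfsg.Agent.H36.DegreeEq
import Cfsg.Agent.H33.ExcThree.Chars
import Cfsg.Agent.CharInduce.Induce
import Cfsg.Agent.BlockBasic.PPart
import Cfsg.Agent.CharBasic.Kernel

/-!
# An irreducible character of prime degree `q` of a simple group: the Sylow `q`-subgroup has order
`q` and is self-centralizing
-/

set_option autoImplicit false
set_option linter.style.haveILetI false
set_option linter.unusedSectionVars false

open scoped ComplexConjugate
open Subgroup

namespace Cfsg.Agent.H33.NineTwoQ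

open CharBasic CharInduce BlockBasic
open Cfsg.Agent.H36.SelfCentral (triv)

universe u

variable {G : Type u} [Group G] [Fintype G] [IsSimpleGroup G]

theorem eq_one_of_norm_eq (hG : ¬ IsMulCommutative G) {χ : IrrCharacter G} (hχ : χ ≠ triv G)
    {g : G} (hg : ‖(χ : G → ℂ) g‖ = ‖(χ : G → ℂ) 1‖) : g = 1 := by
  obtain ⟨Z, hZ, hmem⟩ := IsChar.exists_center (CharBasic.IsIrr.isCharacter χ.2)
  rcases hZ.eq_bot_or_eq_top with hb | ht
  · exact Subgroup.mem_bot.1 (hb ▸ (hmem g).2 hg)
  exfalso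
  obtain ⟨d, hd2, hd, -⟩ := H36.SelfCentral.exists_degree_two_le hG hχ
  have hall : ∀ x : G, conj ((χ : G → ℂ) x) * (χ : G → ℂ) x = ((d * d : ℕ) : ℂ) := by
    intro x
    rw [Complex.conj_mul', (hmem x).1 (ht ▸ mem_top x), hd, Complex.norm_natCast]
    push_cast; ring
  have h := H83.sum_norm_sq χ.2
  rw [Finset.sum_congr rfl fun x _ => hall x, Finset.sum_const, nsmul_eq_mul, Finset.card_univ,
    ← Nat.card_eq_fintype_card] at h
  have h' : Nat.card G * (d * d) = Nat.card G * 1 := by rw [mul_one]; exact_mod_cast h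
  have := Nat.eq_of_mul_eq_mul_left Nat.card_pos h'
  nlinarith

variable {q : ℕ} [Fact q.Prime] {X : IrrCharacter G}

/-- The standing assumptions on a character of degree `q`. -/
structure PrimeDeg (G : Type u) [Group G] [Fintype G] (q : ℕ) (X : IrrCharacter G) : Prop where
  noncomm : ¬ IsMulCommutative G
  ne_triv : X ≠ triv G
  deg : (X : G → ℂ) 1 = q

theorem apply_eq_zero_of_le (hX : PrimeDeg G q X) (Q : Sylow q G) {g : G}
    (hg : (Q : Subgroup G) ≤ centralizer ({g} : Set G)) (hg1 : g ≠ 1) : (X : G → ℂ) g = 0 := by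
  obtain ⟨n, ρ, hρ, he⟩ := X.2
  have hn : Module.finrank ℂ (Fin n → ℂ) = q := by
    have := hX.deg
    rw [← congrFun he 1, Representation.char_one] at this
    exact_mod_cast this
  have hcop : Nat.Coprime (Module.finrank ℂ (Fin n → ℂ))
      (centralizer ({g} : Set G)).index := by
    rw [hn, (Fact.out : q.Prime).coprime_iff_not_dvd]
    exact fun h => Q.not_dvd_index (h.trans (Subgroup.index_dvd_of_le hg))
  rcases burnside_zero_or_scalar ρ g hcop with h | h
  · rwa [congrFun he g] at h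
  · refine absurd (eq_one_of_norm_eq hX.noncomm hX.ne_triv ?_) hg1
    rw [← congrFun he g, h, hX.deg, hn, Complex.norm_natCast]

theorem dvd_card (hX : PrimeDeg G q X) : q ∣ Nat.card G := by
  have h := H83.charDegree_dvd_card X.2
  have hd : charDegree (X : G → ℂ) = q := by
    exact_mod_cast (H83.charDegree_eq X.2).1.symm.trans hX.deg
  rwa [hd] at h

theorem card_sylow (hX : PrimeDeg G q X) (Q : Sylow q G) : Nat.card (Q : Subgroup G) = q := by
  classical
  haveI : Fintype (Q : Subgroup G) := Fintype.ofFinite _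
  have hne : (Q : Subgroup G) ≠ ⊥ := Q.ne_bot_of_dvd_card (dvd_card hX)
  haveI : Nontrivial (Q : Subgroup G) := (Q : Subgroup G).nontrivial_iff_ne_bot.2 hne
  haveI := Q.isPGroup'.center_nontrivial
  obtain ⟨⟨z, hz⟩, hz1⟩ := exists_ne (1 : center (Q : Subgroup G))
  have hz1' : (z : G) ≠ 1 := fun h => hz1 (Subtype.ext (Subtype.ext h))
  have hXz : (X : G → ℂ) z = 0 := apply_eq_zero_of_le hX Q (fun u hu =>
    mem_centralizer_singleton_iff.2 (congrArg Subtype.val (mem_center_iff.1 hz ⟨u, hu⟩))) hz1'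
  set σ : ↥(Q : Subgroup G) → ℂ := fun u => (X : G → ℂ) u with hσ
  have hσc : IsCharacter (Q : Subgroup G) σ :=
    IsChar.res (CharBasic.IsIrr.isCharacter X.2) _
  have hσ1 : σ 1 = q := hX.deg
  have hlin : ∀ ψ : IrrCharacter (Q : Subgroup G), classInner σ (ψ : ↥(Q : Subgroup G) → ℂ) ≠ 0 →
      (ψ : ↥(Q : Subgroup G) → ℂ) 1 = 1 := by
    intro ψ hψ
    obtain ⟨d, hd0, hd, hdvd, -⟩ := CharBasic.IsIrr.degree_dvd ψ.2
    obtain ⟨k, hk⟩ := IsPGroup.iff_card.1 Q.isPGroup'
    obtain ⟨j, -, hj⟩ := (Nat.dvd_prime_pow (Fact.out : q.Prime)).1 (hk ▸ hdvd)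
    rcases j with _ | j
    · rw [hd, hj, pow_zero, Nat.cast_one]
    exfalso
    obtain ⟨r, hr, hσr⟩ := CharInduce.IsChar.exists_eq_add hσc ψ.2 hψ
    obtain ⟨c, hc⟩ := CharBasic.IsChar.exists_degree hr
    have hsum : q = d + c := by
      have := congrFun hσr 1
      rw [hσ1, Pi.add_apply, hd, hc] at this
      exact_mod_cast this
    have hdq : q ≤ d := by
      rw [hj, pow_succ]; exact Nat.le_mul_of_pos_left q (pow_pos (Fact.out : q.Prime).pos j)
    have hr0 : r = 0 := CharInduce.IsChar.eq_zero_of_one_eq_zero hr (by rw [hc]; norm_num; omega)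
    rw [hr0, add_zero] at hσr
    obtain ⟨n, ρ, hρ, he⟩ := ψ.2
    obtain ⟨ω, -, hω, hmul⟩ := exists_central_scalar ρ hz
    have hz0 : ρ.character z = 0 := by
      rw [congrFun he z, ← congrFun hσr z]; exact hXz
    have h1 := hmul 1
    rw [one_mul, hz0, congrFun he 1, hd] at h1
    rcases mul_eq_zero.1 h1.symm with h | h
    · rw [h, norm_zero] at hω; exact zero_ne_one hω
    · exact hd0.ne' (by exact_mod_cast h)
  have hcomm : ∀ x y : (Q : Subgroup G), x * y = y * x := by
    intro x y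
    have hval : σ (x * y * x⁻¹ * y⁻¹) = σ 1 := by
      conv_lhs => rw [classFunction_expansion (CharBasic.IsChar.isClassFunction hσc)]
      conv_rhs => rw [classFunction_expansion (CharBasic.IsChar.isClassFunction hσc)]
      simp only [Finset.sum_apply, Pi.smul_apply, smul_eq_mul]
      refine Finset.sum_congr rfl fun ψ _ => ?_
      by_cases hψ : classInner σ (ψ : ↥(Q : Subgroup G) → ℂ) = 0
      · rw [hψ, zero_mul, zero_mul]
      obtain ⟨l, hl⟩ := CharInduce.IsChar.exists_hom_of_degree_one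
        (CharBasic.IsIrr.isCharacter ψ.2) (hlin ψ hψ)
      rw [hl, hl, map_mul, map_mul, map_mul, map_inv, map_inv, map_one, mul_comm (l x) (l y)]
      simp
    have h1 : ((x * y * x⁻¹ * y⁻¹ : (Q : Subgroup G)) : G) = 1 :=
      H36.SelfCentral.ker_trivial hX.ne_triv (hval.trans hσ1 |>.trans hX.deg.symm)
    have h2 : x * y * x⁻¹ * y⁻¹ = 1 := Subtype.ext h1
    rwa [mul_inv_eq_one, mul_inv_eq_iff_eq_mul] at h2
  obtain ⟨m, hm⟩ := H83.sum_subgroup_eq (CharBasic.IsIrr.isCharacter X.2) (Q : Subgroup G)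
  rw [Finset.sum_eq_single (1 : (Q : Subgroup G)) (fun u _ hu => apply_eq_zero_of_le hX Q
      (fun v hv => mem_centralizer_singleton_iff.2 (congrArg Subtype.val (hcomm ⟨v, hv⟩ u)))
      (fun h => hu (Subtype.ext h))) (fun h => absurd (Finset.mem_univ _) h),
    OneMemClass.coe_one, hX.deg] at hm
  have hm' : q = Nat.card (Q : Subgroup G) * m := by exact_mod_cast hm
  rcases (Fact.out : q.Prime).eq_one_or_self_of_dvd _ (Dvd.intro m hm'.symm) with h | h
  · exact absurd (Subgroup.card_eq_one.1 h) hne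
  · exact h

theorem apply_eq_zero (hX : PrimeDeg G q X) (Q : Sylow q G) {v : G} (hv : v ∈ (Q : Subgroup G))
    (hv1 : v ≠ 1) : (X : G → ℂ) v = 0 := by
  refine apply_eq_zero_of_le hX Q (fun u hu => mem_centralizer_singleton_iff.2 ?_) hv1
  haveI : IsCyclic (Q : Subgroup G) := isCyclic_of_prime_card (card_sylow hX Q)
  letI := IsCyclic.commGroup (α := (Q : Subgroup G))
  exact congrArg Subtype.val (mul_comm (⟨u, hu⟩ : (Q : Subgroup G)) ⟨v, hv⟩)

/-- A `q`-regular element centralizing `Q` is trivial. -/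
theorem eq_one_of_regular (hX : PrimeDeg G q X) (Q : Sylow q G) {w : G}
    (hw : w ∈ centralizer ((Q : Subgroup G) : Set G)) (hreg : ¬ q ∣ orderOf w) : w = 1 := by
  classical
  set W := zpowers w with hW
  haveI : Fintype W := Fintype.ofFinite _
  haveI : Fintype (Q : Subgroup G) := Fintype.ofFinite _
  have hcQ : ∀ (x : (Q : Subgroup G)) (h : W), (x : G) * h = h * x := by
    intro x h
    obtain ⟨i, hi⟩ := mem_zpowers_iff.1 h.2
    rw [← hi]
    exact ((show Commute w (x : G) from (mem_centralizer_iff.1 hw x x.2).symm).zpow_left i).eq.symm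
  let f : ↥(Q : Subgroup G) × W →* G :=
    MonoidHom.mk' (fun p => (p.1 : G) * p.2) (by
      intro a b
      simp only [Prod.fst_mul, Prod.snd_mul, Subgroup.coe_mul]
      exact (show Commute (b.1 : G) (a.2 : G) from hcQ b.1 a.2).mul_mul_mul_comm _ _)
  have hvan : ∀ (x : (Q : Subgroup G)) (h : W), x ≠ 1 → (X : G → ℂ) ((x : G) * h) = 0 := by
    intro x h hx
    refine apply_eq_zero_of_le hX Q (fun u hu => mem_centralizer_singleton_iff.2 ?_) ?_
    · haveI : IsCyclic (Q : Subgroup G) := isCyclic_of_prime_card (card_sylow hX Q)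
      letI := IsCyclic.commGroup (α := (Q : Subgroup G))
      have h1 : u * (x : G) = x * u := congrArg Subtype.val (mul_comm (⟨u, hu⟩ : (Q : Subgroup G)) x)
      calc u * ((x : G) * h) = (u * x) * h := by group
        _ = (x : G) * (u * h) := by rw [h1]; group
        _ = _ := by rw [show u * (h : G) = h * u from hcQ ⟨u, hu⟩ h]; group
    · intro h0
      have hxW : (x : G) ∈ W := by rw [mul_eq_one_iff_eq_inv.1 h0]; exact W.inv_mem h.2
      have hd : orderOf (x : G) ∣ orderOf w := by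
        rw [← Subgroup.orderOf_mk (x : G) hxW, ← Nat.card_zpowers w]
        exact _root_.orderOf_dvd_natCard _
      have hxq : orderOf (x : G) = q := by
        rw [Subgroup.orderOf_coe]
        exact ((Fact.out : q.Prime).eq_one_or_self_of_dvd _
          (by have h' := _root_.orderOf_dvd_natCard x; rwa [card_sylow hX Q] at h')).resolve_left
            (fun h => hx (orderOf_eq_one_iff.1 h))
      rw [hxq] at hd; exact hreg hd
  set σ : W → ℂ := fun h => (X : G → ℂ) h with hσ
  have hσc : IsCharacter W σ := IsChar.res (CharBasic.IsIrr.isCharacter X.2) _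
  have hWcomm : ∀ a b : W, a * b = b * a := fun a b => Subtype.ext (by
    obtain ⟨i, hi⟩ := mem_zpowers_iff.1 a.2
    obtain ⟨j, hj⟩ := mem_zpowers_iff.1 b.2
    show (a : G) * b = b * a
    rw [← hi, ← hj, ← zpow_add, ← zpow_add, add_comm])
  have hlin := (commutative_iff_forall_linear (G := W)).1 hWcomm
  have hmult : ∀ ψ : IrrCharacter W, ∃ m : ℕ,
      classInner σ (ψ : W → ℂ) = (q : ℂ) * m := by
    intro ψ
    obtain ⟨l, hl⟩ := CharInduce.IsChar.exists_hom_of_degree_one
      (CharBasic.IsIrr.isCharacter ψ.2) (hlin ψ)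
    let lam : ↥(Q : Subgroup G) × W →* ℂ :=
      { toFun := fun p => conj (l p.2 : ℂ)
        map_one' := by simp
        map_mul' := fun a b => by simp }
    obtain ⟨m, hm⟩ := ExcThree.sum_hom_mul f lam (CharBasic.IsIrr.isCharacter X.2)
    refine ⟨m, ?_⟩
    rw [Fintype.sum_prod_type, Finset.sum_eq_single (1 : (Q : Subgroup G))
      (fun x _ hx => Finset.sum_eq_zero fun h _ => by
        show conj (l h : ℂ) * (X : G → ℂ) ((x : G) * h) = 0
        rw [hvan x h hx, mul_zero])
      (fun h => absurd (Finset.mem_univ _) h), Nat.card_prod, card_sylow hX Q] at hm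
    rw [classInner_def, inv_mul_eq_iff_eq_mul₀ (Nat.cast_ne_zero.2 Nat.card_pos.ne')]
    refine Eq.trans ?_ (hm.trans (by push_cast; ring))
    refine Finset.sum_congr rfl fun h _ => ?_
    show (X : G → ℂ) h * conj ((ψ : W → ℂ) h) =
      conj (l h : ℂ) * (X : G → ℂ) ((((1 : (Q : Subgroup G)) : G)) * h)
    rw [OneMemClass.coe_one, one_mul, hl, mul_comm]
  choose m hm using hmult
  have hexp : ∀ h : W, σ h = (q : ℂ) * ∑ ψ : IrrCharacter W, (m ψ : ℂ) * (ψ : W → ℂ) h := by
    intro h
    conv_lhs => rw [classFunction_expansion (CharBasic.IsChar.isClassFunction hσc)]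
    simp only [Finset.sum_apply, Pi.smul_apply, smul_eq_mul, hm, Finset.mul_sum, mul_assoc]
  have h1 : ∑ ψ : IrrCharacter W, m ψ = 1 := by
    have := hexp 1
    simp only [hlin, mul_one] at this
    rw [show σ 1 = (q : ℂ) from hX.deg] at this
    have h' : (q : ℕ) * ∑ ψ : IrrCharacter W, m ψ = q * 1 := by
      rw [mul_one]; exact_mod_cast this.symm
    exact Nat.eq_of_mul_eq_mul_left (Fact.out : q.Prime).pos h'
  obtain ⟨ψ₀, hψ₀⟩ : ∃ ψ₀, m ψ₀ ≠ 0 := by
    by_contra hall
    push Not at hall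
    simp [hall] at h1
  have hrest : ∀ ψ, ψ ≠ ψ₀ → m ψ = 0 := by
    intro ψ hψ
    have := Finset.add_sum_erase Finset.univ m (Finset.mem_univ ψ₀)
    rw [h1] at this
    have h0 : ∑ φ ∈ Finset.univ.erase ψ₀, m φ = 0 := by omega
    exact Finset.sum_eq_zero_iff.1 h0 ψ (Finset.mem_erase.2 ⟨hψ, Finset.mem_univ _⟩)
  have hm1 : m ψ₀ = 1 := by
    rwa [Finset.sum_eq_single ψ₀ (fun ψ _ hψ => hrest ψ hψ) (by simp)] at h1
  apply eq_one_of_norm_eq hX.noncomm hX.ne_triv
  have hwv := hexp ⟨w, mem_zpowers w⟩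
  rw [Finset.sum_eq_single ψ₀ (fun ψ _ hψ => by simp [hrest ψ hψ]) (by simp), hm1] at hwv
  obtain ⟨l, hl⟩ := CharInduce.IsChar.exists_hom_of_degree_one
    (CharBasic.IsIrr.isCharacter ψ₀.2) (hlin ψ₀)
  rw [show (X : G → ℂ) w = σ ⟨w, mem_zpowers w⟩ from rfl, hwv, hl, hX.deg, norm_mul, norm_mul,
    CharInduce.norm_hom]
  simp

/-- The Sylow subgroup is self-centralizing. -/
theorem centralizer_eq (hX : PrimeDeg G q X) (Q : Sylow q G) :
    centralizer ((Q : Subgroup G) : Set G) = (Q : Subgroup G) := by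
  refine le_antisymm (fun c hc => ?_) (fun u hu => mem_centralizer_iff.2 fun v hv => ?_)
  · have hreg : pReg (p := q) c ∈ centralizer ((Q : Subgroup G) : Set G) := by
      rw [mem_centralizer_iff]
      intro v hv
      have hvc : v * c * v⁻¹ = c := by
        rw [mem_centralizer_iff.1 hc v hv, mul_inv_cancel_right]
      have h2 : v * pPart (p := q) c * v⁻¹ = pPart (p := q) c := by rw [← pPart_conj, hvc]
      rw [pReg]
      calc v * ((pPart (p := q) c)⁻¹ * c)
          = (v * pPart (p := q) c * v⁻¹)⁻¹ * (v * c * v⁻¹) * v := by group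
        _ = _ := by rw [h2, hvc]
    have h1 := eq_one_of_regular hX Q hreg (not_dvd_orderOf_pReg c)
    have h3 := pPart_mul_pReg (p := q) c
    rw [h1, mul_one] at h3
    obtain ⟨k, hk⟩ := exists_orderOf_pPart (p := q) c
    rw [h3] at hk
    have hpg : IsPGroup q (zpowers c) := IsPGroup.of_card (n := k) (by rw [Nat.card_zpowers, hk])
    have hle : zpowers c ≤ normalizer ((Q : Subgroup G) : Set G) :=
      zpowers_le.2 (centralizer_le_normalizer _ hc)
    have := hpg.inf_normalizer_sylow Q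
    exact (this.le (Subgroup.mem_inf.2 ⟨mem_zpowers c, hle (mem_zpowers c)⟩)).2
  · haveI : IsCyclic (Q : Subgroup G) := isCyclic_of_prime_card (card_sylow hX Q)
    letI := IsCyclic.commGroup (α := (Q : Subgroup G))
    exact congrArg Subtype.val (mul_comm (⟨v, hv⟩ : (Q : Subgroup G)) ⟨u, hu⟩)

end Cfsg.Agent.H33.NineTwoQ
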