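import Cfsg.Agent.H33.NineTwoQ.Degrees
import Cfsg.Agent.H33.NineTwoQ.Vanish
import Mathlib.RingTheory.Polynomial.Cyclotomic.Basic
import Mathlib.RingTheory.IntegralDomain

/-!
# The Sylow `q`-subgroup: its normalizer, and the determinant argument for a full normalizer
-/

set_option autoImplicit false
set_option linter.style.haveILetI false
set_option linter.unusedSectionVars false

open scoped ComplexConjugate
open Subgroup

namespace Cfsg.Agent.H33.NineTwoQ

open CharBasic CharInduce BlockBasic
open Cfsg.Agent.H36.SelfCentral (triv U unitHom card_U exists_iso mem_ker_unitHom)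

universe u

/-- The standing hypotheses. -/
structure Ctx (G : Type u) [Group G] [Fintype G] (q a b : ℕ) extends DegreeData G q where
  noncomm : ¬ IsMulCommutative G
  prime : q.Prime
  ne_two : q ≠ 2
  ne_three : q ≠ 3
  card_eq : Nat.card G = 9 * 2 ^ a * q ^ b

variable {G : Type u} [Group G] [Fintype G] [IsSimpleGroup G] {q a b : ℕ}
variable (K : Ctx G q a b)
include K

theorem Ctx.primeDeg : PrimeDeg G q K.X :=
  ⟨K.noncomm, K.X_ne, K.X_one⟩

variable [Fact q.Prime] (P : Sylow q G)

theorem Ctx.card_P : Nat.card (P : Subgroup G) = q := card_sylow K.primeDeg P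

theorem Ctx.central_P : centralizer ((P : Subgroup G) : Set G) = (P : Subgroup G) :=
  centralizer_eq K.primeDeg P

theorem Ctx.five_le : 5 ≤ q := by
  have h2 := K.prime.two_le
  have := K.ne_two
  have := K.ne_three
  have h4 : q ≠ 4 := by rintro rfl; exact absurd K.prime (by norm_num)
  omega

theorem Ctx.not_dvd_rest : ¬ q ∣ 9 * 2 ^ a := by
  have hq := K.five_le
  intro h
  rcases K.prime.dvd_mul.1 h with h | h
  · rcases Nat.le_of_dvd (by norm_num) h, hq with ⟨h1, h2⟩
    interval_cases q <;> first | omega | exact absurd K.prime (by norm_num)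
  · exact K.ne_two ((Nat.prime_dvd_prime_iff_eq K.prime Nat.prime_two).1
      (K.prime.dvd_of_dvd_pow h))

theorem Ctx.exponent_eq : b = 1 := by
  obtain ⟨P⟩ := Sylow.nonempty (p := q) (G := G)
  have h := H36.card_sylow_eq K.card_eq P (show 9 * 2 ^ a * q ^ b = q ^ b * (9 * 2 ^ a) by ring)
    K.not_dvd_rest
  rw [K.card_P P] at h
  exact (Nat.pow_right_injective K.prime.two_le ((pow_one q).trans h)).symm

theorem Ctx.card_G : Nat.card G = 9 * 2 ^ a * q := by
  rw [K.card_eq, K.exponent_eq, pow_one]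

theorem Ctx.three_not_dvd_orderOf {v : G} (hv : v ∈ (P : Subgroup G)) : ¬ 3 ∣ orderOf v := by
  intro h
  have h' := _root_.orderOf_dvd_natCard (⟨v, hv⟩ : ↥(P : Subgroup G))
  rw [K.card_P P] at h'
  rw [Subgroup.orderOf_mk] at h'
  exact K.ne_three ((Nat.prime_dvd_prime_iff_eq Nat.prime_three K.prime).1 (h.trans h')).symm

theorem Ctx.X_apply {v : G} (hv : v ∈ (P : Subgroup G)) (hv1 : v ≠ 1) :
    (K.X : G → ℂ) v = 0 := apply_eq_zero K.primeDeg P hv hv1

theorem Ctx.Y_apply {v : G} (hv : v ∈ (P : Subgroup G)) (hv1 : v ≠ 1) :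
    (K.Y : G → ℂ) v = -(K.δ : ℂ) := by
  have h := K.rel v (K.three_not_dvd_orderOf P hv)
  rw [K.X_apply P hv hv1] at h
  linear_combination -h

omit K in
/-- The index of the centralizer in the normalizer. -/
noncomputable def nidx (P : Sylow q G) : ℕ :=
  (P : Subgroup G).relIndex (normalizer ((P : Subgroup G) : Set G))

theorem Ctx.two_le_s : 2 ≤ nidx P := by
  have h := H36.one_lt_relIndex_centralizer K.noncomm P (dvd_card K.primeDeg)
  rw [K.central_P P] at h
  exact h

theorem Ctx.s_dvd_pred : nidx P ∣ q - 1 := by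
  obtain ⟨φ⟩ := exists_iso (K.card_P P)
  have h : Nat.card (U φ) ∣ Nat.card (ZMod q)ˣ := Subgroup.card_subgroup_dvd_card _
  rw [Nat.card_eq_fintype_card (α := (ZMod q)ˣ), ZMod.card_units,
    (card_U φ (K.card_P P) (K.central_P P)).1] at h
  exact h

theorem Ctx.card_normalizer :
    Nat.card (normalizer ((P : Subgroup G) : Set G)) = q * nidx P := by
  have h := Subgroup.relIndex_mul_relIndex ⊥ (P : Subgroup G) _ bot_le
    (le_normalizer (H := (P : Subgroup G)))
  rw [Subgroup.relIndex_bot_left, Subgroup.relIndex_bot_left, K.card_P P] at h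
  rw [nidx]
  exact h.symm

theorem Ctx.sylow_number : Nat.card (Sylow q G) * nidx P = 9 * 2 ^ a := by
  have h := H36.card_sylow_mul_normalizer P
  rw [K.card_normalizer P, K.card_G] at h
  apply Nat.eq_of_mul_eq_mul_left K.prime.pos
  rw [mul_comm q (9 * 2 ^ a), ← h]
  ring

theorem Ctx.s_modEq : 9 * 2 ^ a ≡ nidx P [MOD q] := by
  rw [← K.sylow_number P]
  conv_rhs => rw [← one_mul (nidx P)]
  exact (card_sylow_modEq_one q G).mul_right _

theorem Ctx.s_dvd : nidx P ∣ 9 * 2 ^ a := Dvd.intro_left _ (K.sylow_number P)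

/-- A full normalizer is impossible for `q = 2 ^ i + 1`. -/
theorem Ctx.s_ne_pred (hδ : K.δ = 1) : nidx P ≠ q - 1 := by
  intro hs
  classical
  haveI : Fintype ↥(P : Subgroup G) := Fintype.ofFinite _
  have hq : q = 2 ^ K.i + 1 := by
    have := K.q_eq
    rw [hδ] at this
    exact_mod_cast this
  set s := nidx P with hsdef
  have hs2 : s = 2 ^ K.i := hs.trans (Nat.sub_eq_of_eq_add hq)
  have heven : Even s := by rw [hs2]; exact Nat.even_pow.2 ⟨even_two, Nat.pos_iff_ne_zero.1 (lt_of_lt_of_le Nat.zero_lt_two K.two_le)⟩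
  obtain ⟨φ⟩ := exists_iso (K.card_P P)
  have hker := mem_ker_unitHom φ (K.central_P P)
  have hU : Nat.card (U φ) = s := (card_U φ (K.card_P P) (K.central_P P)).1
  haveI : IsCyclic (U φ) := inferInstance
  obtain ⟨⟨γ, n, hn⟩, hgen⟩ := IsCyclic.exists_generator (α := U φ)
  have hγord : orderOf γ = s := by
    have := orderOf_eq_card_of_forall_mem_zpowers hgen
    rw [hU] at this
    exact (orderOf_injective (U φ).subtype Subtype.val_injective _).trans this
  set f : normalizer ((P : Subgroup G) : Set G) := n ^ q with hf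
  have hfγ : unitHom φ f = γ := by
    have hp : γ ^ s = 1 := by rw [← hγord]; exact pow_orderOf_eq_one γ
    rw [hf, map_pow, hn, show γ ^ q = γ ^ (s + 1) from congrArg (γ ^ ·) (by omega), pow_succ, hp,
      one_mul]
  have hfs : f ^ s = 1 := by
    have hmem : ((n ^ s : normalizer ((P : Subgroup G) : Set G)) : G) ∈ (P : Subgroup G) := by
      rw [← hker, MonoidHom.mem_ker, map_pow, hn, ← hγord, pow_orderOf_eq_one]
    have h1 : (⟨_, hmem⟩ : ↥(P : Subgroup G)) ^ q = 1 := by
      have h0 := pow_card_eq_one' (x := (⟨_, hmem⟩ : ↥(P : Subgroup G)))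
      rwa [K.card_P P] at h0
    rw [hf, ← pow_mul, mul_comm, pow_mul]
    exact Subtype.ext (by simpa using congrArg Subtype.val h1)
  obtain ⟨d, ρ, hρ, he⟩ := K.Y.2
  -- the projection on the fixed points of `P` is zero
  set A : Module.End ℂ (Fin d → ℂ) := ∑ v : ↥(P : Subgroup G), ρ (v : G) with hA
  have hsum : ∑ v : ↥(P : Subgroup G), (K.Y : G → ℂ) v = 0 := by
    rw [← Finset.add_sum_erase _ _ (Finset.mem_univ 1),
      Finset.sum_congr rfl (fun v hv => K.Y_apply P v.2
        (fun h => Finset.ne_of_mem_erase hv (Subtype.ext h))),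
      Finset.sum_const, Finset.card_erase_of_mem (Finset.mem_univ _), Finset.card_univ,
      ← Nat.card_eq_fintype_card, K.card_P P, OneMemClass.coe_one, K.Y_one, hδ,
      show q - 1 = 2 ^ K.i by omega, nsmul_eq_mul]
    push_cast
    ring
  have hA0 : A = 0 := by
    let σ : Representation ℂ ↥(P : Subgroup G) (Fin d → ℂ) := ρ.comp (P : Subgroup G).subtype
    haveI : Invertible (Nat.card ↥(P : Subgroup G) : ℂ) :=
      invertibleOfNonzero (Nat.cast_ne_zero.2 Nat.card_pos.ne')
    have h := σ.card_inv_mul_sum_char_eq_finrank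
    rw [show ∑ v : ↥(P : Subgroup G), σ.character v = 0 from Eq.trans
      (Finset.sum_congr rfl fun v _ => congrFun he (v : G)) hsum, mul_zero] at h
    have hinv : σ.invariants = ⊥ := Submodule.finrank_eq_zero.1 (by exact_mod_cast h.symm)
    refine LinearMap.ext fun w => ?_
    have hmem : A w ∈ σ.invariants := fun u => by
      show ρ (u : G) (A w) = A w
      rw [hA, LinearMap.sum_apply, map_sum]
      refine Fintype.sum_equiv (Equiv.mulLeft u) _ _ fun v => ?_
      simp [map_mul]
    rw [hinv, Submodule.mem_bot] at hmem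
    exact hmem
  -- vanishing on `N(P)` outside `P`
  have hvan : ∀ g ∈ normalizer ((P : Subgroup G) : Set G), g ∉ (P : Subgroup G) →
      (K.Y : G → ℂ) g = 0 := by
    intro g hg hgP
    have hs0 : ∑ v : ↥(P : Subgroup G), (K.Y : G → ℂ) (g * v) = 0 := by
      have : ∑ v : ↥(P : Subgroup G), ρ (g * v) = 0 := by
        simp only [map_mul, ← Finset.mul_sum, ← hA, hA0, mul_zero]
      have h := congrArg (LinearMap.trace ℂ (Fin d → ℂ)) this
      rw [map_sum, map_zero] at h
      rw [← h]
      exact Finset.sum_congr rfl fun v _ => (congrFun he _).symm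
    have hmem : ∀ v : ↥(P : Subgroup G),
        g⁻¹ * (v : G) * g * (v : G)⁻¹ ∈ (P : Subgroup G) := fun v =>
      (P : Subgroup G).mul_mem ((mem_normalizer_iff''.1 hg v).1 v.2)
        ((P : Subgroup G).inv_mem v.2)
    let β : ↥(P : Subgroup G) → ↥(P : Subgroup G) := fun v => ⟨_, hmem v⟩
    have hβ : Function.Bijective β := by
      refine Finite.injective_iff_bijective.1 fun v w h => ?_
      have h' : g⁻¹ * (v : G) * g * (v : G)⁻¹ = g⁻¹ * (w : G) * g * (w : G)⁻¹ :=
        congrArg Subtype.val h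
      have hcommP : ∀ x y : ↥(P : Subgroup G), (x : G) * y = y * x := fun x y => by
        have := mem_centralizer_iff.1 ((SetLike.ext_iff.1 (K.central_P P) _).2 y.2) x x.2
        exact this
      set u : ↥(P : Subgroup G) := w⁻¹ * v with hu
      have hug : (u : G) * g = g * u := by
        have e1 : (w : G)⁻¹ * v * g = g * ((g⁻¹ * (w : G) * g)⁻¹ * (g⁻¹ * (v : G) * g)) := by group
        have hw' : (g⁻¹ * (w : G) * g * (w : G)⁻¹) * w = g⁻¹ * (w : G) * g := by group
        have hv' : (g⁻¹ * (w : G) * g * (w : G)⁻¹) * v = g⁻¹ * (v : G) * g := by rw [← h']; group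
        rw [hu, Subgroup.coe_mul, Subgroup.coe_inv, e1, ← hw', ← hv']
        group
      by_contra hne
      have hu1 : u ≠ 1 := fun h0 => hne (inv_mul_eq_one.1 (hu ▸ h0)).symm
      refine hgP ((SetLike.ext_iff.1 (K.central_P P) g).1 (mem_centralizer_iff.2 fun x hx => ?_))
      obtain ⟨k, hk⟩ : ∃ k : ℤ, u ^ k = ⟨x, hx⟩ := mem_zpowers_iff.1
        (mem_zpowers_of_prime_card (K.card_P P) hu1)
      have hk' : x = (u : G) ^ k := by rw [← Subgroup.coe_zpow, hk]
      rw [hk']
      exact (Commute.zpow_left hug k).eq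
    have hconst : ∀ v : ↥(P : Subgroup G), (K.Y : G → ℂ) (g * v) = (K.Y : G → ℂ) g := by
      intro v
      obtain ⟨w, rfl⟩ := hβ.2 v
      show (K.Y : G → ℂ) (g * (g⁻¹ * (w : G) * g * (w : G)⁻¹)) = _
      rw [show g * (g⁻¹ * (w : G) * g * (w : G)⁻¹) = (w : G) * g * (w : G)⁻¹ by group]
      exact CharBasic.IsIrr.isClassFunction K.Y.2 g w
    rw [Finset.sum_congr rfl fun v _ => hconst v, Finset.sum_const, Finset.card_univ,
      ← Nat.card_eq_fintype_card, K.card_P P, nsmul_eq_mul] at hs0
    exact (mul_eq_zero.1 hs0).resolve_left (Nat.cast_ne_zero.2 K.prime.ne_zero)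
  -- the eigenvalues of `f` are all `s`-th roots of unity
  obtain ⟨B, μ, hμ, -, -⟩ := exists_eigenbasis_rep ρ (f : G)
  have hd : d = s := by
    have := K.Y_one
    rw [← congrFun he 1, Representation.char_one, Module.finrank_fin_fun, ← hs2] at this
    exact_mod_cast this
  have hfin : Module.finrank ℂ (Fin d → ℂ) = s := by rw [Module.finrank_fin_fun, hd]
  have hpowb : ∀ (j : ℕ) k, ρ ((f : G) ^ j) (B k) = μ k ^ j • B k := by
    intro j k
    induction j with
    | zero => simp
    | succ j ih =>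
      rw [pow_succ, map_mul, Module.End.mul_apply, hμ, map_smul, ih, smul_smul, pow_succ, mul_comm]
  have hroot : ∀ k, μ k ^ s = 1 := by
    intro k
    have h := hpowb s k
    rw [show ((f : G) ^ s) = 1 by rw [← Subgroup.coe_pow, hfs, Subgroup.coe_one], map_one,
      Module.End.one_apply] at h
    by_contra hne
    exact B.ne_zero k ((smul_eq_zero.1 (show ((1 : ℂ) - μ k ^ s) • B k = 0 by
      rw [sub_smul, one_smul, ← h, sub_self])).resolve_left (sub_ne_zero.2 (Ne.symm hne)))
  have htr : ∀ j : ℕ, j < s → ∑ k, μ k ^ j = if j = 0 then (s : ℂ) else 0 := by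
    intro j hj
    rw [← trace_eq_sum_of_eigenbasis B _ (ρ ((f : G) ^ j)) (hpowb j)]
    show ρ.character ((f : G) ^ j) = _
    rw [congrFun he]
    split_ifs with h0
    · rw [h0, pow_zero, K.Y_one, hs2]
    · rw [← Subgroup.coe_pow]
      refine hvan _ (f ^ j).2 fun hmem => h0 ?_
      have := (hker (f ^ j)).2 hmem
      rw [MonoidHom.mem_ker, map_pow, hfγ] at this
      have hdvd := orderOf_dvd_of_pow_eq_one this
      rw [hγord] at hdvd
      exact Nat.eq_zero_of_dvd_of_lt hdvd hj
  have hs0 : 0 < s := by rw [hs2]; positivity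
  have hprim : IsPrimitiveRoot (Complex.exp (2 * Real.pi * Complex.I / s)) s :=
    Complex.isPrimitiveRoot_exp s hs0.ne'
  have hinj : ∀ z : ℂ, z ^ s = 1 → (Finset.univ.filter fun k => μ k = z).card = 1 := by
    intro z hz
    have hz0 : z ≠ 0 := by
      rintro rfl
      rw [zero_pow hs0.ne'] at hz
      exact zero_ne_one hz
    have hgeo : ∀ k, ∑ j ∈ Finset.range s, (μ k / z) ^ j = if μ k = z then (s : ℂ) else 0 := by
      intro k
      split_ifs with h
      · rw [h, div_self hz0]; simp
      · have hne : μ k / z ≠ 1 := fun h' => h ((div_eq_one_iff_eq hz0).1 h')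
        rw [geom_sum_eq hne, div_pow, hroot, hz, div_one, sub_self, zero_div]
    have h1 : ∑ k, ∑ j ∈ Finset.range s, (μ k / z) ^ j = (s : ℂ) := by
      rw [Finset.sum_comm]
      simp only [div_pow, ← Finset.sum_div]
      rw [Finset.sum_eq_single 0]
      · rw [htr 0 hs0, if_pos rfl, pow_zero, div_one]
      · intro j hj hj0
        rw [htr j (Finset.mem_range.1 hj), if_neg hj0, zero_div]
      · simp [hs0]
    simp only [hgeo, Finset.sum_ite, Finset.sum_const_zero, add_zero, Finset.sum_const,
      nsmul_eq_mul] at h1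
    have h2 : (Finset.univ.filter fun k => μ k = z).card * s = 1 * s := by
      rw [one_mul]; exact_mod_cast h1
    exact Nat.eq_of_mul_eq_mul_right hs0 h2
  have hprod : ∏ k, μ k = -1 := by
    have hmem : ∀ k ∈ (Finset.univ : Finset (Fin (Module.finrank ℂ (Fin d → ℂ)))),
        μ k ∈ Polynomial.nthRootsFinset s (1 : ℂ) := fun k _ =>
      (Polynomial.mem_nthRootsFinset hs0 _).2 (hroot k)
    rw [← Finset.prod_fiberwise_of_maps_to hmem μ,
      Finset.prod_congr rfl (g := fun z => z) fun z hz => by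
        obtain ⟨k, hk⟩ := Finset.card_eq_one.1 (hinj z ((Polynomial.mem_nthRootsFinset hs0 _).1 hz))
        rw [hk, Finset.prod_singleton]
        simpa using Finset.ext_iff.1 hk k]
    have h := congrArg (Polynomial.eval (0 : ℂ)) (Polynomial.X_pow_sub_one_eq_prod hs0 hprim)
    simp only [Polynomial.eval_sub, Polynomial.eval_pow, Polynomial.eval_X, Polynomial.eval_one,
      zero_pow hs0.ne', Polynomial.eval_prod, Polynomial.eval_C, zero_sub] at h
    rw [Finset.prod_neg, hprim.card_nthRootsFinset, heven.neg_one_pow, one_mul] at h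
    exact h.symm
  have hdet := H36.hom_comm_eq_one K.noncomm (MonoidHom.toHomUnits (LinearMap.det.comp ρ))
  have h1 : LinearMap.det (ρ (f : G)) = 1 := congrArg Units.val (DFunLike.congr_fun hdet (f : G))
  have hmat : LinearMap.toMatrix B B (ρ (f : G)) = Matrix.diagonal μ := by
    ext k l
    rw [LinearMap.toMatrix_apply, hμ, map_smul, Finsupp.smul_apply, B.repr_self, Matrix.diagonal_apply,
      smul_eq_mul, Finsupp.single_apply]
    by_cases h : k = l
    · subst h; simp
    · rw [if_neg h, if_neg (Ne.symm h), mul_zero]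
  rw [← LinearMap.det_toMatrix B, hmat, Matrix.det_diagonal, hprod] at h1
  norm_num at h1

end Cfsg.Agent.H33.NineTwoQ
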